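import Cfsg.Agent.Lib.HallHigman.Linear

/-!
# Eigenvectors moved regularly by a `p`-element
-/

set_option autoImplicit false
set_option linter.unusedSectionVars false

namespace Cfsg.Agent.HallHigman

open Polynomial Module

variable {k : Type*} [Field k] [IsAlgClosed k] {p : ℕ} [hp : Fact p.Prime] [hk : CharP k p]
variable {G : Type*} [Group G] [Finite G]
variable {V : Type*} [AddCommGroup V] [Module k V] [FiniteDimensional k V]

/-- A commuting family has a common eigenvector in every nonzero invariant subspace. -/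
theorem exists_common_eigen {α : Type*} (T : α → Module.End k V) (hT : ∀ a b, Commute (T a) (T b))
    (U : Submodule k V) (hU : U ≠ ⊥) (hinv : ∀ a, ∀ u ∈ U, T a u ∈ U) :
    ∃ v ∈ U, v ≠ 0 ∧ ∃ χ : α → k, ∀ a, T a v = χ a • v := by
  classical
  have hex : ∃ d, ∃ U' : Submodule k V, U' ≤ U ∧ U' ≠ ⊥ ∧ (∀ a, ∀ u ∈ U', T a u ∈ U') ∧
      finrank k U' = d := ⟨_, U, le_rfl, hU, hinv, rfl⟩
  obtain ⟨U', hle, hne, hinv', hd⟩ := Nat.find_spec hex
  haveI : Nontrivial U' := (Submodule.nontrivial_iff_ne_bot).mpr hne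
  have hsc : ∀ a, ∃ c : k, ∀ u ∈ U', T a u = c • u := by
    intro a
    obtain ⟨c, hc⟩ := Module.End.exists_eigenvalue ((T a).restrict (hinv' a))
    obtain ⟨u, hu⟩ := hc.exists_hasEigenvector
    let E : Submodule k V := U' ⊓ LinearMap.ker (T a - c • 1)
    have hE : E ≠ ⊥ := by
      intro hbot
      refine hu.2 (Subtype.ext ?_)
      have : (u : V) ∈ E := Submodule.mem_inf.mpr ⟨u.2, by
        rw [LinearMap.mem_ker, LinearMap.sub_apply, LinearMap.smul_apply, Module.End.one_apply,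
          sub_eq_zero]
        exact congrArg Subtype.val hu.apply_eq_smul⟩
      rw [hbot, Submodule.mem_bot] at this
      exact this
    have hEinv : ∀ b, ∀ v ∈ E, T b v ∈ E := by
      intro b v hvE
      obtain ⟨hv, hv'⟩ := Submodule.mem_inf.mp hvE
      refine Submodule.mem_inf.mpr ⟨hinv' b v hv, ?_⟩
      rw [LinearMap.mem_ker, LinearMap.sub_apply, LinearMap.smul_apply, Module.End.one_apply,
        sub_eq_zero] at hv' ⊢
      rw [← Module.End.mul_apply, (hT a b).eq, Module.End.mul_apply, hv', map_smul]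
    have hmin := Nat.find_min' hex (m := finrank k E)
      ⟨E, inf_le_left.trans hle, hE, hEinv, rfl⟩
    have heq : E = U' := Submodule.eq_of_le_of_finrank_le inf_le_left (by omega)
    refine ⟨c, fun v hv => ?_⟩
    rw [← heq] at hv
    have h := (Submodule.mem_inf.mp hv).2
    rwa [LinearMap.mem_ker, LinearMap.sub_apply, LinearMap.smul_apply, Module.End.one_apply,
      sub_eq_zero] at h
  choose χ hχ using hsc
  obtain ⟨v, hv, hv0⟩ := Submodule.exists_mem_ne_zero_of_ne_bot hne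
  exact ⟨v, hle hv, hv0, χ, fun a => hχ a v hv⟩

/-- A member of finite order prime to the characteristic of a commuting family, other than one,
has an eigenvalue other than one on a common eigenvector. -/
theorem exists_eigen_ne_one {α : Type*} (T : α → Module.End k V) (hT : ∀ a b, Commute (T a) (T b))
    (a₀ : α) {m : ℕ} (hm : (m : k) ≠ 0) (hord : T a₀ ^ m = 1) (hne : T a₀ ≠ 1) :
    ∃ v : V, v ≠ 0 ∧ ∃ χ : α → k, (∀ a, T a v = χ a • v) ∧ χ a₀ ≠ 1 := by
  set S : Module.End k V := ∑ i ∈ Finset.range m, T a₀ ^ i with hS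
  have hUne : LinearMap.ker S ≠ ⊥ := by
    intro hbot
    refine hne (sub_eq_zero.mp (LinearMap.ext fun v => ?_))
    refine LinearMap.ker_eq_bot.mp hbot ?_
    rw [← Module.End.mul_apply, hS, geom_sum_mul, hord, sub_self]
    simp
  obtain ⟨v, hv, hv0, χ, hχ⟩ := exists_common_eigen T hT (LinearMap.ker S) hUne fun a u hu => by
    rw [LinearMap.mem_ker] at hu ⊢
    have hc : Commute S (T a) :=
      Commute.sum_left _ _ _ fun i _ => (hT a₀ a).pow_left i
    rw [← Module.End.mul_apply, hc.eq, Module.End.mul_apply, hu, map_zero]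
  refine ⟨v, hv0, χ, hχ, fun h1 => hm ?_⟩
  have hpow : ∀ i : ℕ, (T a₀ ^ i) v = v := by
    intro i
    induction i with
    | zero => rfl
    | succ i ih => rw [pow_succ', Module.End.mul_apply, ih, hχ, h1, one_smul]
  rw [LinearMap.mem_ker, hS, LinearMap.sum_apply, Finset.sum_congr rfl fun i _ => hpow i,
    Finset.sum_const, Finset.card_range, ← Nat.cast_smul_eq_nsmul k] at hv
  exact (smul_eq_zero.mp hv).resolve_right hv0

/-- A submonoid containing a smaller power of `y` contains the last nontrivial power of `y`. -/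
theorem pow_pred_mem {y : G} {e d : ℕ} (hy : y ^ p ^ e = 1) (hd0 : 0 < d) (hd : d < p ^ e)
    (S : Submonoid G) (hmem : y ^ d ∈ S) : y ^ p ^ (e - 1) ∈ S := by
  obtain ⟨i, u, hu, rfl⟩ := Nat.exists_eq_pow_mul_and_not_dvd hd0.ne' p hp.out.ne_one
  have hie : i < e := by
    by_contra hle
    push Not at hle
    have h1 : p ^ e ≤ p ^ i * u := by
      refine (Nat.pow_le_pow_right hp.out.pos hle).trans ?_
      exact Nat.le_mul_of_pos_right _ (Nat.pos_of_ne_zero fun h => hu (h ▸ dvd_zero p))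
    omega
  have hcop : u.Coprime (p ^ e) :=
    ((hp.out.coprime_iff_not_dvd.mpr hu).pow_left e).symm
  obtain ⟨m, -, hm⟩ := Nat.exists_mul_mod_eq_one_of_coprime hcop
    (Nat.one_lt_pow (by omega) hp.out.one_lt)
  have h2 := pow_mem hmem (m * p ^ (e - 1 - i))
  rw [← pow_mul] at h2
  have hexp : p ^ i * u * (m * p ^ (e - 1 - i)) = p ^ (e - 1) * (u * m) := by
    rw [show p ^ (e - 1) = p ^ i * p ^ (e - 1 - i) by rw [← pow_add]; congr 1; omega]
    ring
  rw [hexp, ← Nat.div_add_mod (u * m) (p ^ e), hm, mul_add, mul_one, pow_add, mul_left_comm,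
    pow_mul, hy, one_pow, one_mul] at h2
  exact h2

theorem rho_ne_zero (ρ : G →* Module.End k V) (g : G) {v : V} (hv : v ≠ 0) : ρ g v ≠ 0 := by
  intro h
  apply hv
  have h1 := congrArg (ρ g⁻¹) h
  rwa [← Module.End.mul_apply, ← map_mul, inv_mul_cancel, map_one, Module.End.one_apply,
    map_zero] at h1

/-- Translates with pairwise different characters have a nonzero sum. -/
theorem sum_translates_ne_zero (ρ : G →* Module.End k V) (x : G) {t : ℕ} (ht : 0 < t)
    (A : Subgroup G) (hx : x ∈ Subgroup.normalizer (A : Set G)) (χ : G → k) {w : V} (hw : w ≠ 0)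
    (hχ : ∀ a ∈ A, ρ a w = χ a • w)
    (hdist : ∀ d, 0 < d → d < t → ∃ a ∈ A, χ (x ^ d * a * (x ^ d)⁻¹) ≠ χ a) :
    (∑ i ∈ Finset.range t, ρ (x ^ i)) w ≠ 0 := by
  have hn : ∀ (i : ℕ) {a : G}, a ∈ A → (x ^ i)⁻¹ * a * x ^ i ∈ A := fun i a ha => by
    have := (Subgroup.mem_normalizer_iff.mp (inv_mem (pow_mem hx i)) a).mp ha
    rwa [inv_inv] at this
  have hinj : Function.Injective fun (i : Fin t) (a : A) =>
      χ ((x ^ (i : ℕ))⁻¹ * (a : G) * x ^ (i : ℕ)) := by
    have key : ∀ i j : Fin t, (i : ℕ) ≤ j →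
        ((fun a : A => χ ((x ^ (i : ℕ))⁻¹ * (a : G) * x ^ (i : ℕ))) =
          fun a : A => χ ((x ^ (j : ℕ))⁻¹ * (a : G) * x ^ (j : ℕ))) → i = j := by
      intro i j hij h
      by_contra hne
      have hne' : (i : ℕ) ≠ j := fun h => hne (Fin.ext h)
      obtain ⟨a, ha, hne2⟩ := hdist ((j : ℕ) - i) (by omega) (by omega)
      have hj : x ^ (j : ℕ) = x ^ (i : ℕ) * x ^ ((j : ℕ) - i) := by
        rw [← pow_add]; congr 1; omega
      have hmem : x ^ (j : ℕ) * a * (x ^ (j : ℕ))⁻¹ ∈ A :=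
        (Subgroup.mem_normalizer_iff.mp (pow_mem hx _) a).mp ha
      have h2 := congrFun h ⟨_, hmem⟩
      simp only at h2
      apply hne2
      rw [show (x ^ (j : ℕ))⁻¹ * (x ^ (j : ℕ) * a * (x ^ (j : ℕ))⁻¹) * x ^ (j : ℕ) = a by group] at h2
      rw [← h2, hj]
      congr 1
      group
    intro i j h
    rcases le_total (i : ℕ) j with hij | hij
    · exact key i j hij h
    · exact (key j i hij h.symm).symm
  intro hsum
  have h0 := eq_zero_of_sum_eigen (fun a : A => ρ (a : G))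
    (fun (i : Fin t) (a : A) => χ ((x ^ (i : ℕ))⁻¹ * (a : G) * x ^ (i : ℕ))) hinj
    (fun i => ρ (x ^ (i : ℕ)) w) (fun i a => by
      rw [← Module.End.mul_apply, ← map_mul,
        show (a : G) * x ^ (i : ℕ) = x ^ (i : ℕ) * ((x ^ (i : ℕ))⁻¹ * (a : G) * x ^ (i : ℕ)) by
          group,
        map_mul, Module.End.mul_apply, hχ _ (hn i a.2), map_smul])
    Finset.univ (by
      rw [LinearMap.sum_apply] at hsum
      rw [Fin.sum_univ_eq_sum_range (fun i => ρ (x ^ i) w) t]
      exact hsum) ⟨0, ht⟩ (Finset.mem_univ _)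
  exact rho_ne_zero ρ _ hw h0

/-- A `p`-element moving a commuting family of `p'`-elements regularly has full minimal degree. -/
theorem full_degree_of_abelian (ρ : G →* Module.End k V) (A : Subgroup G) (y : G) {e : ℕ}
    (hy : y ∈ Subgroup.normalizer (A : Set G)) (hyN : y ^ p ^ e = 1)
    (hcomm : ∀ a ∈ A, ∀ b ∈ A, Commute (ρ a) (ρ b)) (hcop : ∀ a ∈ A, (orderOf a : k) ≠ 0)
    (hz : ∃ a ∈ A, ρ (y ^ p ^ (e - 1) * a * (y ^ p ^ (e - 1))⁻¹) ≠ ρ a) :
    (ρ y - 1) ^ (p ^ e - 1) ≠ 0 := by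
  classical
  obtain ⟨a, ha, hne⟩ := hz
  set z := y ^ p ^ (e - 1)
  have hc : z * a * z⁻¹ * a⁻¹ ∈ A :=
    mul_mem ((Subgroup.mem_normalizer_iff.mp (pow_mem hy _) a).mp ha) (inv_mem ha)
  obtain ⟨v, hv0, χ, hχ, hχ1⟩ := exists_eigen_ne_one (fun b : A => ρ (b : G))
    (fun b c => hcomm b b.2 c c.2) ⟨_, hc⟩ (hcop _ hc)
    (by rw [← map_pow, pow_orderOf_eq_one, map_one]) (by
      intro h1
      apply hne
      have h2 := congrArg (· * ρ a) h1
      rwa [one_mul, ← map_mul, inv_mul_cancel_right] at h2)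
  let χ' : G → k := fun g => if h : g ∈ A then χ ⟨g, h⟩ else 0
  have hχ' : ∀ b ∈ A, ρ b v = χ' b • v := fun b hb => by
    simp only [χ', dif_pos hb]; exact hχ ⟨b, hb⟩
  let Stab : Submonoid G :=
    { carrier := {g | ∀ b ∈ A, g * b * g⁻¹ ∈ A ∧ χ' (g * b * g⁻¹) = χ' b}
      one_mem' := fun b hb => by simp [hb]
      mul_mem' := fun {g h} hg hh b hb => by
        obtain ⟨h1, h2⟩ := hh b hb
        obtain ⟨g1, g2⟩ := hg _ h1
        rw [show g * h * b * (g * h)⁻¹ = g * (h * b * h⁻¹) * g⁻¹ by group]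
        exact ⟨g1, g2.trans h2⟩ }
  have hdist : ∀ d, 0 < d → d < p ^ e → ∃ b ∈ A, χ' (y ^ d * b * (y ^ d)⁻¹) ≠ χ' b := by
    intro d hd0 hd
    by_contra hall
    push Not at hall
    have hzS : z ∈ Stab := pow_pred_mem hyN hd0 hd Stab fun b hb =>
      ⟨(Subgroup.mem_normalizer_iff.mp (pow_mem hy d) b).mp hb, hall b hb⟩
    refine hχ1 ?_
    obtain ⟨h1, h2⟩ := hzS a ha
    have e1 : (χ' (z * a * z⁻¹ * a⁻¹) * χ' a) • v = χ' (z * a * z⁻¹) • v := by
      rw [← hχ' _ h1, mul_smul, smul_comm, ← hχ' _ hc, ← map_smul, ← hχ' _ ha,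
        ← Module.End.mul_apply, ← map_mul, inv_mul_cancel_right]
    have e2 := smul_left_injective k hv0 e1
    rw [h2] at e2
    have ha0 : χ' a ≠ 0 := fun h0 => rho_ne_zero ρ a hv0 (by rw [hχ' a ha, h0, zero_smul])
    have e3 := (mul_eq_right₀ ha0).mp e2
    simpa [χ', dif_pos hc] using e3
  intro h0
  refine sum_translates_ne_zero ρ y (pow_pos hp.out.pos e) A hy χ' hv0 hχ' hdist ?_
  rw [Finset.sum_congr rfl (fun i _ => map_pow ρ y i), ← sub_one_pow_pred (k := k) (ρ y) e, h0]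
  rfl

end Cfsg.Agent.HallHigman
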