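import Cfsg.Agent.Lib.HallHigman.Main
import Cfsg.Agent.Lib.Transfer.StableCore
import Cfsg.Agent.Lib.Transfer.Constrained

/-!
# The Frattini quotient of `O_p(G)` as a module
-/

set_option autoImplicit false
set_option linter.unusedSectionVars false
set_option linter.style.haveILetI false

namespace Cfsg.Agent.HallHigman

open Module Subgroup
open scoped commutatorElement IsMulCommutative TensorProduct

universe u

/-- Theorem B over an arbitrary field, without the algebraic closure. -/
theorem hall_higman_B_field {F : Type*} [Field F] {p : ℕ} [hp : Fact p.Prime] [CharP F p]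
    {H : Type u} [Group H] [Finite H] {V : Type*} [AddCommGroup V] [Module F V]
    [FiniteDimensional F V] (ρ : H →* Module.End F V) (hρ : Function.Injective ρ)
    (hsol : IsPSolvable p H) (hO : pCore p H = ⊥) (x : H) {n : ℕ} (hn : orderOf x = p ^ n)
    (hn1 : 1 ≤ n) :
    (ρ x - 1) ^ (p ^ n - 1) ≠ 0 ∨ ∃ n₀ q m : ℕ, 1 ≤ n₀ ∧ n₀ ≤ n ∧ q.Prime ∧ 1 ≤ m ∧
      p ^ n₀ - 1 = q ^ m ∧ (∀ Q : Sylow q H, ¬ IsMulCommutative Q) ∧
      (ρ x - 1) ^ (p ^ (n - n₀) * (p ^ n₀ - 1) - 1) ≠ 0 := by
  classical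
  let k := AlgebraicClosure F
  haveI : CharP k p := charP_of_injective_algebraMap (algebraMap F k).injective p
  let ρ' : H →* Module.End k (k ⊗[F] V) :=
    { toFun := fun g => LinearMap.baseChange k (ρ g)
      map_one' := by rw [map_one, Module.End.one_eq_id, LinearMap.baseChange_id]; rfl
      map_mul' := fun a b => by
        rw [map_mul, Module.End.mul_eq_comp, LinearMap.baseChange_comp]; rfl }
  let b := Module.finBasis F V
  have hinj : ∀ f g : V →ₗ[F] V, f.baseChange k = g.baseChange k → f = g := by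
    intro f g h
    refine b.ext fun i => b.repr.injective (Finsupp.ext fun j => ?_)
    have h2 := congrArg (fun T => (b.baseChange k).repr (T (1 ⊗ₜ[F] b i)) j) h
    simp only [LinearMap.baseChange_tmul, Module.Basis.baseChange_repr_tmul, Algebra.smul_def,
      mul_one] at h2
    exact (algebraMap F k).injective h2
  have hρ' : Function.Injective ρ' := fun a b h => hρ (hinj _ _ h)
  have hpow : ∀ m : ℕ, (ρ' x - 1) ^ m = ((ρ x - 1) ^ m).baseChange k := by
    intro m
    induction m with
    | zero => rw [pow_zero, pow_zero, Module.End.one_eq_id, Module.End.one_eq_id,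
        LinearMap.baseChange_id]
    | succ m ih =>
      rw [pow_succ, pow_succ, ih, Module.End.mul_eq_comp, Module.End.mul_eq_comp,
        LinearMap.baseChange_comp, LinearMap.baseChange_sub, Module.End.one_eq_id,
        Module.End.one_eq_id, LinearMap.baseChange_id]
      rfl
  have hne : ∀ m, (ρ' x - 1) ^ m ≠ 0 → (ρ x - 1) ^ m ≠ 0 := fun m h h0 =>
    h (by rw [hpow, h0, LinearMap.baseChange_zero])
  rcases hall_higman_B ρ' hρ' hsol hO x hn hn1 with h | ⟨n₀, q, m, h1, h2, h3, h4, h5, h6, h7⟩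
  · exact Or.inl (hne _ h)
  · exact Or.inr ⟨n₀, q, m, h1, h2, h3, h4, h5, h6, hne _ h7⟩

variable {p : ℕ} [hp : Fact p.Prime] {G : Type u} [Group G] [Finite G]

/-- `Φ(O_p(G))` inside `G`. -/
abbrev phiCore (p : ℕ) (G : Type u) [Group G] : Subgroup G :=
  (frattini ↥(pCore p G)).map (pCore p G).subtype

instance phiCore_normal : (phiCore p G).Normal := inferInstance

/-- `O_p(G)/Φ(O_p(G))` inside `G/Φ(O_p(G))`. -/
abbrev coreModule (p : ℕ) [Fact p.Prime] (G : Type u) [Group G] [Finite G] :
    Subgroup (G ⧸ phiCore p G) :=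
  (pCore p G).map (QuotientGroup.mk' (phiCore p G))

instance coreModule_normal : (coreModule p G).Normal :=
  Normal.map inferInstance _ (QuotientGroup.mk'_surjective _)

instance coreModule_comm : IsMulCommutative ↥(coreModule p G) := ⟨⟨by
  rintro ⟨_, a, ha, rfl⟩ ⟨_, b, hb, rfl⟩
  refine Subtype.ext (commutatorElement_eq_one_iff_commute.mp ?_).eq
  rw [← map_commutatorElement]
  refine (QuotientGroup.eq_one_iff _).mpr ⟨⁅(⟨a, ha⟩ : pCore p G), ⟨b, hb⟩⁆, ?_, rfl⟩
  haveI : Group.IsNilpotent (pCore p G) := (Basics.pCore_isPGroup p).isNilpotent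
  exact Basics.commutator_le_frattini (commutator_mem_commutator (mem_top _) (mem_top _))⟩⟩

theorem coreModule_pow_eq_one (v : ↥(coreModule p G)) : v ^ p = 1 := by
  obtain ⟨_, a, ha, rfl⟩ := v
  refine Subtype.ext ?_
  rw [SubgroupClass.coe_pow, OneMemClass.coe_one, ← map_pow]
  exact (QuotientGroup.eq_one_iff _).mpr
    ⟨⟨a, ha⟩ ^ p, Basics.pow_mem_frattini (Basics.pCore_isPGroup p) _, rfl⟩

noncomputable instance coreModule_module : Module (ZMod p) (Additive ↥(coreModule p G)) :=
  AddCommGroup.zmodModule fun x => coreModule_pow_eq_one (p := p) x.toMul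

/-- Automorphisms of the module as linear maps. -/
noncomputable def autToEnd : MulAut ↥(coreModule p G) →* Module.End (ZMod p) (Additive ↥(coreModule p G)) where
  toFun σ := (MonoidHom.toAdditive σ.toMonoidHom).toZModLinearMap p
  map_one' := rfl
  map_mul' _ _ := rfl

/-- The action of `G` on `O_p(G)/Φ(O_p(G))`. -/
noncomputable def coreRep (p : ℕ) [Fact p.Prime] (G : Type u) [Group G] [Finite G] :
    G →* Module.End (ZMod p) (Additive ↥(coreModule p G)) :=
  autToEnd.comp (MulAut.conjNormal.comp (QuotientGroup.mk' (phiCore p G)))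

theorem coreRep_apply (g : G) (v : Additive ↥(coreModule p G)) :
    ((coreRep p G g v).toMul : G ⧸ phiCore p G) =
      QuotientGroup.mk' _ g * (v.toMul : G ⧸ phiCore p G) * (QuotientGroup.mk' _ g)⁻¹ :=
  rfl

theorem coreRep_eq_one_iff (hcX : centralizer (pCore p G : Set G) ≤ pCore p G) (g : G) :
    coreRep p G g = 1 ↔ g ∈ pCore p G := by
  have h : sectionKernel (pCore p G) (phiCore p G) = pCore p G :=
    Transfer.sectionKernel_frattini_eq hcX
  rw [show g ∈ pCore p G ↔ g ∈ sectionKernel (pCore p G) (phiCore p G) by rw [h], sectionKernel,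
    mem_comap, mem_centralizer_iff]
  constructor
  · intro h1 v hv
    have h2 := congrArg (fun T => ((T (Additive.ofMul (⟨v, hv⟩ : coreModule p G))).toMul :
      G ⧸ phiCore p G)) h1
    simp only [coreRep_apply] at h2
    exact (mul_inv_eq_iff_eq_mul.mp h2).symm
  · intro h1
    refine LinearMap.ext fun v => ?_
    refine Additive.toMul.injective (Subtype.ext ?_)
    rw [coreRep_apply, Module.End.one_apply, ← h1 _ v.toMul.2, mul_inv_cancel_right]

/-- The powers of `v x` in the quotient by `Φ(O_p(G))`. -/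
theorem mk_mul_pow (x v : G) (hv : v ∈ pCore p G) (m : ℕ) :
    QuotientGroup.mk' (phiCore p G) ((v * x) ^ m) =
      ((∑ i ∈ Finset.range m, (coreRep p G x ^ i)
        (Additive.ofMul (⟨QuotientGroup.mk' _ v, mem_map_of_mem _ hv⟩ : coreModule p G))).toMul :
          G ⧸ phiCore p G) * QuotientGroup.mk' _ (x ^ m) := by
  induction m with
  | zero => simp
  | succ m ih =>
    rw [pow_succ, map_mul, ih, Finset.sum_range_succ, toMul_add, Subgroup.coe_mul,
      ← map_pow (coreRep p G), coreRep_apply, map_mul]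
    change _ * _ * (_ * _) =
      _ * (_ * ((QuotientGroup.mk' (phiCore p G)) v) * _) * QuotientGroup.mk' _ (x ^ (m + 1))
    rw [pow_succ x m, map_mul]
    simp [mul_assoc]

/-- Full degree on the module gives a larger order. -/
theorem exists_pow_ne_one_of_degree {x : G} {n : ℕ}
    (hdeg : (coreRep p G x - 1) ^ (p ^ n - 1) ≠ 0) (S : Sylow p G) (hx : x ∈ (S : Subgroup G)) :
    ∃ g ∈ (S : Subgroup G), g ^ p ^ n ≠ 1 := by
  obtain ⟨v, hv⟩ : ∃ v, ((coreRep p G x - 1) ^ (p ^ n - 1)) v ≠ 0 := by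
    by_contra hall
    push Not at hall
    exact hdeg (LinearMap.ext hall)
  obtain ⟨a, ha, hav⟩ := v.toMul.2
  have hvs : v = Additive.ofMul (⟨QuotientGroup.mk' _ a, mem_map_of_mem _ ha⟩ : coreModule p G) :=
    Additive.toMul.injective (Subtype.ext hav.symm)
  by_cases hxN : x ^ p ^ n = 1
  · refine ⟨a * x, mul_mem (Basics.pCore_le_sylow p S ha) hx, fun h => hv ?_⟩
    have h1 := mk_mul_pow x a ha (p ^ n)
    rw [h, hxN, map_one, mul_one] at h1
    rw [sub_one_pow_pred (k := ZMod p), LinearMap.sum_apply, hvs]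
    exact Additive.toMul.injective (Subtype.ext h1.symm)
  · exact ⟨x, hx, hxN⟩

/-- The exponent of a Sylow subgroup drops modulo `O_p` outside the exceptional case. -/
theorem exponent_drop (hsol : IsPSolvable p G) (hO : pPrimeCore p G = ⊥) (S : Sylow p G) {e : ℕ}
    (he : 1 ≤ e) (hexp : ∀ y ∈ (S : Subgroup G), y ^ p ^ e = 1)
    (hexc : ∀ n₀ q m : ℕ, 1 ≤ n₀ → q.Prime → 1 ≤ m → p ^ n₀ - 1 = q ^ m →
      ∃ Q : Sylow q (G ⧸ pCore p G), IsMulCommutative Q) :
    ∀ x ∈ (S : Subgroup G), x ^ p ^ (e - 1) ∈ pCore p G := by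
  intro x hx
  by_contra hxe
  haveI : (pCore p G).Normal := Basics.pCore_normal p
  have hcX := Transfer.centralizer_pCore_le_of_pSolvable hO (Transfer.isPSolvable_subgroup' hsol _)
  let ρ : G ⧸ pCore p G →* Module.End (ZMod p) (Additive ↥(coreModule p G)) :=
    QuotientGroup.lift (pCore p G) (coreRep p G) fun g hg =>
      MonoidHom.mem_ker.mpr ((coreRep_eq_one_iff hcX g).mpr hg)
  have hρ : Function.Injective ρ := by
    refine (injective_iff_map_eq_one ρ).mpr fun g hg => ?_
    induction g using QuotientGroup.induction_on with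
    | H g => exact (QuotientGroup.eq_one_iff g).mpr ((coreRep_eq_one_iff hcX g).mp hg)
  have hord : orderOf (QuotientGroup.mk x : G ⧸ pCore p G) = p ^ e := by
    obtain ⟨n, hn⟩ : ∃ n, orderOf (QuotientGroup.mk x : G ⧸ pCore p G) = p ^ n := by
      have hd : orderOf (QuotientGroup.mk x : G ⧸ pCore p G) ∣ p ^ e :=
        orderOf_dvd_of_pow_eq_one (by rw [← QuotientGroup.mk_pow, hexp x hx, QuotientGroup.mk_one])
      obtain ⟨n, -, hn⟩ := (Nat.dvd_prime_pow hp.out).mp hd
      exact ⟨n, hn⟩
    have hne : e = n := by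
      by_contra hne
      have hd : p ^ n ∣ p ^ e := hn ▸ orderOf_dvd_of_pow_eq_one
        (by rw [← QuotientGroup.mk_pow, hexp x hx, QuotientGroup.mk_one])
      have hle := (Nat.pow_dvd_pow_iff_le_right hp.out.one_lt).mp hd
      refine hxe ((QuotientGroup.eq_one_iff _).mp ?_)
      rw [QuotientGroup.mk_pow]
      exact orderOf_dvd_iff_pow_eq_one.mp (hn ▸ pow_dvd_pow p (by omega))
    rw [hn, hne]
  have hfd : FiniteDimensional (ZMod p) (Additive ↥(coreModule p G)) := Module.Finite.of_finite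
  have hOp : pCore p (G ⧸ pCore p G) = ⊥ := Basics.pCore_quotient_eq_bot p
  have hsol' := Coprime23.isPSolvable_map (QuotientGroup.mk' (pCore p G))
    (QuotientGroup.mk'_surjective _) hsol
  rcases hall_higman_B_field (H := G ⧸ pCore p G) ρ hρ hsol' hOp _ hord he with
    h | ⟨n₀, q, m, h1, -, h3, h4, h5, h6, -⟩
  · obtain ⟨g, hg, hg1⟩ := exists_pow_ne_one_of_degree (x := x) h S hx
    exact hg1 (hexp g hg)
  · obtain ⟨Q, hQ⟩ := hexc n₀ q m h1 h3 h4 h5
    exact h6 Q hQ

end Cfsg.Agent.HallHigman
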