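import Cfsg.Agent.Lib.HallHigman.Symplectic
import Cfsg.Agent.Lib.Basics.CoprimeAction

/-!
# The symplectic case of the theorem of Hall and Higman
-/

set_option autoImplicit false
set_option linter.unusedSectionVars false
set_option linter.style.haveILetI false

namespace Cfsg.Agent.HallHigman

open Module
open scoped commutatorElement

variable {k : Type*} [Field k] [IsAlgClosed k] {p : ℕ} [hp : Fact p.Prime] [hk : CharP k p]
variable {G : Type*} [Group G] [Finite G]
variable {V : Type*} [AddCommGroup V] [Module k V] [FiniteDimensional k V]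

/-- Every endomorphism commuting with `y` is a scalar plus a trace, when `y` permutes a basis
freely up to scalars away from one vector spanning the scalars. -/
theorem fix_eq_scalar_add_trace {E : Type*} [Ring E] [Algebra k E] {ι : Type*} [Fintype ι]
    (b : Basis ι k E) (i0 : ι) (hb0 : ∃ c : k, b i0 = c • 1) (Y : E) {e : ℕ}
    (hYN : Y ^ p ^ e = 1) (π : ℕ → ι → ι) (hπ0 : ∀ u, π 0 u = u) (hπN : ∀ u, π (p ^ e) u = u)
    (hπadd : ∀ i j u, π i (π j u) = π (i + j) u) (hπi0 : ∀ i, π i i0 = i0)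
    (hfree : ∀ d u, 0 < d → d < p ^ e → π d u = u → u = i0)
    (hconj : ∀ i u, i < p ^ e → ∃ c : k, Y ^ i * b u * Y ^ (p ^ e - i) = c • b (π i u)) :
    ∀ X : E, Commute X Y →
      ∃ (c : k) (A : E), X = c • 1 + ∑ i ∈ Finset.range (p ^ e), Y ^ i * A * Y ^ (p ^ e - i) := by
  classical
  intro X hX
  set N := p ^ e with hNdef
  have hN : 0 < N := pow_pos hp.out.pos e
  let eι := Fintype.equivFin ι
  let w : ι → k := fun u => if u ≠ i0 ∧ ∀ i < N, eι u ≤ eι (π i u) then 1 else 0
  -- the weights sum to one on every free orbit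
  have hperiod : ∀ j u, π (j % N) u = π j u := by
    intro j u
    conv_rhs => rw [← Nat.mod_add_div j N]
    induction j / N with
    | zero => simp
    | succ m ih => rw [Nat.mul_succ, ← add_assoc, ← hπadd, hπN, ← ih]
  have hw : ∀ v, v ≠ i0 → ∑ i ∈ Finset.range N, w (π i v) = 1 := by
    intro v hv
    obtain ⟨m, hm, hmin⟩ := Finset.exists_min_image (Finset.range N) (fun i => eι (π i v))
      ⟨0, Finset.mem_range.mpr hN⟩
    have hne : ∀ i, π i v ≠ i0 := by
      intro i hi
      refine hv ?_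
      have h1 : π (N - i % N) (π (i % N) v) = v := by
        rw [hπadd, Nat.sub_add_cancel (Nat.mod_lt i hN).le, hπN]
      rw [hperiod, hi, hπi0] at h1
      exact h1.symm
    rw [Finset.sum_eq_single m]
    · refine if_pos ⟨hne m, fun i _ => ?_⟩
      rw [hπadd, ← hperiod (i + m)]
      exact hmin _ (Finset.mem_range.mpr (Nat.mod_lt _ hN))
    · intro i hi him
      refine if_neg fun h => him ?_
      obtain ⟨-, h⟩ := h
      have hmN := Finset.mem_range.mp hm
      have hiN := Finset.mem_range.mp hi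
      have h1 := h ((N - i + m) % N) (Nat.mod_lt _ hN)
      rw [hperiod, hπadd, show N - i + m + i = m + N by omega, ← hπadd, hπN] at h1
      have h2 : π i v = π m v := eι.injective (le_antisymm h1 (hmin i hi))
      by_contra hne'
      rcases Nat.lt_or_ge i m with hlt | hge
      · refine hne i (hfree (m - i) _ (by omega) (by omega) ?_)
        rw [hπadd, Nat.sub_add_cancel hlt.le, h2]
      · refine hne m (hfree (i - m) _ (by omega) (by omega) ?_)
        rw [hπadd, Nat.sub_add_cancel hge, h2]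
    · exact fun h => absurd hm h
  choose α hα using hconj
  -- coordinates of `X` along orbits
  have hXi : ∀ i, i < N → Y ^ i * X * Y ^ (N - i) = X := by
    intro i hi
    rw [← (hX.pow_right i).eq, mul_assoc, ← pow_add, Nat.add_sub_cancel' hi.le, hYN, mul_one]
  have hcoef : ∀ i (hi : i < N) u, b.repr X u * α i u hi = b.repr X (π i u) := by
    intro i hi u
    have h : b.repr (Y ^ i * X * Y ^ (N - i)) (π i u) = b.repr X (π i u) := by rw [hXi i hi]
    conv_lhs at h => rw [← b.sum_repr X]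
    simp only [Finset.mul_sum, Finset.sum_mul, mul_smul_comm, smul_mul_assoc, hα i _ hi, map_sum,
      map_smul, Finsupp.coe_finsetSum, Finset.sum_apply, Finsupp.coe_smul, Pi.smul_apply,
      smul_eq_mul] at h
    rw [← h, Finset.sum_eq_single u]
    · rw [b.repr_self, Finsupp.single_eq_same, mul_one]
    · intro v _ hvu
      rw [b.repr_self, Finsupp.single_eq_of_ne, mul_zero, mul_zero]
      intro heq
      apply hvu
      have h1 := congrArg (π (N - i)) heq
      rw [hπadd, hπadd, Nat.sub_add_cancel hi.le, hπN, hπN] at h1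
      exact h1.symm
    · exact fun h => absurd (Finset.mem_univ _) h
  obtain ⟨c0, hc0⟩ := hb0
  refine ⟨b.repr X i0 * c0, ∑ u, (w u * b.repr X u) • b u, ?_⟩
  have hsum : ∑ i ∈ Finset.range N, Y ^ i * (∑ u, (w u * b.repr X u) • b u) * Y ^ (N - i) =
      ∑ v, ((∑ i ∈ Finset.range N, w (π ((N - i) % N) v)) * b.repr X v) • b v := by
    simp only [Finset.sum_mul, Finset.sum_smul]
    rw [Finset.sum_comm (s := Finset.univ)]
    refine Finset.sum_congr rfl fun i hi => ?_
    have hi' := Finset.mem_range.mp hi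
    simp only [Finset.mul_sum, Finset.sum_mul, mul_smul_comm, smul_mul_assoc, hα i _ hi', smul_smul]
    refine Finset.sum_bij' (fun u _ => π i u) (fun v _ => π ((N - i) % N) v) (fun _ _ => Finset.mem_univ _)
      (fun _ _ => Finset.mem_univ _) ?_ ?_ ?_
    · intro u _
      rw [hperiod, hπadd, Nat.sub_add_cancel hi'.le, hπN]
    · intro v _
      rw [hperiod, hπadd, Nat.add_sub_cancel' hi'.le, hπN]
    · intro u _
      rw [mul_assoc, hcoef i hi' u, hperiod, hπadd, Nat.sub_add_cancel hi'.le, hπN]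
  rw [hsum]
  have hneg : ∀ v, ∑ i ∈ Finset.range N, w (π ((N - i) % N) v) = ∑ i ∈ Finset.range N, w (π i v) := by
    intro v
    refine Finset.sum_bij' (fun i _ => (N - i) % N) (fun i _ => (N - i) % N)
      (fun i _ => Finset.mem_range.mpr (Nat.mod_lt _ hN))
      (fun i _ => Finset.mem_range.mpr (Nat.mod_lt _ hN)) ?_ ?_ (fun i _ => rfl) <;>
    · intro i hi
      have hi' := Finset.mem_range.mp hi
      rcases Nat.eq_zero_or_pos i with rfl | hpos
      · simp
      · rw [Nat.mod_eq_of_lt (show N - i < N by omega), show N - (N - i) = i by omega,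
          Nat.mod_eq_of_lt hi']
  conv_lhs => rw [← b.sum_repr X]
  rw [← Finset.sum_erase_add _ _ (Finset.mem_univ i0),
    ← Finset.sum_erase_add Finset.univ
      (fun v => ((∑ i ∈ Finset.range N, w (π ((N - i) % N) v)) * b.repr X v) • b v)
      (Finset.mem_univ i0)]
  have hw0 : ∑ i ∈ Finset.range N, w (π ((N - i) % N) i0) = 0 :=
    Finset.sum_eq_zero fun i _ => by rw [hπi0]; exact if_neg fun h => h.1 rfl
  rw [hw0, zero_mul, zero_smul, add_zero, add_comm, hc0, smul_smul]
  congr 1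
  refine Finset.sum_congr rfl fun v hv => ?_
  rw [hneg, hw v (Finset.ne_of_mem_erase hv), one_mul]

/-- A `p`-element acting on a `q`-group inducing a symplectic space: degree at least `p ^ e - 1`. -/
theorem degree_of_symplectic (ρ : G →* Module.End k V) (S : Subgroup G) {q : ℕ} [hq : Fact q.Prime]
    (hqp : q ≠ p) (hS : IsPGroup q S) (y : G) (hy : y ∈ Subgroup.normalizer (S : Set G)) {e : ℕ}
    (he : 1 ≤ e) (hyN : y ^ p ^ e = 1)
    (hscal : ∀ s ∈ S, ∀ t ∈ S, ∃ c : k, ρ (s * t * s⁻¹ * t⁻¹) = c • 1)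
    (hne : ∃ s ∈ S, ∃ t ∈ S, ρ (s * t * s⁻¹ * t⁻¹) ≠ 1)
    (hfix : ∀ s ∈ S, y ^ p ^ (e - 1) * s * (y ^ p ^ (e - 1))⁻¹ = s → ∃ c : k, ρ s = c • 1) :
    (ρ y - 1) ^ (p ^ e - 1) ≠ 0 ∨
      ((ρ y - 1) ^ (p ^ e - 2) ≠ 0 ∧ ∃ m, 1 ≤ m ∧ p ^ e - 1 = q ^ m ∧
        ∃ R : Subgroup G, R ≤ S ∧ (∀ r ∈ R, ∃ c : k, ρ r = c • 1) ∧
          R.relIndex S = (p ^ e - 1) * (p ^ e - 1)) := by
  classical
  set N := p ^ e with hNdef
  set z := y ^ p ^ (e - 1) with hz
  haveI : Nontrivial V := by
    by_contra h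
    rw [not_nontrivial_iff_subsingleton] at h
    obtain ⟨s, -, t, -, hst⟩ := hne
    exact hst (LinearMap.ext fun v => Subsingleton.elim _ _)
  have hunit : ∀ s : G, IsUnit (ρ s) := fun s => (Group.isUnit s).map ρ
  -- the radical
  let R : Subgroup G :=
    { carrier := {s | s ∈ S ∧ ∀ t ∈ S, Commute (ρ t) (ρ s)}
      one_mem' := ⟨one_mem S, fun t _ => by rw [map_one]; exact Commute.one_right _⟩
      mul_mem' := fun {a b} ha hb =>
        ⟨mul_mem ha.1 hb.1, fun t ht => by rw [map_mul]; exact (ha.2 t ht).mul_right (hb.2 t ht)⟩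
      inv_mem' := fun {a} ha => ⟨inv_mem ha.1, fun t ht => by
        have h1 : ρ a * ρ a⁻¹ = 1 := by rw [← map_mul, mul_inv_cancel, map_one]
        have h2 : ρ a⁻¹ * ρ a = 1 := by rw [← map_mul, inv_mul_cancel, map_one]
        have h3 := ha.2 t ht
        show ρ t * ρ a⁻¹ = ρ a⁻¹ * ρ t
        calc ρ t * ρ a⁻¹ = ρ a⁻¹ * ρ a * (ρ t * ρ a⁻¹) := by rw [h2, one_mul]
          _ = ρ a⁻¹ * (ρ a * ρ t) * ρ a⁻¹ := by simp only [mul_assoc]
          _ = ρ a⁻¹ * (ρ t * ρ a) * ρ a⁻¹ := by rw [h3.eq]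
          _ = ρ a⁻¹ * ρ t * (ρ a * ρ a⁻¹) := by simp only [mul_assoc]
          _ = _ := by rw [h1, mul_one]⟩ }
  have hRS : R ≤ S := fun _ h => h.1
  have hconjS : ∀ {g : G}, g ∈ Subgroup.normalizer (S : Set G) → ∀ {s}, s ∈ S → g * s * g⁻¹ ∈ S :=
    fun {g} hg {s} hs => (Subgroup.mem_normalizer_iff.mp hg s).mp hs
  have hRconj : ∀ {g : G}, g ∈ Subgroup.normalizer (S : Set G) → ∀ r ∈ R, g * r * g⁻¹ ∈ R := by
    intro g hg r hr
    refine ⟨hconjS hg hr.1, fun t ht => ?_⟩
    have ht' : g⁻¹ * t * g ∈ S := by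
      have := hconjS (inv_mem hg) ht
      rwa [inv_inv] at this
    have h := hr.2 _ ht'
    show ρ t * ρ (g * r * g⁻¹) = ρ (g * r * g⁻¹) * ρ t
    have h' := congrArg (fun Z => ρ g * Z * ρ g⁻¹) h.eq
    simp only [← map_mul] at h' ⊢
    rw [show g * (g⁻¹ * t * g * r) * g⁻¹ = t * (g * r * g⁻¹) by group,
      show g * (r * (g⁻¹ * t * g)) * g⁻¹ = g * r * g⁻¹ * t by group] at h'
    exact h'
  have hzN : z ∈ Subgroup.normalizer (S : Set G) := pow_mem hy _
  have hzq : ∀ s ∈ S, (orderOf s : k) ≠ 0 := by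
    intro s hs
    obtain ⟨j, hj⟩ := IsPGroup.iff_orderOf.mp hS ⟨s, hs⟩
    rw [Subgroup.orderOf_mk] at hj
    rw [hj, Ne, CharP.cast_eq_zero_iff k p]
    exact fun h => hqp ((Nat.prime_dvd_prime_iff_eq hp.out hq.out).mp (hp.out.dvd_of_dvd_pow h)).symm
  by_cases hmove : ∃ r ∈ R, ρ (z * r * z⁻¹) ≠ ρ r
  · refine Or.inl (full_degree_of_abelian ρ R y ?_ hyN (fun a ha b hb => hb.2 a ha.1)
      (fun a ha => hzq a ha.1) hmove)
    refine Subgroup.mem_normalizer_iff_map_conj_eq.mpr (Subgroup.eq_of_le_of_card_ge ?_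
      (Subgroup.card_map_of_injective (MulAut.conj y).injective).ge)
    rintro _ ⟨r, hr, rfl⟩
    exact hRconj hy r hr
  push Not at hmove
  -- coprime lifting
  have hlift : ∀ N' : Subgroup G, N' ≤ S → (∀ g ∈ Subgroup.normalizer (S : Set G), ∀ r ∈ N',
      g * r * g⁻¹ ∈ N') → ∀ s ∈ S, z * s * z⁻¹ * s⁻¹ ∈ N' →
      ∃ c ∈ S, z * c * z⁻¹ = c ∧ s⁻¹ * c ∈ N' := by
    intro N' hN' hn s hs hfix'
    have hnorm : Subgroup.normalizer (S : Set G) ≤ Subgroup.normalizer (N' : Set G) := by
      intro g hg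
      refine Subgroup.mem_normalizer_iff_map_conj_eq.mpr (Subgroup.eq_of_le_of_card_ge ?_
        (Subgroup.card_map_of_injective (MulAut.conj g).injective).ge)
      rintro _ ⟨r, hr, rfl⟩
      exact hn g hg r hr
    have hzord : orderOf z ∣ p := by
      refine orderOf_dvd_of_pow_eq_one ?_
      rw [hz, ← pow_mul, ← pow_succ, Nat.sub_add_cancel he, hyN]
    obtain ⟨c, hc, hcN⟩ := Basics.exists_inf_centralizer_mem_coset (Subgroup.zpowers z) S N' hN'
      (Subgroup.le_normalizer.trans hnorm) (Subgroup.zpowers_le.mpr (hnorm hzN))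
      (by
        obtain ⟨j, hj⟩ := hS.exists_card_eq
        rw [Nat.card_zpowers, hj]
        exact (((Nat.coprime_primes hp.out hq.out).mpr (Ne.symm hqp)).coprime_dvd_left hzord).pow_right j)
      (Or.inl inferInstance) s hs (fun a ha => by
        obtain ⟨i, rfl⟩ := mem_powers_iff_mem_zpowers.mpr ha
        induction i with
        | zero => simp [one_mem]
        | succ i ih =>
          have hih := ih (pow_mem (Subgroup.mem_zpowers z) i)
          rw [show z ^ (i + 1) * s * (z ^ (i + 1))⁻¹ * s⁻¹ =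
            z * (z ^ i * s * (z ^ i)⁻¹ * s⁻¹) * z⁻¹ * (z * s * z⁻¹ * s⁻¹) by
              rw [pow_succ']; group]
          exact mul_mem (hn z hzN _ hih) hfix')
    exact ⟨c, hc.1, mul_inv_eq_iff_eq_mul.mpr (hc.2 z (Subgroup.mem_zpowers z)), hcN⟩
  have hR : ∀ r ∈ R, ∃ c : k, ρ r = c • 1 := by
    intro r hr
    obtain ⟨c, hcS, hcz, hcN⟩ := hlift (S ⊓ ρ.ker) inf_le_left
      (fun g hg x hx => Subgroup.mem_inf.mpr ⟨hconjS hg hx.1, MonoidHom.mem_ker.mpr (by
        rw [map_mul, map_mul, show ρ x = 1 from hx.2, mul_one, ← map_mul,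
          mul_inv_cancel, map_one])⟩)
      r hr.1 (Subgroup.mem_inf.mpr ⟨S.mul_mem (hconjS hzN hr.1) (S.inv_mem hr.1),
        MonoidHom.mem_ker.mpr (by
          rw [map_mul, hmove r hr, ← map_mul, mul_inv_cancel, map_one])⟩)
    obtain ⟨a, ha⟩ := hfix c hcS hcz
    refine ⟨a, ?_⟩
    have h := congrArg (ρ r * ·) (show ρ (r⁻¹ * c) = 1 from hcN.2)
    simp only [← map_mul, mul_inv_cancel_left, mul_one] at h
    rw [← h, ha]
  have hrad : ∀ a ∈ S, (∀ s ∈ S, Commute (ρ s) (ρ a)) → a ∈ R := fun a ha h => ⟨ha, h⟩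
  haveI hRn : (R.subgroupOf S).Normal :=
    ⟨fun r hr g => Subgroup.mem_subgroupOf.mpr
      (hRconj (Subgroup.le_normalizer g.2) _ (Subgroup.mem_subgroupOf.mp hr))⟩
  -- `z` fixes no coset of the radical
  have hzfix : ∀ s ∈ S, z * s * z⁻¹ * s⁻¹ ∈ R → s ∈ R := by
    intro s hs hsR
    obtain ⟨c, hcS, hcz, hcN⟩ := hlift R hRS (fun g hg r hr => hRconj hg r hr) s hs hsR
    obtain ⟨a, ha⟩ := hfix c hcS hcz
    have hcR : c ∈ R := ⟨hcS, fun t _ => by rw [ha]; exact (Commute.one_right _).smul_right a⟩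
    have := mul_mem hcR (inv_mem hcN)
    rwa [mul_inv_rev, inv_inv, mul_inv_cancel_left] at this
  let ι := ↥S ⧸ R.subgroupOf S
  haveI : Fintype ι := Fintype.ofFinite ι
  have hconjS' : ∀ (i : ℕ) (s : S), y ^ i * (s : G) * (y ^ i)⁻¹ ∈ S := fun i s =>
    hconjS (pow_mem hy i) s.2
  let cj : ℕ → (↥S →* ↥S) := fun i =>
    { toFun := fun s => ⟨y ^ i * (s : G) * (y ^ i)⁻¹, hconjS' i s⟩
      map_one' := Subtype.ext (by simp)
      map_mul' := fun a b => Subtype.ext (by simp [mul_assoc]) }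
  let π : ℕ → ι →* ι := fun i => QuotientGroup.map _ _ (cj i) fun r hr =>
    (show ((cj i r : S) : G) ∈ R from hRconj (pow_mem hy i) _ (Subgroup.mem_subgroupOf.mp hr))
  have hπmk : ∀ i (s : S), π i (QuotientGroup.mk s) = QuotientGroup.mk (cj i s) := fun i s => rfl
  have hπadd : ∀ i j u, π i (π j u) = π (i + j) u := by
    intro i j u
    induction u using QuotientGroup.induction_on with
    | H s =>
      rw [hπmk, hπmk, hπmk]
      congr 1
      exact Subtype.ext (by simp [cj, pow_add, mul_assoc])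
  have hπ0 : ∀ u, π 0 u = u := by
    intro u
    induction u using QuotientGroup.induction_on with
    | H s => rw [hπmk]; congr 1; exact Subtype.ext (by simp [cj])
  have hπN : ∀ u, π N u = u := by
    intro u
    induction u using QuotientGroup.induction_on with
    | H s => rw [hπmk]; congr 1; exact Subtype.ext (by simp [cj, hyN])
  have hfree : ∀ d u, 0 < d → d < N → π d u = u → u = 1 := by
    intro d u hd0 hd hdu
    induction u using QuotientGroup.induction_on with
    | H s =>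
      let St : Submonoid G :=
        { carrier := {g | g ∈ Subgroup.normalizer (S : Set G) ∧ g * (s : G) * g⁻¹ * (s : G)⁻¹ ∈ R}
          one_mem' := ⟨one_mem _, by simp [one_mem]⟩
          mul_mem' := fun {g h} hg hh => ⟨mul_mem hg.1 hh.1, by
            rw [show g * h * (s : G) * (g * h)⁻¹ * (s : G)⁻¹ =
              g * (h * (s : G) * h⁻¹ * (s : G)⁻¹) * g⁻¹ * (g * (s : G) * g⁻¹ * (s : G)⁻¹) by group]
            exact mul_mem (hRconj hg.1 _ hh.2) hg.2⟩ }
      have hd' : y ^ d ∈ St := ⟨pow_mem hy d, by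
        have h := QuotientGroup.eq_iff_div_mem.mp ((hπmk d s).symm.trans hdu)
        rw [Subgroup.mem_subgroupOf, div_eq_mul_inv] at h
        exact h⟩
      exact (QuotientGroup.eq_one_iff s).mpr (Subgroup.mem_subgroupOf.mpr
        (hzfix s s.2 (pow_pred_mem hyN hd0 hd St hd').2))
  obtain ⟨s0, hs0, t0, ht0, hst⟩ := hne
  have hnt : Nontrivial ι := by
    rw [QuotientGroup.nontrivial_iff]
    intro htop
    have hmem : (⟨t0, ht0⟩ : S) ∈ R.subgroupOf S := htop ▸ Subgroup.mem_top _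
    have hcm := (Subgroup.mem_subgroupOf.mp hmem).2 s0 hs0
    apply hst
    rw [map_mul, map_mul, map_mul, hcm.eq, mul_assoc (ρ t0), ← map_mul, mul_inv_cancel, map_one,
      mul_one, ← map_mul, mul_inv_cancel, map_one]
  obtain ⟨j, hj⟩ := (hS.to_quotient (R.subgroupOf S)).exists_card_eq
  have hcard : (Nat.card ι : k) ≠ 0 := by
    rw [show Nat.card ι = q ^ j from hj, Ne, CharP.cast_eq_zero_iff k p]
    exact fun h => hqp ((Nat.prime_dvd_prime_iff_eq hp.out hq.out).mp (hp.out.dvd_of_dvd_pow h)).symm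
  obtain ⟨M, -, hMne, hM, schur, hspan⟩ :=
    exists_irreducible_span ρ S R hR ⊤ (by simp) (fun _ _ _ _ => trivial) hcard hRn
  haveI : Nontrivial M := (Submodule.nontrivial_iff_ne_bot).mpr hMne
  -- restriction to `M`
  set B := spanAlg ρ S
  have hBinv : ∀ b ∈ B, ∀ v ∈ M, b v ∈ M := by
    intro b hb v hv
    change b ∈ Submodule.span k _ at hb
    induction hb using Submodule.span_induction with
    | mem b hb => obtain ⟨s, rfl⟩ := hb; exact hM s s.2 v hv
    | zero => exact zero_mem M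
    | add a b _ _ ha hb => exact add_mem ha hb
    | smul c a _ ha => exact M.smul_mem c ha
  let φ : ↥B →ₐ[k] Module.End k M :=
    { toFun := fun b => (b : Module.End k V).restrict (hBinv b b.2)
      map_one' := rfl
      map_mul' := fun _ _ => rfl
      map_zero' := rfl
      map_add' := fun _ _ => rfl
      commutes' := fun _ => rfl }
  have hBzero : ∀ U : Submodule k V, U ≠ ⊥ → (∀ s ∈ S, ∀ v ∈ U, ρ s v ∈ U) →
      ∀ b ∈ B, (∀ v ∈ U, b v = 0) → b = 0 := by
    intro U hU hUinv b hb h0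
    obtain ⟨g, rfl⟩ := Submodule.mem_span_range_iff_exists_fun k |>.mp
      (spanAlg_le_span_beta ρ S R hR hb)
    rw [beta_indep ρ S R hscal hrad U hU hUinv g h0]
    simp
  have hφinj : Function.Injective φ := by
    refine (injective_iff_map_eq_zero φ).mpr fun b hb => Subtype.ext ?_
    refine hBzero M hMne hM b b.2 fun v hv => ?_
    exact congrArg Subtype.val (LinearMap.congr_fun hb ⟨v, hv⟩)
  have hφsurj : Function.Surjective φ := by
    intro f
    have hf : f ∈ LinearMap.range φ.toLinearMap := by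
      have h : Submodule.span k (Set.range fun s : S => (ρ (s : G)).restrict (hM s s.2)) ≤
          LinearMap.range φ.toLinearMap :=
        Submodule.span_le.mpr (by rintro _ ⟨s, rfl⟩; exact ⟨⟨_, rho_mem_spanAlg ρ S s.2⟩, rfl⟩)
      exact h (hspan ▸ Submodule.mem_top)
    exact hf
  let Φ : ↥B ≃ₐ[k] Module.End k M := AlgEquiv.ofBijective φ ⟨hφinj, hφsurj⟩
  -- conjugation by `y`
  have hyy : ρ y * ρ y⁻¹ = 1 := by rw [← map_mul, mul_inv_cancel, map_one]
  have hyy' : ρ y⁻¹ * ρ y = 1 := by rw [← map_mul, inv_mul_cancel, map_one]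
  have hconjB : ∀ b ∈ B, ρ y * b * ρ y⁻¹ ∈ B := by
    intro b hb
    change b ∈ Submodule.span k _ at hb
    induction hb using Submodule.span_induction with
    | mem b hb =>
      obtain ⟨s, rfl⟩ := hb
      rw [← map_mul, ← map_mul]
      exact rho_mem_spanAlg ρ S (hconjS hy s.2)
    | zero => simp [zero_mem]
    | add a b _ _ ha hb => rw [mul_add, add_mul]; exact add_mem ha hb
    | smul c a _ ha => rw [mul_smul_comm, smul_mul_assoc]; exact B.smul_mem ha c
  let σ : ↥B →ₐ[k] ↥B :=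
    { toFun := fun b => ⟨ρ y * b * ρ y⁻¹, hconjB b b.2⟩
      map_one' := Subtype.ext (by simp [hyy])
      map_mul' := fun a b => Subtype.ext (by
        simp only [Subalgebra.coe_mul, mul_assoc]
        rw [← mul_assoc (ρ y⁻¹) (ρ y), hyy', one_mul])
      map_zero' := Subtype.ext (by simp)
      map_add' := fun a b => Subtype.ext (by simp [mul_add, add_mul])
      commutes' := fun r => Subtype.ext (by
        simp [Algebra.algebraMap_eq_smul_one, hyy]) }
  have hσinj : Function.Injective σ := fun a b h => Subtype.ext (by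
    have h' := congrArg (fun Z => ρ y⁻¹ * Z * ρ y) (congrArg Subtype.val h)
    simp only [σ, AlgHom.coe_mk, RingHom.coe_mk, MonoidHom.coe_mk, OneHom.coe_mk, ← mul_assoc,
      hyy', one_mul] at h'
    simpa only [mul_assoc, hyy', mul_one] using h')
  haveI : FiniteDimensional k ↥B := FiniteDimensional.finiteDimensional_submodule (Subalgebra.toSubmodule B)
  have hσbij : Function.Bijective σ :=
    ⟨hσinj, (LinearMap.injective_iff_surjective (f := σ.toLinearMap)).mp hσinj⟩
  let σM : Module.End k M ≃ₐ[k] Module.End k M :=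
    Φ.symm.trans ((AlgEquiv.ofBijective σ hσbij).trans Φ)
  obtain ⟨T, hT⟩ := σM.eq_linearEquivConjAlgEquiv
  set Y0 : ↥B := Φ.symm T.toLinearMap
  set Y0i : ↥B := Φ.symm T.symm.toLinearMap
  have hY0 : Y0 * Y0i = 1 := Φ.injective (by
    rw [map_mul, map_one, Φ.apply_symm_apply, Φ.apply_symm_apply]
    exact LinearMap.ext fun v => T.apply_symm_apply v)
  have hY0' : Y0i * Y0 = 1 := Φ.injective (by
    rw [map_mul, map_one, Φ.apply_symm_apply, Φ.apply_symm_apply]
    exact LinearMap.ext fun v => T.symm_apply_apply v)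
  have hY0v : (Y0 : Module.End k V) * (Y0i : Module.End k V) = 1 := congrArg Subtype.val hY0
  have hY0v' : (Y0i : Module.End k V) * (Y0 : Module.End k V) = 1 := congrArg Subtype.val hY0'
  have hY0σ : ∀ b : ↥B, σ b = Y0 * b * Y0i := by
    intro b
    refine Φ.injective ?_
    rw [map_mul, map_mul, Φ.apply_symm_apply, Φ.apply_symm_apply]
    have h := AlgEquiv.ext_iff.mp hT (Φ b)
    simp only [σM, AlgEquiv.trans_apply, Φ.symm_apply_apply, AlgEquiv.coe_ofBijective] at h
    rw [h]
    rfl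
  set C : Module.End k V := (Y0i : Module.End k V) * ρ y
  have hYC : ρ y = (Y0 : Module.End k V) * C := by
    show ρ y = _ * (_ * ρ y)
    rw [← mul_assoc, hY0v, one_mul]
  have hCB : ∀ b ∈ B, Commute C b := by
    intro b hb
    have h := congrArg Subtype.val (hY0σ ⟨b, hb⟩)
    change ρ y * b * ρ y⁻¹ = (Y0 : Module.End k V) * b * (Y0i : Module.End k V) at h
    show (Y0i : Module.End k V) * ρ y * b = b * ((Y0i : Module.End k V) * ρ y)
    calc (Y0i : Module.End k V) * ρ y * b
        = (Y0i : Module.End k V) * (ρ y * b * ρ y⁻¹) * ρ y := by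
          simp only [mul_assoc, hyy', mul_one]
      _ = b * ((Y0i : Module.End k V) * ρ y) := by
          rw [h]
          simp only [← mul_assoc, hY0v', one_mul]
  have hσpow : ∀ (i : ℕ) (b : ↥B), ((Y0 ^ i * b * Y0i ^ i : ↥B) : Module.End k V) =
      ρ (y ^ i) * b * ρ (y ^ i)⁻¹ := by
    intro i
    induction i with
    | zero => intro b; simp
    | succ i ih =>
      intro b
      have e : Y0 ^ (i + 1) * b * Y0i ^ (i + 1) = σ (Y0 ^ i * b * Y0i ^ i) := by
        rw [hY0σ, pow_succ', pow_succ]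
        simp only [mul_assoc]
      rw [e]
      show ρ y * ((Y0 ^ i * b * Y0i ^ i : ↥B) : Module.End k V) * ρ y⁻¹ = _
      rw [ih, pow_succ', mul_inv_rev, map_mul, map_mul]
      simp only [mul_assoc]
  have hcomN : Commute Y0 Y0i := hY0.trans hY0'.symm
  have hcentral : ∀ b : ↥B, Commute (Y0 ^ N) b := by
    intro b
    have h : Y0 ^ N * b * Y0i ^ N = b := Subtype.ext (by
      rw [hσpow, show y ^ N = 1 from hyN, inv_one, map_one, one_mul, mul_one])
    show Y0 ^ N * b = b * Y0 ^ N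
    calc Y0 ^ N * b = Y0 ^ N * b * (Y0i ^ N * Y0 ^ N) := by
          rw [← hcomN.symm.mul_pow, hY0', one_pow, mul_one]
      _ = Y0 ^ N * b * Y0i ^ N * Y0 ^ N := by simp only [mul_assoc]
      _ = b * Y0 ^ N := by rw [h]
  obtain ⟨a, ha⟩ := schur (Φ (Y0 ^ N)) (fun s hs => by
    have := (hcentral ⟨ρ s, rho_mem_spanAlg ρ S hs⟩).map Φ
    exact this)
  have ha0 : a ≠ 0 := by
    rintro rfl
    rw [zero_smul] at ha
    have h1 : (1 : Module.End k M) = Φ (Y0i ^ N) * Φ (Y0 ^ N) := by
      rw [← map_mul, ← hcomN.symm.mul_pow, hY0', one_pow, map_one]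
    rw [ha, mul_zero] at h1
    exact one_ne_zero h1
  obtain ⟨α, hα⟩ := IsAlgClosed.exists_pow_nat_eq a (pow_pos hp.out.pos e)
  have hα0 : α ≠ 0 := fun h => ha0 (by
    rw [← hα, h, zero_pow (pow_ne_zero _ hp.out.ne_zero)])
  set Y1 : ↥B := α⁻¹ • Y0 with hY1
  have hY1N : Y1 ^ N = 1 := Φ.injective (by
    rw [hY1, smul_pow, map_smul, ha, smul_smul, inv_pow, hα, inv_mul_cancel₀ ha0, one_smul, map_one])
  set C1 : Module.End k V := α • C with hC1
  have hYC1 : ρ y = (Y1 : Module.End k V) * C1 := by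
    rw [hY1, hC1, Subalgebra.coe_smul, smul_mul_assoc, mul_smul_comm, smul_smul,
      inv_mul_cancel₀ hα0, one_smul, ← hYC]
  have hC1N : C1 ^ N = 1 := by
    have hc : Commute (Y1 : Module.End k V) C1 := ((hCB _ Y1.2).smul_left α).symm
    have h := congrArg (· ^ N) hYC1
    simp only [hc.mul_pow, ← map_pow, show y ^ N = 1 from hyN, map_one] at h
    rw [show (Y1 : Module.End k V) ^ N = 1 from congrArg Subtype.val hY1N, one_mul] at h
    exact h.symm
  let U : Submodule k V := LinearMap.ker (C1 - 1)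
  have hU : U ≠ ⊥ := by
    intro h
    have hi : Function.Injective ⇑(C1 - 1) := LinearMap.ker_eq_bot.mp h
    have h0 : (C1 - 1) ^ N = 0 := by
      rw [hNdef, sub_one_pow_eq_pow_sub_one (k := k), ← hNdef, hC1N, sub_self]
    obtain ⟨v, hv⟩ := exists_ne (0 : V)
    apply hv
    have hall : ∀ m : ℕ, ((C1 - 1) ^ m) v = 0 → v = 0 := by
      intro m
      induction m with
      | zero => exact fun h => h
      | succ m ih =>
        intro hm
        rw [pow_succ', Module.End.mul_apply] at hm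
        exact ih (hi (hm.trans (map_zero _).symm))
    exact hall N (by rw [h0]; rfl)
  have hBU : ∀ b ∈ B, ∀ v ∈ U, b v ∈ U := by
    intro b hb v hv
    rw [LinearMap.mem_ker] at hv ⊢
    have hc : Commute (C1 - 1) b := ((hCB b hb).smul_left α).sub_left (Commute.one_left b)
    rw [← Module.End.mul_apply, hc.eq, Module.End.mul_apply, hv, map_zero]
  have hSU : ∀ s ∈ S, ∀ v ∈ U, ρ s v ∈ U := fun s hs => hBU _ (rho_mem_spanAlg ρ S hs)
  have hact : ∀ (m : ℕ), ∀ v ∈ U,
      ((ρ y - 1) ^ m) v = (((Y1 : Module.End k V) - 1) ^ m) v ∧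
      (((Y1 : Module.End k V) - 1) ^ m) v ∈ U := by
    intro m
    induction m with
    | zero => exact fun v hv => ⟨rfl, hv⟩
    | succ m ih =>
      intro v hv
      obtain ⟨h1, h2⟩ := ih v hv
      rw [pow_succ', pow_succ', Module.End.mul_apply, Module.End.mul_apply, h1]
      refine ⟨?_, hBU _ (sub_mem Y1.2 (one_mem B)) _ h2⟩
      rw [LinearMap.sub_apply, LinearMap.sub_apply, hYC1, Module.End.mul_apply]
      have h3 : C1 ((((Y1 : Module.End k V) - 1) ^ m) v) = (((Y1 : Module.End k V) - 1) ^ m) v := by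
        have := LinearMap.mem_ker.mp h2
        rwa [LinearMap.sub_apply, Module.End.one_apply, sub_eq_zero] at this
      rw [h3]
  have hdeg : ∀ m : ℕ, (Φ Y1 - 1) ^ m ≠ 0 → (ρ y - 1) ^ m ≠ 0 := by
    intro m hm h0
    apply hm
    rw [← map_one Φ, ← map_sub, ← map_pow, (Subtype.ext (hBzero U hU hSU
      (((Y1 - 1) ^ m : ↥B) : Module.End k V) ((Y1 - 1) ^ m).2 fun v hv => by
        rw [SubmonoidClass.coe_pow, AddSubgroupClass.coe_sub, OneMemClass.coe_one,
          ← (hact m v hv).1, h0]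
        rfl) : (Y1 - 1) ^ m = 0), map_zero]
  -- the basis of representatives
  let βB : ι → ↥B := fun u => ⟨beta ρ S R u, rho_mem_spanAlg ρ S (u.out : S).2⟩
  let bv : ι → Module.End k M := fun u => Φ (βB u)
  have hli : LinearIndependent k bv := by
    refine Fintype.linearIndependent_iff.mpr fun g hg => ?_
    have h : g = 0 := by
      refine beta_indep ρ S R hscal hrad M hMne hM g fun v hv => ?_
      have h' := congrArg Subtype.val (LinearMap.congr_fun hg ⟨v, hv⟩)
      simp only [LinearMap.sum_apply, LinearMap.smul_apply, LinearMap.zero_apply,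
        Submodule.coe_sum, Submodule.coe_smul, ZeroMemClass.coe_zero] at h'
      rw [LinearMap.sum_apply]
      exact h'
    exact fun i => congrFun h i
  have hspan' : ⊤ ≤ Submodule.span k (Set.range bv) := by
    intro f _
    obtain ⟨g, hg⟩ := Submodule.mem_span_range_iff_exists_fun k |>.mp
      (spanAlg_le_span_beta ρ S R hR (Φ.symm f).2)
    refine Submodule.mem_span_range_iff_exists_fun k |>.mpr ⟨g, ?_⟩
    rw [← Φ.apply_symm_apply f, ← (Subtype.ext (by simpa using hg) :
      ∑ u, g u • βB u = Φ.symm f), map_sum]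
    exact Finset.sum_congr rfl fun u _ => (map_smul Φ (g u) (βB u)).symm
  let bM : Basis ι k (Module.End k M) := Basis.mk hli hspan'
  have hbM : ∀ u, bM u = Φ (βB u) := fun u => Basis.mk_apply hli hspan' u
  have hb0 : ∃ c : k, bM 1 = c • 1 := by
    have hmem : ((1 : ι).out : S) ∈ R.subgroupOf S :=
      (QuotientGroup.eq_one_iff _).mp (QuotientGroup.out_eq' 1)
    obtain ⟨c, hc⟩ := hR _ (Subgroup.mem_subgroupOf.mp hmem)
    refine ⟨c, ?_⟩
    rw [hbM, ← map_one Φ, ← map_smul]
    exact congrArg Φ (Subtype.ext hc)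
  have hconj : ∀ i u, i < N →
      ∃ c : k, (Φ Y1) ^ i * bM u * (Φ Y1) ^ (N - i) = c • bM (π i u) := by
    intro i u hi
    obtain ⟨c, hc⟩ := rho_eq_smul_beta ρ S R hR (cj i (u.out : S))
    rw [← hπmk, QuotientGroup.out_eq'] at hc
    refine ⟨c, ?_⟩
    rw [hbM, hbM, ← map_pow, ← map_pow, ← map_mul, ← map_mul, ← map_smul]
    congr 1
    have hY1i : Y1 * (α • Y0i) = 1 := by
      rw [hY1, smul_mul_assoc, mul_smul_comm, smul_smul, inv_mul_cancel₀ hα0, one_smul, hY0]
    have hY1i' : (α • Y0i) * Y1 = 1 := by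
      rw [hY1, smul_mul_assoc, mul_smul_comm, smul_smul, mul_inv_cancel₀ hα0, one_smul, hY0']
    have hinv : Y1 ^ (N - i) = (α • Y0i) ^ i := by
      have hcm : Commute (α • Y0i) Y1 := hY1i'.trans hY1i.symm
      calc Y1 ^ (N - i) = ((α • Y0i) * Y1) ^ i * Y1 ^ (N - i) := by rw [hY1i', one_pow, one_mul]
        _ = (α • Y0i) ^ i * (Y1 ^ i * Y1 ^ (N - i)) := by rw [hcm.mul_pow, mul_assoc]
        _ = (α • Y0i) ^ i := by rw [← pow_add, Nat.add_sub_cancel' hi.le, hY1N, mul_one]
    rw [hinv, hY1, smul_pow, smul_pow, smul_mul_assoc, mul_smul_comm, smul_mul_assoc, smul_smul,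
      ← mul_pow, mul_inv_cancel₀ hα0, one_pow, one_smul]
    refine Subtype.ext ?_
    rw [hσpow, Subalgebra.coe_smul]
    show ρ (y ^ i) * ρ ((u.out : S) : G) * ρ (y ^ i)⁻¹ = c • beta ρ S R (π i u)
    rw [← hc, ← map_mul, ← map_mul]
    rfl
  have hYN : (Φ Y1) ^ p ^ e = 1 := by rw [← map_pow, ← hNdef, hY1N, map_one]
  have hY1ne : Φ Y1 ≠ 1 := by
    intro h1
    obtain ⟨u, hu⟩ := exists_ne (1 : ι)
    have hN2 : 1 < N := Nat.one_lt_pow (by omega) hp.out.one_lt
    obtain ⟨c, hc⟩ := hconj 1 u hN2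
    rw [h1, one_pow, one_pow, one_mul, mul_one] at hc
    have h2 := congrArg (fun Z => bM.repr Z u) hc
    simp only [map_smul, Basis.repr_self, Finsupp.single_eq_same, Finsupp.smul_apply,
      smul_eq_mul] at h2
    by_cases hne' : π 1 u = u
    · exact hu (hfree 1 u one_pos hN2 hne')
    · rw [Finsupp.single_eq_of_ne (Ne.symm hne'), mul_zero] at h2
      exact one_ne_zero h2
  have hfixC := fix_eq_scalar_add_trace (p := p) bM (1 : ι) hb0 (Φ Y1) hYN (fun i u => π i u) hπ0
    hπN hπadd (fun i => map_one (π i)) hfree hconj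
  rcases commutant_core (p := p) (Φ Y1) he hYN hY1ne hfixC with h | ⟨h1, h2⟩
  · exact Or.inl (hdeg _ h)
  refine Or.inr ⟨hdeg _ h1, ?_⟩
  have hcd : Nat.card ι = (N - 1) * (N - 1) := by
    rw [Nat.card_eq_fintype_card, ← Module.finrank_eq_card_basis bM, Module.finrank_linearMap, h2]
  have hdvd : N - 1 ∣ q ^ j := ⟨N - 1, by rw [← hj]; exact hcd⟩
  obtain ⟨m, -, hm⟩ := (Nat.dvd_prime_pow hq.out).mp hdvd
  refine ⟨m, ?_, hm, R, hRS, hR, hcd⟩
  by_contra hm0
  rw [show m = 0 by omega, pow_zero] at hm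
  rw [hm, one_mul] at hcd
  exact (Finite.one_lt_card_iff_nontrivial.mpr hnt).ne' hcd

end Cfsg.Agent.HallHigman
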