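import Cfsg.Agent.Lib.HallHigman.FrattiniModule
import Cfsg.Agent.Lib.Coprime23.UpperSeries

/-!
# The Hall–Higman bound on `p`-length by the exponent
-/

set_option autoImplicit false
set_option linter.unusedSectionVars false
set_option linter.style.haveILetI false

namespace Cfsg.Agent.HallHigman

open Subgroup

universe u

variable {p : ℕ} [hp : Fact p.Prime]

theorem commutative_mapSurjective {G H : Type u} [Group G] [Finite G] [Group H] (f : G →* H)
    (hf : Function.Surjective f) {q : ℕ} [Fact q.Prime] (Q : Sylow q G)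
    (hQ : IsMulCommutative Q) : IsMulCommutative (Q.mapSurjective hf) := by
  refine ⟨⟨?_⟩⟩
  rintro ⟨_, a, ha, rfl⟩ ⟨_, b, hb, rfl⟩
  refine Subtype.ext ?_
  have h := congrArg Subtype.val (hQ.is_comm.comm (⟨a, ha⟩ : Q) ⟨b, hb⟩)
  show f a * f b = f b * f a
  rw [← map_mul, ← map_mul]
  exact congrArg f h

/-- Outside the exceptional case the `p`-length is at most the exponent. -/
theorem pLengthLE_exponent : ∀ (N : ℕ) {G : Type u} [Group G] [Finite G], Nat.card G = N →
    IsPSolvable p G → ∀ (S : Sylow p G) (e : ℕ), (∀ x ∈ (S : Subgroup G), x ^ p ^ e = 1) →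
    (∀ n₀ q m : ℕ, 1 ≤ n₀ → q.Prime → 1 ≤ m → p ^ n₀ - 1 = q ^ m →
      ∀ Q : Sylow q G, IsMulCommutative Q) →
    PLengthLE p e G := by
  intro N
  induction N using Nat.strong_induction_on with
  | _ N ih =>
  intro G _ _ hN hsol S e hexp hexc
  rcases subsingleton_or_nontrivial G with hs | hnt
  · exact Subsingleton.elim _ _
  have hexcq : ∀ {H : Type u} [Group H] [Finite H] (f : G →* H), Function.Surjective f →
      ∀ n₀ q m : ℕ, 1 ≤ n₀ → q.Prime → 1 ≤ m → p ^ n₀ - 1 = q ^ m →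
        ∀ Q : Sylow q H, IsMulCommutative Q := by
    intro H _ _ f hf n₀ q m h1 h3 h4 h5 Q
    haveI := Fact.mk h3
    obtain ⟨Q0⟩ : Nonempty (Sylow q G) := inferInstance
    have h0 := commutative_mapSurjective f hf Q0 (hexc n₀ q m h1 h3 h4 h5 Q0)
    obtain ⟨g, hg⟩ := MulAction.exists_smul_eq H (Q0.mapSurjective hf) Q
    refine ⟨⟨?_⟩⟩
    rintro ⟨a, ha⟩ ⟨b, hb⟩
    rw [← hg] at ha hb
    obtain ⟨a', ha', rfl⟩ := ha
    obtain ⟨b', hb', rfl⟩ := hb
    refine Subtype.ext ?_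
    have h : a' * b' = b' * a' :=
      congrArg Subtype.val (h0.is_comm.comm ⟨a', ha'⟩ ⟨b', hb'⟩)
    show g * a' * g⁻¹ * (g * b' * g⁻¹) = g * b' * g⁻¹ * (g * a' * g⁻¹)
    calc g * a' * g⁻¹ * (g * b' * g⁻¹) = g * (a' * b') * g⁻¹ := by group
      _ = g * (b' * a') * g⁻¹ := by rw [h]
      _ = _ := by group
  by_cases hO : pPrimeCore p G = ⊥
  swap
  · haveI : (pPrimeCore p G).Normal := Basics.pPrimeCore_normal p
    have hsurj := QuotientGroup.mk'_surjective (pPrimeCore p G)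
    refine Coprime23.pLengthLE_of_quotient_coprime (Basics.pPrimeCore_coprime p)
      (ih _ (hN ▸ Basics.card_quotient_lt hO) rfl (Coprime23.isPSolvable_map _ hsurj hsol)
        (S.mapSurjective hsurj) e ?_ (hexcq _ hsurj))
    rintro _ ⟨x, hx, rfl⟩
    rw [← map_pow, hexp x hx, map_one]
  haveI : (pCore p G).Normal := Basics.pCore_normal p
  have hne : pCore p G ≠ ⊥ := (Coprime23.exists_core_ne_bot hsol).resolve_right (not_not.mpr hO)
  rcases Nat.eq_zero_or_pos e with rfl | he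
  · refine absurd (le_bot_iff.mp ((Basics.pCore_le_sylow p S).trans fun x hx => ?_)) hne
    simpa using hexp x hx
  have hsurj := QuotientGroup.mk'_surjective (pCore p G)
  have hdrop := exponent_drop hsol hO S he hexp fun n₀ q m h1 h3 h4 h5 => by
    haveI := Fact.mk h3
    obtain ⟨Q0⟩ : Nonempty (Sylow q (G ⧸ pCore p G)) := inferInstance
    exact ⟨Q0, hexcq _ hsurj n₀ q m h1 h3 h4 h5 Q0⟩
  obtain ⟨e', rfl⟩ : ∃ e', e = e' + 1 := ⟨e - 1, by omega⟩
  refine Coprime23.pLengthLE_succ_of_quotient_pCore hO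
    (ih _ (hN ▸ Basics.card_quotient_lt hne) rfl (Coprime23.isPSolvable_map _ hsurj hsol)
      (S.mapSurjective hsurj) e' ?_ (hexcq _ hsurj))
  rintro _ ⟨x, hx, rfl⟩
  rw [← map_pow]
  exact (QuotientGroup.eq_one_iff _).mpr (by simpa using hdrop x hx)

end Cfsg.Agent.HallHigman
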