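import Cfsg.Agent.Lib.HallHigman.DerivedQuad
import Cfsg.Agent.Lib.HallHigman.PLength

/-!
# The bound on the `p`-length by the derived length
-/

set_option autoImplicit false
set_option linter.unusedSectionVars false
set_option linter.style.haveILetI false

namespace Cfsg.Agent.HallHigman

open Module Subgroup
open scoped IsMulCommutative TensorProduct commutatorElement

universe u

/-- `derived_quadratic` over any field. -/
theorem derived_quadratic_field {F : Type*} [Field F] {p : ℕ} [hp : Fact p.Prime] [CharP F p]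
    (hp2 : p ≠ 2) {H : Type u} [Group H] [Finite H] {V : Type*} [AddCommGroup V] [Module F V]
    [FiniteDimensional F V] (ρ : H →* Module.End F V) (hρ : Function.Injective ρ)
    (hsol : IsPSolvable p H) (hO : pCore p H = ⊥) (C : Subgroup H) (hC : IsPGroup p C) (a : H)
    (ha : a ∈ ⁅C, C⁆) (hq : (ρ a - 1) ^ 2 = 0)
    (hcond : ∀ c ∈ C, (ρ a - 1) * (ρ c - 1) ^ 2 = 0) : a = 1 := by
  classical
  let k := AlgebraicClosure F
  haveI : CharP k p := charP_of_injective_algebraMap (algebraMap F k).injective p
  let ρ' : H →* Module.End k (k ⊗[F] V) :=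
    { toFun := fun g => LinearMap.baseChange k (ρ g)
      map_one' := by rw [map_one, Module.End.one_eq_id, LinearMap.baseChange_id]; rfl
      map_mul' := fun a b => by
        rw [map_mul, Module.End.mul_eq_comp, LinearMap.baseChange_comp]; rfl }
  let b := Module.finBasis F V
  have hinj : ∀ f g : V →ₗ[F] V, f.baseChange k = g.baseChange k → f = g := by
    intro f g h
    refine b.ext fun i => b.repr.injective (Finsupp.ext fun j => ?_)
    have h2 := congrArg (fun T => (b.baseChange k).repr (T (1 ⊗ₜ[F] b i)) j) h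
    simp only [LinearMap.baseChange_tmul, Module.Basis.baseChange_repr_tmul, Algebra.smul_def,
      mul_one] at h2
    exact (algebraMap F k).injective h2
  have hsub : ∀ x : H, ρ' x - 1 = (ρ x - 1).baseChange k := fun x => by
    rw [LinearMap.baseChange_sub, Module.End.one_eq_id, Module.End.one_eq_id,
      LinearMap.baseChange_id]
    rfl
  have hmul : ∀ X Y : V →ₗ[F] V, X.baseChange k * Y.baseChange k = (X * Y).baseChange k :=
    fun X Y => by rw [Module.End.mul_eq_comp, Module.End.mul_eq_comp, LinearMap.baseChange_comp]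
  refine derived_quadratic hp2 ρ' (fun a b h => hρ (hinj _ _ h)) hsol hO C hC a ha ?_ fun c hc => ?_
  · rw [pow_two, hsub, hmul, ← pow_two, hq, LinearMap.baseChange_zero]
  · rw [pow_two, hsub, hsub, hmul, hmul, ← pow_two, hcond c hc, LinearMap.baseChange_zero]

variable {p : ℕ} [hp : Fact p.Prime]

/-- The displacement of a coset is the class of a commutator. -/
theorem coreRep_sub_one_apply {G : Type u} [Group G] [Finite G] (g b : G) (hb : b ∈ pCore p G) :
    ∃ hc : ⁅g, b⁆ ∈ pCore p G, (coreRep p G g - 1)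
      (Additive.ofMul (⟨QuotientGroup.mk' (phiCore p G) b, mem_map_of_mem _ hb⟩ : coreModule p G)) =
      Additive.ofMul (⟨QuotientGroup.mk' (phiCore p G) ⁅g, b⁆, mem_map_of_mem _ hc⟩ : coreModule p G) := by
  have hc : ⁅g, b⁆ ∈ pCore p G :=
    mul_mem ((Basics.pCore_normal (G := G) p).conj_mem b hb g) (inv_mem hb)
  refine ⟨hc, Additive.toMul.injective (Subtype.ext ?_)⟩
  rw [LinearMap.sub_apply, Module.End.one_apply, toMul_sub, Subgroup.coe_div, coreRep_apply]
  simp [commutatorElement_def, div_eq_mul_inv]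

/-- The last term of the derived series of a Sylow subgroup lies in `O_p`. -/
theorem derived_le_pCore (hp2 : p ≠ 2) {G : Type u} [Group G] [Finite G] (hsol : IsPSolvable p G)
    (hO : pPrimeCore p G = ⊥) (S : Sylow p G) (d : ℕ)
    (hd : derivedSeries ↥(S : Subgroup G) (d + 1) = ⊥) :
    (derivedSeries ↥(S : Subgroup G) d).map (S : Subgroup G).subtype ≤ pCore p G := by
  classical
  haveI : (pCore p G).Normal := Basics.pCore_normal p
  have hcX := Transfer.centralizer_pCore_le_of_pSolvable hO (Transfer.isPSolvable_subgroup' hsol _)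
  set A := (derivedSeries ↥(S : Subgroup G) d).map (S : Subgroup G).subtype with hA
  have hAab : ∀ x ∈ A, ∀ y ∈ A, x * y = y * x := by
    rintro _ ⟨x, hx, rfl⟩ _ ⟨y, hy, rfl⟩
    have h : ⁅x, y⁆ ∈ (derivedSeries ↥(S : Subgroup G) (d + 1)) := by
      rw [derivedSeries_succ]
      exact commutator_mem_commutator hx hy
    rw [hd, mem_bot] at h
    rw [← map_mul, ← map_mul, (commutatorElement_eq_one_iff_commute.mp h).eq]
  rcases d with _ | d'
  · refine le_trans ?_ hcX
    intro x hx
    refine mem_centralizer_iff.mpr fun y hy => hAab y ?_ x hx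
    rw [hA, derivedSeries_zero, ← MonoidHom.range_eq_map, range_subtype]
    exact Basics.pCore_le_sylow p S hy
  set C := (derivedSeries ↥(S : Subgroup G) d').map (S : Subgroup G).subtype with hC
  have hAC : A = ⁅C, C⁆ := by rw [hA, hC, derivedSeries_succ, map_commutator]
  have hCS : C ≤ (S : Subgroup G) := map_subtype_le _
  have hnorm : ∀ (j : ℕ), ∀ x ∈ (derivedSeries ↥(S : Subgroup G) j).map (S : Subgroup G).subtype,
      ∀ b ∈ (S : Subgroup G),
        ⁅x, b⁆ ∈ (derivedSeries ↥(S : Subgroup G) j).map (S : Subgroup G).subtype := by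
    rintro j _ ⟨x, hx, rfl⟩ b hb
    refine ⟨⁅x, (⟨b, hb⟩ : S)⁆, ?_, rfl⟩
    rw [commutatorElement_def, mul_assoc, mul_assoc]
    exact mul_mem hx (by
      rw [← mul_assoc]
      exact (derivedSeries_normal ↥(S : Subgroup G) j).conj_mem _ (inv_mem hx) _)
  let ρ : G ⧸ pCore p G →* Module.End (ZMod p) (Additive ↥(coreModule p G)) :=
    QuotientGroup.lift (pCore p G) (coreRep p G) fun g hg =>
      MonoidHom.mem_ker.mpr ((coreRep_eq_one_iff hcX g).mpr hg)
  have hρ : Function.Injective ρ := by
    refine (injective_iff_map_eq_one ρ).mpr fun g hg => ?_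
    induction g using QuotientGroup.induction_on with
    | H g => exact (QuotientGroup.eq_one_iff g).mpr ((coreRep_eq_one_iff hcX g).mp hg)
  haveI : FiniteDimensional (ZMod p) (Additive ↥(coreModule p G)) := Module.Finite.of_finite
  intro a ha
  refine (QuotientGroup.eq_one_iff a).mp ?_
  have hkill : ∀ (x y : G), x * y = y * x → ∀ (hy : ⁅x, y⁆ ∈ pCore p G),
      (Additive.ofMul (⟨QuotientGroup.mk' (phiCore p G) ⁅x, y⁆, mem_map_of_mem _ hy⟩ :
        coreModule p G)) = 0 := fun x y h hy => Additive.toMul.injective (Subtype.ext (by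
    show QuotientGroup.mk' (phiCore p G) ⁅x, y⁆ = 1
    rw [commutatorElement_eq_one_iff_commute.mpr h, map_one]))
  refine derived_quadratic_field hp2 ρ hρ (Coprime23.isPSolvable_map (QuotientGroup.mk' _)
      (QuotientGroup.mk'_surjective _) hsol) (Basics.pCore_quotient_eq_bot p)
    (C.map (QuotientGroup.mk' _)) ((S.isPGroup'.to_le hCS).map _) _
    (by rw [← map_commutator, ← hAC]; exact mem_map_of_mem _ ha) ?_ ?_
  · refine LinearMap.ext fun v => ?_
    obtain ⟨b, hb, hbv⟩ := v.toMul.2
    have hvs : v = Additive.ofMul (⟨QuotientGroup.mk' _ b, mem_map_of_mem _ hb⟩ : coreModule p G) :=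
      Additive.toMul.injective (Subtype.ext hbv.symm)
    obtain ⟨hc1, e1⟩ := coreRep_sub_one_apply a b hb
    obtain ⟨hc2, e2⟩ := coreRep_sub_one_apply a _ hc1
    show (((coreRep p G a - 1) ^ 2 : Module.End (ZMod p) (Additive ↥(coreModule p G)))) v = 0
    rw [pow_two, Module.End.mul_apply, hvs, e1, e2]
    exact hkill _ _ (hAab a ha _ (hnorm _ a ha b (Basics.pCore_le_sylow p S hb))) hc2
  · rintro _ ⟨c, hc, rfl⟩
    refine LinearMap.ext fun v => ?_
    obtain ⟨b, hb, hbv⟩ := v.toMul.2
    have hvs : v = Additive.ofMul (⟨QuotientGroup.mk' _ b, mem_map_of_mem _ hb⟩ : coreModule p G) :=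
      Additive.toMul.injective (Subtype.ext hbv.symm)
    obtain ⟨hc1, e1⟩ := coreRep_sub_one_apply c b hb
    obtain ⟨hc2, e2⟩ := coreRep_sub_one_apply c _ hc1
    obtain ⟨hc3, e3⟩ := coreRep_sub_one_apply a _ hc2
    show (((coreRep p G a - 1) * (coreRep p G c - 1) ^ 2 : Module.End (ZMod p) (Additive ↥(coreModule p G)))) v = 0
    rw [pow_two, Module.End.mul_apply, Module.End.mul_apply, hvs, e1, e2, e3]
    refine hkill _ _ (hAab a ha _ ?_) hc3
    rw [hAC]
    exact commutator_mem_commutator hc (hnorm _ c hc b (Basics.pCore_le_sylow p S hb))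

/-- The `p`-length is at most the derived length of a Sylow subgroup, for odd `p`. -/
theorem pLengthLE_derived (hp2 : p ≠ 2) : ∀ (N : ℕ) {G : Type u} [Group G] [Finite G],
    Nat.card G = N → IsPSolvable p G → ∀ (S : Sylow p G) (d : ℕ),
      derivedSeries ↥(S : Subgroup G) d = ⊥ → PLengthLE p d G := by
  intro N
  induction N using Nat.strong_induction_on with
  | _ N ih =>
  intro G _ _ hN hsol S d hd
  rcases subsingleton_or_nontrivial G with hs | hnt
  · exact Subsingleton.elim _ _
  have himage : ∀ {G' : Type u} [Group G'] [Finite G'] (f : G →* G') (hf : Function.Surjective f)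
      (j : ℕ), (derivedSeries ↥(S : Subgroup G) j).map (S : Subgroup G).subtype ≤ f.ker →
      derivedSeries ↥(S.mapSurjective hf : Subgroup G') j = ⊥ := by
    intro G' _ _ f hf j hj
    refine le_bot_iff.mp ((derivedSeries_le_map_derivedSeries
      (f := f.subgroupMap (S : Subgroup G)) (f.subgroupMap_surjective _) j).trans ?_)
    rintro _ ⟨x, hx, rfl⟩
    exact mem_bot.mpr (Subtype.ext (hj ⟨x, hx, rfl⟩))
  by_cases hO : pPrimeCore p G = ⊥
  swap
  · haveI : (pPrimeCore p G).Normal := Basics.pPrimeCore_normal p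
    have hsurj := QuotientGroup.mk'_surjective (pPrimeCore p G)
    exact Coprime23.pLengthLE_of_quotient_coprime (Basics.pPrimeCore_coprime p)
      (ih _ (hN ▸ Basics.card_quotient_lt hO) rfl (Coprime23.isPSolvable_map _ hsurj hsol)
        (S.mapSurjective hsurj) d (himage _ hsurj d (by rw [hd, Subgroup.map_bot]; exact bot_le)))
  haveI : (pCore p G).Normal := Basics.pCore_normal p
  have hne : pCore p G ≠ ⊥ := (Coprime23.exists_core_ne_bot hsol).resolve_right (not_not.mpr hO)
  rcases d with _ | d'
  · refine absurd (le_bot_iff.mp ((Basics.pCore_le_sylow p S).trans fun x hx => ?_)) hne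
    have h : (⟨x, hx⟩ : (S : Subgroup G)) ∈ derivedSeries ↥(S : Subgroup G) 0 := by
      rw [derivedSeries_zero]; trivial
    rw [hd, mem_bot] at h
    exact mem_bot.mpr (congrArg Subtype.val h)
  have hsurj := QuotientGroup.mk'_surjective (pCore p G)
  refine Coprime23.pLengthLE_succ_of_quotient_pCore hO
    (ih _ (hN ▸ Basics.card_quotient_lt hne) rfl (Coprime23.isPSolvable_map _ hsurj hsol)
      (S.mapSurjective hsurj) d' (himage _ hsurj d' ?_))
  rw [QuotientGroup.ker_mk']
  exact derived_le_pCore hp2 hsol hO S d' hd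

end Cfsg.Agent.HallHigman
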