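import Cfsg.Agent.Lib.HallHigman.RankComm

/-!
# A commutator of rank two in a `3`-group of matrices over the field of two elements
-/

set_option autoImplicit false
set_option linter.unusedSectionVars false
set_option linter.style.haveILetI false

namespace Cfsg.Agent.HallHigman

open Module
open scoped commutatorElement

universe u v

theorem derived_rank_two_aux [hp : Fact (Nat.Prime 3)] : ∀ (n : ℕ) {J : Type u} [Group J]
    [Finite J] (_ : IsPGroup 3 J) {U : Type v} [AddCommGroup U] [Module (ZMod 2) U]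
    [FiniteDimensional (ZMod 2) U] (ρ : J →* Module.End (ZMod 2) U),
    finrank (ZMod 2) U = n → ∀ a ∈ commutator J,
      finrank (ZMod 2) (LinearMap.range (ρ a - 1)) ≤ 2 → ρ a = 1 := by
  intro n
  induction n using Nat.strong_induction_on with
  | _ n ih =>
  intro J _ _ hJ U _ _ _ ρ hn a ha hr
  classical
  have hpow : ∃ m, a ^ 3 ^ m = 1 := hJ a
  by_cases hred : ∃ W : Submodule (ZMod 2) U, W ≠ ⊥ ∧ W ≠ ⊤ ∧ ∀ g, ∀ w ∈ W, ρ g w ∈ W
  · obtain ⟨W, hW0, hW1, hW⟩ := hred
    let ρW : J →* Module.End (ZMod 2) W :=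
      { toFun := fun g => (ρ g).restrict (hW g)
        map_one' := LinearMap.ext fun w => Subtype.ext (by simp)
        map_mul' := fun a b => LinearMap.ext fun w => Subtype.ext (by simp [map_mul]) }
    let ρQ : J →* Module.End (ZMod 2) (U ⧸ W) :=
      { toFun := fun g => W.mapQ W (ρ g) fun w hw => hW g w hw
        map_one' := Submodule.linearMap_qext _ (LinearMap.ext fun w => by simp)
        map_mul' := fun a b => Submodule.linearMap_qext _ (LinearMap.ext fun w => by simp [map_mul]) }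
    have hrW : finrank (ZMod 2) (LinearMap.range (ρW a - 1)) ≤ 2 := by
      refine le_trans ?_ hr
      refine LinearMap.finrank_le_finrank_of_injective
        (f := (W.subtype ∘ₗ (LinearMap.range (ρW a - 1)).subtype).codRestrict _ ?_) ?_
      · rintro ⟨_, w, rfl⟩
        exact ⟨w, rfl⟩
      · intro x y h
        refine Subtype.ext (Subtype.ext ?_)
        have h' := congrArg Subtype.val h
        simpa using h'
    have hrQ : finrank (ZMod 2) (LinearMap.range (ρQ a - 1)) ≤ 2 := by
      refine le_trans ?_ hr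
      have e : LinearMap.range (ρQ a - 1) = (LinearMap.range (ρ a - 1)).map W.mkQ := by
        refine le_antisymm ?_ ?_
        · rintro _ ⟨x, rfl⟩
          obtain ⟨u, rfl⟩ := W.mkQ_surjective x
          exact ⟨_, LinearMap.mem_range_self _ u, by simp [ρQ]⟩
        · rintro _ ⟨_, ⟨u, rfl⟩, rfl⟩
          exact ⟨W.mkQ u, by simp [ρQ]⟩
      rw [e]
      exact Submodule.finrank_map_le _ _
    have hdW : finrank (ZMod 2) W < n := hn ▸ Submodule.finrank_lt hW1
    have hdQ : finrank (ZMod 2) (U ⧸ W) < n := by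
      have h1 := W.finrank_quotient_add_finrank
      have h2 : 0 < finrank (ZMod 2) W := by
        haveI : Nontrivial W := (Submodule.nontrivial_iff_ne_bot).mpr hW0
        exact Module.finrank_pos
      omega
    have hkW := ih _ hdW hJ ρW rfl a ha hrW
    have hkQ := ih _ hdQ hJ ρQ rfl a ha hrQ
    obtain ⟨m, hm⟩ := hpow
    refine eq_one_of_sq_sub_one _ ((show Odd 3 by decide).pow (n := m))
      (by rw [← map_pow, hm, map_one]) (LinearMap.ext fun u => ?_)
    have hu : (ρ a - 1) u ∈ W := by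
      rw [← Submodule.Quotient.mk_eq_zero, LinearMap.sub_apply, Submodule.Quotient.mk_sub,
        sub_eq_zero]
      exact LinearMap.congr_fun hkQ (W.mkQ u)
    rw [Module.End.mul_apply, LinearMap.sub_apply, LinearMap.zero_apply, sub_eq_zero]
    exact congrArg Subtype.val (LinearMap.congr_fun hkW ⟨_, hu⟩)
  push Not at hred
  by_cases hab : ∀ z z' : J, ρ z * ρ z' = ρ z' * ρ z
  · let K : Subgroup J :=
      { carrier := {g | ρ g = 1}
        one_mem' := map_one ρ
        mul_mem' := fun {x y} hx hy => by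
          show ρ (x * y) = 1
          rw [map_mul, show ρ x = 1 from hx, show ρ y = 1 from hy, one_mul]
        inv_mem' := fun {x} hx => by
          show ρ x⁻¹ = 1
          have h : ρ (x⁻¹ * x) = 1 := by rw [inv_mul_cancel, map_one]
          rwa [map_mul, show ρ x = 1 from hx, mul_one] at h }
    have hle : commutator J ≤ K := by
      rw [commutator_def, Subgroup.commutator_le]
      intro x _ y _
      show ρ ⁅x, y⁆ = 1
      rw [commutatorElement_def, map_mul, map_mul, map_mul, hab x y, mul_assoc (ρ y), ← map_mul,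
        mul_inv_cancel, map_one, mul_one, ← map_mul, mul_inv_cancel, map_one]
    exact hle ha
  push Not at hab
  obtain ⟨J1, W, d, hJ1W, hpJ1, hbij, hdim, hd2, -, -, hJ1n, hgen, hmove⟩ :=
    exists_blocks (p := 3) (by decide) hJ ρ hred hab
  haveI := hJ1n
  have hnd : n = 3 * d := by
    let L : (∀ i, W i) →ₗ[ZMod 2] U := ∑ i, (W i).subtype ∘ₗ LinearMap.proj i
    have hL : ⇑L = fun f : (∀ i, W i) => ∑ i, (f i : U) := funext fun f => by simp [L]
    have hb : Function.Bijective L := hL ▸ hbij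
    rw [← hn, ← (LinearEquiv.ofBijective L hb).finrank_eq, Module.finrank_pi_fintype]
    simp [hdim]
  let ρ1 : (i : Fin 3) → J1 →* Module.End (ZMod 2) (W i) := fun i =>
    { toFun := fun g => (ρ (g : J)).restrict (hJ1W g g.2 i)
      map_one' := LinearMap.ext fun w => Subtype.ext (by simp)
      map_mul' := fun x y => LinearMap.ext fun w => Subtype.ext (by simp [map_mul]) }
  obtain ⟨y, hy⟩ : ∃ y, y ∉ J1 := by
    by_contra hall
    push Not at hall
    -- then a block is invariant
    obtain ⟨g, w, hw, hgw⟩ := hred (W 0) (fun h => by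
        have := hdim 0
        rw [h, finrank_bot] at this
        omega) (fun h => by
        have := hdim 0
        rw [h, finrank_top, hn, hnd] at this
        omega)
    exact hgw (hJ1W g (hall g) 0 w hw)
  have hcomJ1 : commutator J ≤ J1 := by
    rw [commutator_def, Subgroup.commutator_le]
    intro x _ z _
    obtain ⟨k, hk⟩ := hgen y hy x
    obtain ⟨l, hl⟩ := hgen y hy z
    rw [← QuotientGroup.eq_one_iff, ← QuotientGroup.mk'_apply, map_commutatorElement,
      commutatorElement_eq_one_iff_commute]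
    have e : ∀ {g : J} {i : ℕ}, (y ^ i)⁻¹ * g ∈ J1 →
        QuotientGroup.mk' J1 g = QuotientGroup.mk' J1 y ^ i := fun {g i} h => by
      rw [← map_pow, QuotientGroup.mk'_apply, QuotientGroup.mk'_apply]
      exact (QuotientGroup.eq.mpr h).symm
    rw [e hk, e hl]
    exact Commute.pow_pow_self _ _ _
  have ha1 : a ∈ J1 := hcomJ1 ha
  -- the ranks on the blocks
  have htot : ∑ i : Fin 3, finrank (ZMod 2) (LinearMap.range (ρ1 i ⟨a, ha1⟩ - 1)) ≤ 2 := by
    refine le_trans ?_ hr
    rw [← Module.finrank_pi_fintype]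
    let L : (∀ i, LinearMap.range (ρ1 i ⟨a, ha1⟩ - 1)) →ₗ[ZMod 2] U :=
      ∑ i, (W i).subtype ∘ₗ (LinearMap.range (ρ1 i ⟨a, ha1⟩ - 1)).subtype ∘ₗ LinearMap.proj i
    have hL : ∀ f, L f = ∑ i, (((f i : LinearMap.range (ρ1 i ⟨a, ha1⟩ - 1)) : W i) : U) := fun f => by
      simp [L]
    refine LinearMap.finrank_le_finrank_of_injective
      (f := L.codRestrict (LinearMap.range (ρ a - 1)) fun f => ?_) fun f f' h => ?_
    · choose w hw using fun i => (f i).2
      refine ⟨∑ i, (w i : U), ?_⟩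
      rw [hL, map_sum]
      exact Finset.sum_congr rfl fun i _ => congrArg Subtype.val (hw i)
    · have h' : L f = L f' := congrArg Subtype.val h
      rw [hL, hL] at h'
      have h'' := hbij.1 (a₁ := fun i => (f i).1) (a₂ := fun i => (f' i).1) h'
      exact funext fun i => Subtype.ext (congrFun h'' i)
  have htwo : ∀ i, ρ1 i ⟨a, ha1⟩ ≠ 1 →
      2 ≤ finrank (ZMod 2) (LinearMap.range (ρ1 i ⟨a, ha1⟩ - 1)) := by
    intro i hne
    set A := ρ1 i ⟨a, ha1⟩ with hA
    have hinv : ∀ v ∈ LinearMap.range (A - 1), A v ∈ LinearMap.range (A - 1) := by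
      rintro _ ⟨v, rfl⟩
      exact ⟨A v, by simp [LinearMap.sub_apply, map_sub]⟩
    obtain ⟨v, hv⟩ : ∃ v, (A - 1) v ≠ 0 := by
      by_contra hall
      push Not at hall
      exact hne (sub_eq_zero.mp (LinearMap.ext fun v => hall v))
    obtain ⟨m, hm⟩ := hpow
    have hAm : A ^ 3 ^ m = 1 := by
      rw [hA, ← map_pow, show (⟨a, ha1⟩ : J1) ^ 3 ^ m = 1 from Subtype.ext (by simpa using hm),
        map_one]
    refine two_le_finrank (A.restrict hinv) (fun x z h => ?_) (fun x hx => ?_)
      (v := ⟨_, LinearMap.mem_range_self _ v⟩) fun h => hv (congrArg Subtype.val h)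
    · exact Subtype.ext (end_injective (ρ1 i) _ (congrArg Subtype.val h))
    · obtain ⟨x, w, rfl⟩ := x
      refine Subtype.ext ?_
      have h2 : A ((A - 1) w) = (A - 1) w := congrArg Subtype.val hx
      have key : ∀ l : ℕ, (A ^ l) w = w + l • (A - 1) w := by
        intro l
        induction l with
        | zero => simp
        | succ l ihl =>
          rw [pow_succ', Module.End.mul_apply, ihl, map_add, map_nsmul, h2, succ_nsmul,
            show A w = w + (A - 1) w by simp]
          abel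
      have h3 := key (3 ^ m)
      rw [hAm, Module.End.one_apply] at h3
      have h4 := add_eq_left.mp h3.symm
      obtain ⟨q, hq⟩ := (show Odd 3 by decide).pow (n := m)
      have hz : (2 * q) • (A - 1) w = 0 := by
        rw [← Nat.cast_smul_eq_nsmul (ZMod 2), Nat.cast_mul,
          show ((2 : ℕ) : ZMod 2) = 0 by decide, zero_mul, zero_smul]
      rw [hq, succ_nsmul, hz, zero_add] at h4
      exact h4
  by_contra hne
  obtain ⟨i0, hi0⟩ : ∃ i, ρ1 i ⟨a, ha1⟩ ≠ 1 := by
    by_contra hall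
    push Not at hall
    refine hne (LinearMap.ext fun v => ?_)
    obtain ⟨f, rfl⟩ := hbij.2 v
    simp only [map_sum]
    exact Finset.sum_congr rfl fun i _ => congrArg Subtype.val (LinearMap.congr_fun (hall i) (f i))
  have hother : ∀ i, i ≠ i0 → ρ1 i ⟨a, ha1⟩ = 1 := by
    intro i hi
    by_contra h
    have h1 := htwo i h
    have h2 := htwo i0 hi0
    have key : ∀ f : Fin 3 → ℕ, ∑ l, f l ≤ 2 → 2 ≤ f i → 2 ≤ f i0 → False := fun f hf hf1 hf2 => by
      have h3 := Finset.sum_le_sum_of_subset (f := f) (Finset.subset_univ {i, i0})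
      rw [Finset.sum_pair hi] at h3
      omega
    exact key _ htot h1 h2
  -- transfer to the stabilizer
  let φ : J1 →* (Module.End (ZMod 2) (W i0))ˣ := (ρ1 i0).toHomUnits
  let Ab := Abelianization φ.range
  let ψ : J1 →* Ab := Abelianization.of.comp φ.rangeRestrict
  let conjJ1 : J → (J1 →* J1) := fun g =>
    { toFun := fun x => ⟨g * x * g⁻¹, hJ1n.conj_mem x x.2 g⟩
      map_one' := Subtype.ext (by simp)
      map_mul' := fun x z => Subtype.ext (by simp [mul_assoc]) }
  let Ψ : J1 →* Ab := ∏ i ∈ Finset.range 3, ψ.comp (conjJ1 (y ^ i))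
  have hΨ : ∀ x, Ψ x = ψ x * ψ (conjJ1 y x) * ψ (conjJ1 (y ^ 2) x) := fun x => by
    simp [Ψ, Finset.prod_range_succ, conjJ1]
  have hshift : ∀ x, Ψ (conjJ1 y x) = Ψ x := by
    intro x
    rw [hΨ, hΨ]
    have e1 : conjJ1 y (conjJ1 y x) = conjJ1 (y ^ 2) x := Subtype.ext (by
      simp [conjJ1, pow_two, mul_assoc])
    have e2 : conjJ1 (y ^ 2) (conjJ1 y x) = ⟨y ^ 3, hpJ1 y⟩ * x * ⟨y ^ 3, hpJ1 y⟩⁻¹ :=
      Subtype.ext (by simp [conjJ1, pow_succ, mul_assoc])
    rw [e1, e2, map_mul ψ, map_mul ψ, map_inv, mul_comm (ψ ⟨y ^ 3, hpJ1 y⟩) (ψ x),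
      mul_inv_cancel_right]
    ac_rfl
  let KΨ : Subgroup J := Ψ.ker.map J1.subtype
  have hKn : KΨ.Normal := by
    refine ⟨?_⟩
    rintro _ ⟨x, hx, rfl⟩ g
    obtain ⟨k, hk⟩ := hgen y hy g
    have hpow' : ∀ l : ℕ, ∀ x : J1, Ψ (conjJ1 (y ^ l) x) = Ψ x := by
      intro l
      induction l with
      | zero => intro x; exact congrArg Ψ (Subtype.ext (by simp [conjJ1]))
      | succ l ihl =>
        intro x
        rw [show conjJ1 (y ^ (l + 1)) x = conjJ1 (y ^ l) (conjJ1 y x) from
          Subtype.ext (by simp [conjJ1, pow_succ, mul_assoc]), ihl, hshift]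
    refine ⟨conjJ1 (y ^ k) (⟨_, hk⟩ * x * ⟨_, hk⟩⁻¹), ?_, by simp [conjJ1, mul_assoc]⟩
    rw [SetLike.mem_coe, MonoidHom.mem_ker, hpow', map_mul, map_mul, MonoidHom.mem_ker.mp hx, mul_one, ← map_mul,
      mul_inv_cancel, map_one]
  have hcomK : commutator J ≤ KΨ := by
    haveI := hKn
    rw [commutator_def, Subgroup.commutator_le]
    intro x _ z _
    obtain ⟨k, hk⟩ := hgen y hy x
    obtain ⟨l, hl⟩ := hgen y hy z
    have hJc : ∀ u ∈ J1, ∀ w ∈ J1, Commute (QuotientGroup.mk' KΨ u) (QuotientGroup.mk' KΨ w) := by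
      intro u hu w hw
      rw [← commutatorElement_eq_one_iff_commute, ← map_commutatorElement, QuotientGroup.mk'_apply,
        QuotientGroup.eq_one_iff]
      refine ⟨⁅(⟨u, hu⟩ : J1), ⟨w, hw⟩⁆, ?_, rfl⟩
      rw [SetLike.mem_coe, MonoidHom.mem_ker, map_commutatorElement,
        commutatorElement_eq_one_iff_commute]
      exact Commute.all _ _
    have hJy : ∀ u ∈ J1, Commute (QuotientGroup.mk' KΨ y) (QuotientGroup.mk' KΨ u) := by
      intro u hu
      rw [← commutatorElement_eq_one_iff_commute, ← map_commutatorElement, QuotientGroup.mk'_apply,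
        QuotientGroup.eq_one_iff]
      refine ⟨conjJ1 y ⟨u, hu⟩ * (⟨u, hu⟩ : J1)⁻¹, ?_, by simp [conjJ1, commutatorElement_def]⟩
      rw [SetLike.mem_coe, MonoidHom.mem_ker, map_mul, hshift, map_inv, mul_inv_cancel]
    rw [← QuotientGroup.eq_one_iff, ← QuotientGroup.mk'_apply, map_commutatorElement,
      commutatorElement_eq_one_iff_commute]
    have ex : QuotientGroup.mk' KΨ x =
        QuotientGroup.mk' KΨ y ^ k * QuotientGroup.mk' KΨ ((y ^ k)⁻¹ * x) := by
      rw [← map_pow, ← map_mul, mul_inv_cancel_left]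
    have ez : QuotientGroup.mk' KΨ z =
        QuotientGroup.mk' KΨ y ^ l * QuotientGroup.mk' KΨ ((y ^ l)⁻¹ * z) := by
      rw [← map_pow, ← map_mul, mul_inv_cancel_left]
    rw [ex, ez]
    exact ((Commute.pow_pow_self _ k l).mul_right ((hJy _ hl).pow_left k)).mul_left
      (((hJy _ hk).pow_left l).symm.mul_right (hJc _ hk _ hl))
  have hψ : ∀ l : ℕ, ¬ 3 ∣ l → ψ (conjJ1 (y ^ l) ⟨a, ha1⟩) = 1 := by
    intro l hl
    -- the conjugate is trivial on the block
    have hyl : y ^ l ∉ J1 := by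
      intro hmem
      apply hy
      obtain ⟨m, -, hm⟩ := Nat.exists_mul_mod_eq_one_of_coprime
        (((show Nat.Prime 3 by norm_num).coprime_iff_not_dvd.mpr hl).symm) (by norm_num : 1 < 3)
      have h := J1.pow_mem hmem m
      rw [← pow_mul, ← Nat.div_add_mod (l * m) 3, hm, pow_add, pow_one, pow_mul] at h
      exact (J1.mul_mem_cancel_left (J1.pow_mem (hpJ1 y) _)).mp h
    have htriv : ρ1 i0 (conjJ1 (y ^ l) ⟨a, ha1⟩) = 1 := by
      refine LinearMap.ext fun v => Subtype.ext ?_
      show ρ (y ^ l * a * (y ^ l)⁻¹) (v : U) = v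
      obtain ⟨f, hf⟩ := hbij.2 (ρ (y ^ l)⁻¹ (v : U))
      have hfi : f i0 = 0 := by
        have hblock : ∃ j, j ≠ i0 ∧ ρ (y ^ l)⁻¹ (v : U) ∈ W j := by
          obtain ⟨j, hj, hjW⟩ := hmove (y ^ l)⁻¹ (fun h => hyl (by simpa using J1.inv_mem h)) i0
          exact ⟨j, hj, hjW _ v.2⟩
        obtain ⟨j, hji, hjmem⟩ := hblock
        have he : f = Pi.single j ⟨_, hjmem⟩ := hbij.1 (by
          show ∑ i, (f i : U) = ∑ i, ((Pi.single j ⟨_, hjmem⟩ : ∀ i, W i) i : U)
          rw [show ∑ i, (f i : U) = ρ (y ^ l)⁻¹ (v : U) from hf, Finset.sum_eq_single j]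
          · simp
          · intro i _ hij
            simp [hij]
          · simp)
        rw [he, Pi.single_eq_of_ne (Ne.symm hji)]
      have hfix : ρ a (ρ (y ^ l)⁻¹ (v : U)) = ρ (y ^ l)⁻¹ (v : U) := by
        rw [← hf, map_sum]
        refine Finset.sum_congr rfl fun i _ => ?_
        by_cases hi : i = i0
        · subst hi
          rw [hfi]
          simp
        · exact congrArg Subtype.val (LinearMap.congr_fun (hother i hi) (f i))
      rw [map_mul, map_mul, Module.End.mul_apply, Module.End.mul_apply, hfix,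
        ← Module.End.mul_apply, ← map_mul, mul_inv_cancel, map_one, Module.End.one_apply]
    show Abelianization.of (φ.rangeRestrict _) = 1
    rw [show φ.rangeRestrict (conjJ1 (y ^ l) ⟨a, ha1⟩) = 1 from Subtype.ext (Units.ext htriv),
      map_one]
  obtain ⟨x, hx, hxa⟩ := hcomK ha
  obtain rfl : x = ⟨a, ha1⟩ := Subtype.ext hxa
  rw [SetLike.mem_coe, MonoidHom.mem_ker, hΨ] at hx
  rw [show conjJ1 y = conjJ1 (y ^ 1) by rw [pow_one], hψ 1 (by decide), hψ 2 (by decide), mul_one,
    mul_one] at hx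
  have hmem : φ.rangeRestrict ⟨a, ha1⟩ ∈ (commutator J1).map φ.rangeRestrict := by
    rw [commutator_def, Subgroup.map_commutator, ← MonoidHom.range_eq_map,
      MonoidHom.range_eq_top.mpr φ.rangeRestrict_surjective, ← commutator_def,
      ← Abelianization.ker_of]
    exact hx
  obtain ⟨a', ha', haa'⟩ := hmem
  have hsame : ρ1 i0 a' = ρ1 i0 ⟨a, ha1⟩ := congrArg (fun u => (u.1 : Module.End (ZMod 2) (W i0))) haa'
  refine hi0 (hsame ▸ ih _ (by rw [hdim, hnd]; omega) (hJ.to_subgroup J1) (ρ1 i0) rfl a' ha' ?_)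
  rw [hsame]
  have key : ∀ f : Fin 3 → ℕ, ∑ l, f l ≤ 2 → f i0 ≤ 2 := fun f h =>
    le_trans (Finset.single_le_sum (fun _ _ => Nat.zero_le _) (Finset.mem_univ i0)) h
  exact key _ htot

/-- A commutator of a `3`-group of rank at most two is trivial. -/
theorem derived_rank_two [Fact (Nat.Prime 3)] {J : Type u} [Group J] [Finite J] (hJ : IsPGroup 3 J)
    {U : Type v} [AddCommGroup U] [Module (ZMod 2) U] [FiniteDimensional (ZMod 2) U]
    (ρ : J →* Module.End (ZMod 2) U) (a : J) (ha : a ∈ commutator J)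
    (hr : finrank (ZMod 2) (LinearMap.range (ρ a - 1)) ≤ 2) : ρ a = 1 :=
  derived_rank_two_aux _ hJ ρ rfl a ha hr

end Cfsg.Agent.HallHigman
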