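import Cfsg.Agent.Lib.HallHigman.Exceptional
import Cfsg.Agent.Lib.HallHigman.DerivedRank

/-!
# Quadratic elements of the derived group of a `p`-group
-/

set_option autoImplicit false
set_option linter.unusedSectionVars false
set_option linter.style.haveILetI false

namespace Cfsg.Agent.HallHigman

open Module Subgroup
open scoped commutatorElement

universe u

variable {k : Type*} [Field k] [IsAlgClosed k] {p : ℕ} [hp : Fact p.Prime] [hk : CharP k p]
variable {H : Type u} [Group H] [Finite H]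
variable {V : Type*} [AddCommGroup V] [Module k V] [FiniteDimensional k V]

/-- A quadratic element of a derived group killing the squares is trivial. -/
theorem derived_quadratic (hp2 : p ≠ 2) (ρ : H →* Module.End k V) (hρ : Function.Injective ρ)
    (hsol : IsPSolvable p H) (hO : pCore p H = ⊥) (C : Subgroup H) (hC : IsPGroup p C) (a : H)
    (ha : a ∈ ⁅C, C⁆) (hq : (ρ a - 1) ^ 2 = 0)
    (hcond : ∀ c ∈ C, (ρ a - 1) * (ρ c - 1) ^ 2 = 0) : a = 1 := by
  classical
  have haC : a ∈ C := commutator_le_self C ha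
  have hap : a ^ p = 1 := by
    refine hρ ?_
    rw [map_one, map_pow, ← sub_eq_zero, ← pow_one p, ← sub_one_pow_eq_pow_sub_one (k := k)]
    exact pow_eq_zero_of_le (by rw [pow_one]; exact hp.out.two_le) hq
  by_contra ha1
  have hord : orderOf a = p ^ 1 := by rw [pow_one]; exact orderOf_eq_prime hap ha1
  rcases hall_higman_B ρ hρ hsol hO a hord le_rfl with h | ⟨n₀, q', m', h1, h2, -, -, -, -, h7⟩
  · exact h (pow_eq_zero_of_le (by have := hp.out.two_le; simp only [pow_one]; omega) hq)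
  obtain rfl : n₀ = 1 := by omega
  obtain rfl : p = 3 := by
    by_contra hne
    refine h7 (pow_eq_zero_of_le ?_ hq)
    have : p ≠ 4 := fun h => by rw [h] at hp; exact absurd hp.out (by norm_num)
    have := hp.out.two_le
    simp only [Nat.sub_self, pow_zero, pow_one, one_mul]
    omega
  clear h7 h1 h2
  have ha3 : a ^ 3 ^ 1 = 1 := by rw [pow_one]; exact hap
  set Q := pPrimeCore 3 H
  haveI : Q.Normal := Basics.pPrimeCore_normal 3
  have hQ : (Nat.card Q).Coprime 3 := Basics.pPrimeCore_coprime (G := H) 3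
  have hcopS : (Nat.card C).Coprime (Nat.card Q) := by
    obtain ⟨i, hi⟩ := IsPGroup.iff_card.mp hC
    rw [hi]
    exact hQ.symm.pow_left i
  have hcent : a ∉ centralizer (Q : Set H) := fun h => by
    have h1 : a ∈ C ⊓ Q := mem_inf.mpr ⟨haC, Components.centralizer_pPrimeCore_le hsol hO h⟩
    rw [inf_eq_bot_of_coprime hcopS, mem_bot] at h1
    exact ha1 h1
  have hexT : ∃ d, ∃ (q : ℕ) (T : Subgroup H), q.Prime ∧ q ≠ 3 ∧ IsPGroup q T ∧
      C ≤ normalizer (T : Set H) ∧ a ∉ centralizer (T : Set H) ∧ Nat.card T = d := by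
    by_contra hcon
    push Not at hcon
    refine hcent ?_
    suffices hall : Q ≤ centralizer ({a} : Set H) from
      fun g hg => (mem_centralizer_singleton_iff.mp (hall hg))
    set D := Q ⊓ centralizer ({a} : Set H)
    suffices hc : Nat.card Q ∣ Nat.card D from
      (eq_of_le_of_card_ge inf_le_left (Nat.le_of_dvd Nat.card_pos hc)).ge.trans inf_le_right
    refine (Nat.factorization_prime_le_iff_dvd Nat.card_pos.ne' Nat.card_pos.ne').mp fun q hq => ?_
    haveI := Fact.mk hq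
    by_cases hqQ : q ∣ Nat.card Q
    · obtain ⟨T, hT, hTn⟩ := Basics.exists_invariant_isSylowIn C Q
        (fun g _ => by rw [normalizer_eq_top]; trivial) hcopS
        (Or.inl (haveI := hC.isNilpotent; inferInstance)) q
      have hqp : q ≠ 3 := by
        rintro rfl
        exact (by norm_num : (3 : ℕ) ≠ 1) (Nat.eq_one_of_dvd_coprimes hQ hqQ dvd_rfl)
      have hle : T ≤ D := le_inf hT.1 fun t ht => mem_centralizer_singleton_iff.mpr (by
        by_contra hne
        exact hcon (Nat.card T) q T hq hqp hT.isPGroup hTn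
          (fun h' => hne (mem_centralizer_iff.mp h' t ht)) rfl)
      refine (hq.pow_dvd_iff_le_factorization Nat.card_pos.ne').mp ?_
      rw [← hT.2]
      exact card_dvd_of_le hle
    · rw [Nat.factorization_eq_zero_of_not_dvd hqQ]
      exact Nat.zero_le _
  obtain ⟨q, T, hqq, hqp, hT, hST, hTC, hTd⟩ := Nat.find_spec hexT
  haveI := Fact.mk hqq
  haveI : Group.IsNilpotent T := hT.isNilpotent
  set A0 := Subgroup.closure {x : H | ∃ g ∈ C, x = g * a * g⁻¹} with hA0
  have haA0 : a ∈ A0 := Subgroup.subset_closure ⟨1, one_mem C, by simp⟩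
  have hA0C : A0 ≤ C := (Subgroup.closure_le C).mpr (by
    rintro _ ⟨g, hg, rfl⟩
    exact mul_mem (mul_mem hg haC) (inv_mem hg))
  have hCA0 : ∀ s ∈ C, A0.map (MulAut.conj s : H →* H) = A0 := fun s hs => by
    refine eq_of_le_of_card_ge ?_ (card_map_of_injective (MulAut.conj s).injective).ge
    rw [hA0, MonoidHom.map_closure, Subgroup.closure_le]
    rintro _ ⟨_, ⟨g, hg, rfl⟩, rfl⟩
    refine Subgroup.subset_closure ⟨s * g, mul_mem hs hg, ?_⟩
    show s * (g * a * g⁻¹) * s⁻¹ = s * g * a * (s * g)⁻¹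
    group
  have hA0cent : ∀ T' : Subgroup H, C ≤ normalizer (T' : Set H) → a ∈ centralizer (T' : Set H) →
      A0 ≤ centralizer (T' : Set H) := by
    intro T' hT' haT'
    rw [hA0, Subgroup.closure_le]
    rintro _ ⟨g, hg, rfl⟩
    exact (mem_normalizer_iff.mp (Basics.Carter.normalizer_centralizer (hT' hg)) a).mp haT'
  have hmin : ∀ T' : Subgroup H, T' ≤ T → C ≤ normalizer (T' : Set H) → T' ≠ T →
      A0 ≤ centralizer (T' : Set H) := by
    intro T' hT' hST' hne
    refine hA0cent T' hST' ?_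
    by_contra hT'C
    have := Nat.find_min' hexT (m := Nat.card T')
      ⟨q, T', hqq, hqp, hT.to_le hT', hST', hT'C, rfl⟩
    exact hne (eq_of_le_of_card_ge hT' (by omega))
  have hcast : ∀ b ∈ T, (orderOf b : k) ≠ 0 := by
    intro b hb
    obtain ⟨i, hi⟩ := IsPGroup.iff_orderOf.mp hT ⟨b, hb⟩
    rw [Subgroup.orderOf_mk] at hi
    rw [hi, Ne, CharP.cast_eq_zero_iff k 3]
    exact fun h => hqp ((Nat.prime_dvd_prime_iff_eq hp.out hqq).mp (hp.out.dvd_of_dvd_pow h)).symm
  -- abelian invariant subgroups are centralized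
  have habel : ∀ A : Subgroup H, A ≤ T → C ≤ normalizer (A : Set H) →
      (∀ x ∈ A, ∀ y ∈ A, x * y = y * x) → A0 ≤ centralizer (A : Set H) := by
    intro A hA hSA hAc
    refine hA0cent A hSA (mem_centralizer_iff.mpr fun b hb => ?_)
    by_contra hne
    refine full_degree_of_abelian ρ A a (hSA haC) ha3
      (fun x hx y hy => (show Commute x y from hAc x hx y hy).map ρ) (fun x hx => hcast x (hA hx))
      ⟨b, hb, fun h => hne ?_⟩ hq
    have h' := hρ h
    simp only [Nat.sub_self, pow_zero, pow_one] at h'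
    exact (mul_inv_eq_iff_eq_mul.mp h').symm
  -- the structure of `T`
  set Φ : Subgroup H := (frattini T).map T.subtype with hΦ
  have hΦT : Φ ≤ T := map_subtype_le _
  have hSΦ : C ≤ normalizer (Φ : Set H) :=
    hST.trans (LocalEvenA.normalizer_le_normalizer_map_char _)
  have hTne : Nontrivial T := by
    rw [nontrivial_iff_ne_bot]
    intro h
    apply hTC
    rw [h]
    exact fun x hx => by
      rw [SetLike.mem_coe, mem_bot] at hx
      rw [hx, one_mul, mul_one]
  have hΦne : Φ ≠ T := by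
    intro h
    have h1 : frattini T = ⊤ := by
      refine map_injective T.subtype_injective ?_
      rw [← MonoidHom.range_eq_map, range_subtype]
      exact h
    exact (bot_ne_top (α := Subgroup T)) (frattini_nongenerating (by rw [h1, bot_sup_eq]))
  have hΦC := hmin Φ hΦT hSΦ hΦne
  have hST0 : ∀ s ∈ C, T.map (MulAut.conj s : H →* H) = T := fun s hs =>
    mem_normalizer_iff_map_conj_eq.mp (hST hs)
  have hA0T : A0 ≤ normalizer (T : Set H) := hA0C.trans hST
  have hcopC : (Nat.card A0).Coprime (Nat.card T) := by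
    obtain ⟨i, hi⟩ := IsPGroup.iff_card.mp (hC.to_le hA0C)
    obtain ⟨j, hj⟩ := IsPGroup.iff_card.mp hT
    rw [hi, hj]
    exact Nat.Coprime.pow i j ((Nat.coprime_primes hp.out hqq).mpr hqp.symm)
  have hTA0 : ⁅T, A0⁆ = T := by
    by_contra hne
    have hle : ⁅T, A0⁆ ≤ T := le_normalizer_iff_commutator_le_left.mp hA0T
    have hnorm : C ≤ normalizer ((⁅T, A0⁆ : Subgroup H) : Set H) := fun s hs =>
      mem_normalizer_iff_map_conj_eq.mpr (by rw [map_commutator, hST0 s hs, hCA0 s hs])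
    have h1 := hmin _ hle hnorm hne
    have h2 : ⁅⁅T, A0⁆, A0⁆ = ⊥ :=
      commutator_eq_bot_iff_le_centralizer.mpr (Subgroup.le_centralizer_iff.mp h1)
    rw [Basics.commutator_commutator_eq A0 T hA0T hcopC (Or.inr inferInstance),
      commutator_eq_bot_iff_le_centralizer] at h2
    exact hTC (Subgroup.le_centralizer_iff.mp h2 haA0)
  have hΦn : ⁅Φ, T⁆ ≤ Φ := le_normalizer_iff_commutator_le_left.mp
    (le_normalizer.trans (LocalEvenA.normalizer_le_normalizer_map_char _))
  have hΦZ : Φ ≤ centralizer (T : Set H) := by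
    have h1 : ⁅⁅A0, Φ⁆, T⁆ = ⊥ := by
      rw [commutator_eq_bot_iff_le_centralizer.mpr hΦC, commutator_bot_left]
    have h2 : ⁅⁅Φ, T⁆, A0⁆ = ⊥ :=
      commutator_eq_bot_iff_le_centralizer.mpr (hΦn.trans (Subgroup.le_centralizer_iff.mp hΦC))
    have h3 := commutator_commutator_eq_bot_of_rotate h1 h2
    rw [hTA0, commutator_eq_bot_iff_le_centralizer] at h3
    exact Subgroup.le_centralizer_iff.mp h3
  set Z0 := T ⊓ centralizer (T : Set H) with hZ0
  have hSZ0 : C ≤ normalizer (Z0 : Set H) := fun s hs =>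
    inf_normalizer_le_normalizer_inf ⟨hST hs, Basics.Carter.normalizer_centralizer (hST hs)⟩
  have hZ0D : A0 ≤ centralizer (Z0 : Set H) :=
    habel Z0 inf_le_left hSZ0 fun a ha b hb =>
      ((mem_centralizer_iff.mp (mem_inf.mp hb).2) a (mem_inf.mp ha).1)
  have hΦZ0 : Φ ≤ Z0 := le_inf hΦT hΦZ
  have hcommT : ∀ s ∈ T, ∀ t ∈ T, s * t * s⁻¹ * t⁻¹ ∈ Φ := fun s hs t ht =>
    ⟨⁅(⟨s, hs⟩ : T), ⟨t, ht⟩⁆,
      Basics.commutator_le_frattini (commutator_mem_commutator (mem_top _) (mem_top _)), rfl⟩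
  obtain ⟨t0, ht0, hu⟩ : ∃ t ∈ T, a * t * a⁻¹ * t⁻¹ ∉ Z0 := by
    by_contra hall
    push Not at hall
    let K : Subgroup H :=
      { carrier := {x | x ∈ C ∧ ∀ t ∈ T, x * t * x⁻¹ * t⁻¹ ∈ Z0}
        one_mem' := ⟨one_mem C, fun t _ => by simp⟩
        mul_mem' := fun {x y} hx hy => ⟨mul_mem hx.1 hy.1, fun t ht => by
          rw [show x * y * t * (x * y)⁻¹ * t⁻¹ =
            x * (y * t * y⁻¹ * t⁻¹) * x⁻¹ * (x * t * x⁻¹ * t⁻¹) by group]
          exact mul_mem ((mem_normalizer_iff.mp (hSZ0 hx.1) _).mp (hy.2 t ht)) (hx.2 t ht)⟩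
        inv_mem' := fun {x} hx => ⟨inv_mem hx.1, fun t ht => by
          have h := inv_mem ((mem_normalizer_iff.mp (hSZ0 (inv_mem hx.1)) _).mp (hx.2 t ht))
          rw [show (x⁻¹ * (x * t * x⁻¹ * t⁻¹) * x⁻¹⁻¹)⁻¹ = x⁻¹ * t * x⁻¹⁻¹ * t⁻¹ by group] at h
          exact h⟩ }
    have hA0K : A0 ≤ K := by
      rw [hA0, Subgroup.closure_le]
      rintro _ ⟨g, hg, rfl⟩
      refine ⟨mul_mem (mul_mem hg haC) (inv_mem hg), fun t ht => ?_⟩
      have ht' : g⁻¹ * t * g ∈ T := by
        have := (mem_normalizer_iff.mp (inv_mem (hST hg)) t).mp ht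
        rwa [inv_inv] at this
      have h := (mem_normalizer_iff.mp (hSZ0 hg) _).mp (hall _ ht')
      rwa [show g * (a * (g⁻¹ * t * g) * a⁻¹ * (g⁻¹ * t * g)⁻¹) * g⁻¹ =
        g * a * g⁻¹ * t * (g * a * g⁻¹)⁻¹ * t⁻¹ by group] at h
    have hle : T ≤ Z0 := by
      rw [← hTA0, commutator_le]
      intro t ht c hc
      have := inv_mem ((hA0K hc).2 t ht)
      rw [commutatorElement_def]
      rwa [show (c * t * c⁻¹ * t⁻¹)⁻¹ = t * c * t⁻¹ * c⁻¹ by group] at this
    exact hTC (habel T le_rfl hST (fun x hx y hy =>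
      (mem_centralizer_iff.mp (mem_inf.mp (hle hy)).2) x hx) haA0)
  set uu := a * t0 * a⁻¹ * t0⁻¹ with huu
  have huT : uu ∈ T := mul_mem ((mem_normalizer_iff.mp (hST haC) t0).mp ht0) (inv_mem ht0)
  obtain ⟨t1, ht1, hne1⟩ : ∃ t1 ∈ T, uu * t1 * uu⁻¹ * t1⁻¹ ≠ 1 := by
    by_contra hall
    push Not at hall
    refine hu (mem_inf.mpr ⟨huT, mem_centralizer_iff.mpr fun t ht => ?_⟩)
    exact (commutatorElement_eq_one_iff_commute.mp (hall t ht)).eq.symm
  set d0 := uu * t1 * uu⁻¹ * t1⁻¹ with hd0def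
  have hd0 : d0 ∈ Z0 := hΦZ0 (hcommT uu huT t1 ht1)
  obtain ⟨v, hv0, χ0, hχ0, hχ1⟩ := exists_eigen_ne_one (fun a : Z0 => ρ (a : H))
    (fun a b => (show Commute (a : H) b from
      (mem_centralizer_iff.mp (mem_inf.mp b.2).2) a (mem_inf.mp a.2).1).map ρ)
    ⟨d0, hd0⟩ (hcast d0 (mem_inf.mp hd0).1)
    (by rw [← map_pow, pow_orderOf_eq_one, map_one])
    (fun h => hne1 (hρ (h.trans (map_one ρ).symm)))
  let χ : H → k := fun g => if h : g ∈ Z0 then χ0 ⟨g, h⟩ else 0
  have hχ : ∀ b ∈ Z0, ρ b v = χ b • v := fun b hb => by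
    simp only [χ, dif_pos hb]; exact hχ0 ⟨b, hb⟩
  set W := eigW ρ Z0 χ with hW
  have hvW : v ∈ W := hχ
  haveI : Nontrivial W := nontrivial_of_ne ⟨v, hvW⟩ 0 fun h => hv0 (congrArg Subtype.val h)
  let G0 : Subgroup H :=
    { carrier := {g | g ∈ normalizer (T : Set H) ∧ (∀ w ∈ W, ρ g w ∈ W) ∧ ∀ w ∈ W, ρ g⁻¹ w ∈ W}
      one_mem' := ⟨one_mem _, fun w hw => by simpa using hw, fun w hw => by simpa using hw⟩
      mul_mem' := fun {a b} ha hb => ⟨mul_mem ha.1 hb.1, fun w hw => by
        rw [map_mul]; exact ha.2.1 _ (hb.2.1 w hw), fun w hw => by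
        rw [mul_inv_rev, map_mul]; exact hb.2.2 _ (ha.2.2 w hw)⟩
      inv_mem' := fun {a} ha => ⟨inv_mem ha.1, ha.2.2, by rw [inv_inv]; exact ha.2.1⟩ }
  have hTG0 : T ≤ G0 := fun t ht => ⟨le_normalizer ht, eigW_invariant ρ Z0 χ
    (inf_normalizer_le_normalizer_inf
      ⟨le_normalizer ht, Basics.Carter.normalizer_centralizer (le_normalizer ht)⟩)
    fun a ha => by rw [(mem_centralizer_iff.mp (mem_inf.mp ha).2) t ht, mul_inv_cancel_right]⟩
  have haG0 : a ∈ G0 := ⟨hST haC, eigW_invariant ρ Z0 χ (hSZ0 haC) fun b hb => by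
    rw [← (mem_centralizer_iff.mp (hZ0D haA0)) b hb, mul_inv_cancel_right]⟩
  let ρW : G0 →* Module.End k W :=
    { toFun := fun g => (ρ (g : H)).restrict g.2.2.1
      map_one' := LinearMap.ext fun w => Subtype.ext (by simp)
      map_mul' := fun a b => LinearMap.ext fun w => Subtype.ext (by simp [map_mul]) }
  -- the scalars
  let N0 : Subgroup H :=
    { carrier := {t | t ∈ T ∧ ∃ a : k, ∀ w ∈ W, ρ t w = a • w}
      one_mem' := ⟨one_mem T, 1, fun w _ => by simp⟩
      mul_mem' := fun {s t} hs ht => by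
        obtain ⟨hsT, a, ha⟩ := hs
        obtain ⟨htT, b, hb⟩ := ht
        refine ⟨mul_mem hsT htT, b * a, fun w hw => ?_⟩
        rw [map_mul, Module.End.mul_apply, hb w hw, map_smul, ha w hw, smul_smul]
      inv_mem' := fun {t} ht => by
        obtain ⟨htT, a, ha⟩ := ht
        refine ⟨inv_mem htT, a⁻¹, fun w hw => ?_⟩
        have h1 : ρ t⁻¹ (ρ t w) = w := by
          rw [← Module.End.mul_apply, ← map_mul, inv_mul_cancel, map_one, Module.End.one_apply]
        rw [ha w hw, map_smul] at h1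
        by_cases ha0 : a = 0
        · rw [ha0, zero_smul] at h1
          rw [← h1, map_zero, smul_zero]
        · conv_rhs => rw [← h1]
          rw [smul_smul, inv_mul_cancel₀ ha0, one_smul] }
  have hN0T : N0 ≤ T := fun _ h => h.1
  have hZN0 : Z0 ≤ N0 := fun b hb => ⟨(mem_inf.mp hb).1, χ b, fun w hw => hw b hb⟩
  have hN0conj : ∀ g ∈ G0, ∀ t ∈ N0, g * t * g⁻¹ ∈ N0 := by
    intro g hg t ht
    obtain ⟨htT, a, ha⟩ := ht
    refine ⟨(mem_normalizer_iff.mp hg.1 t).mp htT, a, fun w hw => ?_⟩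
    rw [map_mul, map_mul, Module.End.mul_apply, Module.End.mul_apply, ha _ (hg.2.2 w hw), map_smul,
      ← Module.End.mul_apply, ← map_mul, mul_inv_cancel, map_one, Module.End.one_apply]
  haveI : (N0.subgroupOf T).Normal := ⟨fun t ht g => mem_subgroupOf.mpr
    (hN0conj g (hTG0 g.2) _ (mem_subgroupOf.mp ht))⟩
  letI : CommGroup (↥T ⧸ N0.subgroupOf T) :=
    { (inferInstance : Group (↥T ⧸ N0.subgroupOf T)) with
      mul_comm := by
        intro a b
        induction a using QuotientGroup.induction_on with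
        | H a =>
          induction b using QuotientGroup.induction_on with
          | H b =>
            rw [← commutatorElement_eq_one_iff_mul_comm]
            refine (QuotientGroup.eq_one_iff (N := N0.subgroupOf T) ⁅a, b⁆).mpr ?_
            exact mem_subgroupOf.mpr (hZN0 (hΦZ0 (hcommT a a.2 b b.2))) }
  have hMq : ∀ m : ↥T ⧸ N0.subgroupOf T, m ^ q = 1 := by
    intro m
    induction m using QuotientGroup.induction_on with
    | H a =>
      rw [← QuotientGroup.mk_pow, QuotientGroup.eq_one_iff]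
      exact mem_subgroupOf.mpr (hZN0 (hΦZ0 ⟨a ^ q, Basics.pow_mem_frattini hT a, rfl⟩))
  -- `uu` is no scalar
  have huN0 : uu ∉ N0 := by
    intro hmem
    obtain ⟨-, α, hα⟩ := hmem
    -- a scalar has trivial commutators
    apply hχ1
    have h3 : ρ d0 v = v := by
      have hw : ρ (t1⁻¹) v ∈ W := (hTG0 ht1).2.2 v hvW
      have h4 : ρ uu⁻¹ (ρ t1⁻¹ v) = ρ t1⁻¹ (ρ uu⁻¹ v) := by
        have hinv : ∀ w ∈ W, ρ uu⁻¹ w = α⁻¹ • w := fun w hw => by
          have h5 : ρ uu⁻¹ (ρ uu w) = w := by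
            rw [← Module.End.mul_apply, ← map_mul, inv_mul_cancel, map_one, Module.End.one_apply]
          rw [hα w hw, map_smul] at h5
          by_cases hα0 : α = 0
          · rw [hα0, zero_smul] at h5
            rw [← h5, map_zero, smul_zero]
          · conv_rhs => rw [← h5]
            rw [smul_smul, inv_mul_cancel₀ hα0, one_smul]
        rw [hinv _ hw, hinv v hvW, map_smul]
      rw [hd0def, map_mul, map_mul, map_mul, Module.End.mul_apply, Module.End.mul_apply,
        Module.End.mul_apply, h4, ← Module.End.mul_apply (ρ t1), ← map_mul, mul_inv_cancel, map_one,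
        Module.End.one_apply, ← Module.End.mul_apply, ← map_mul, mul_inv_cancel, map_one,
        Module.End.one_apply]
    have h5 := hχ _ hd0
    rw [h3] at h5
    have h6 : χ d0 = 1 := smul_left_injective k hv0 (h5.symm.trans (one_smul k v).symm)
    simpa [χ, dif_pos hd0] using h6
  obtain ⟨w0, hw0W, hw0⟩ : ∃ w ∈ W, ρ a w - w ≠ 0 := by
    by_contra hall
    push Not at hall
    refine huN0 ⟨huT, 1, fun w hw => ?_⟩
    have htw : ρ (t0⁻¹) w ∈ W := (hTG0 ht0).2.2 w hw
    have hfix : ∀ x ∈ W, ρ a x = x := fun x hx => sub_eq_zero.mp (hall x hx)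
    have hfix' : ∀ x ∈ W, ρ a⁻¹ x = x := fun x hx => by
      conv_lhs => rw [← hfix x hx]
      rw [← Module.End.mul_apply, ← map_mul, inv_mul_cancel, map_one, Module.End.one_apply]
    rw [huu, map_mul, map_mul, map_mul, Module.End.mul_apply, Module.End.mul_apply,
      Module.End.mul_apply, hfix' _ htw, ← Module.End.mul_apply (ρ t0), ← map_mul, mul_inv_cancel,
      map_one, Module.End.one_apply, hfix w hw, one_smul]
  -- `C` fixes the character
  have hCG0 : ∀ c ∈ C, c ∈ G0 := by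
    intro c hc
    refine ⟨hST hc, eigW_invariant ρ Z0 χ (hSZ0 hc) ?_⟩
    by_contra hnot
    let Stab : Submonoid H :=
      { carrier := {g | ∀ b ∈ Z0, g * b * g⁻¹ ∈ Z0 ∧ χ (g * b * g⁻¹) = χ b}
        one_mem' := fun b hb => by simp [hb]
        mul_mem' := fun {g h} hg hh b hb => by
          obtain ⟨h1, h2⟩ := hh b hb
          obtain ⟨g1, g2⟩ := hg _ h1
          rw [show g * h * b * (g * h)⁻¹ = g * (h * b * h⁻¹) * g⁻¹ by group]
          exact ⟨g1, g2.trans h2⟩ }
    obtain ⟨n, hn⟩ : ∃ n, c ^ 3 ^ n = 1 := by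
      obtain ⟨n, hn⟩ := hC ⟨c, hc⟩
      exact ⟨n, congrArg Subtype.val hn⟩
    have hnc : c ∉ Stab := fun h => hnot fun b hb => (h b hb).2
    have hnd : ∀ d, 0 < d → d < 3 → c ^ d ∉ Stab := by
      intro d hd0 hd3 hmem
      obtain ⟨i, hi, himem⟩ := exists_prime_pow_mem hn hd0 Stab hmem
      have hi0 : i = 0 := by
        by_contra hi0
        have h3 : 3 ^ 1 ≤ d :=
          (Nat.pow_le_pow_right (by norm_num) (by omega)).trans (Nat.le_of_dvd hd0 hi)
        omega
      rw [hi0, pow_zero, pow_one] at himem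
      exact hnc himem
    have hdiff : ∀ i j : ℕ, i < j → j < 3 → ∃ b ∈ Z0,
        χ ((c ^ i)⁻¹ * b * c ^ i) ≠ χ ((c ^ j)⁻¹ * b * c ^ j) := by
      intro i j hij hj
      have hnot' := hnd (j - i) (by omega) (by omega)
      have h' : ∃ b ∈ Z0, χ (c ^ (j - i) * b * (c ^ (j - i))⁻¹) ≠ χ b := by
        by_contra hall
        push Not at hall
        exact hnot' fun b hb =>
          ⟨(mem_normalizer_iff.mp (hSZ0 (pow_mem hc _)) b).mp hb, hall b hb⟩
      obtain ⟨b, hb, hne⟩ := h'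
      refine ⟨c ^ j * b * (c ^ j)⁻¹, (mem_normalizer_iff.mp (hSZ0 (pow_mem hc _)) b).mp hb, fun h => hne ?_⟩
      have hj' : c ^ j = c ^ i * c ^ (j - i) := by rw [← pow_add]; congr 1; omega
      rw [show (c ^ j)⁻¹ * (c ^ j * b * (c ^ j)⁻¹) * c ^ j = b by group] at h
      rw [← h, hj']
      congr 1
      group
    let χs : Fin 3 → Z0 → k := fun i b => χ ((c ^ (i : ℕ))⁻¹ * (b : H) * c ^ (i : ℕ))
    have hinj : Function.Injective χs := by
      intro i j h
      by_contra hne
      rcases lt_or_gt_of_ne (fun h' : (i : ℕ) = j => hne (Fin.ext h')) with hlt | hlt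
      · obtain ⟨b, hb, hb'⟩ := hdiff _ _ hlt j.2
        exact hb' (congrFun h ⟨b, hb⟩)
      · obtain ⟨b, hb, hb'⟩ := hdiff _ _ hlt i.2
        exact hb' (congrFun h ⟨b, hb⟩).symm
    have h0 := eq_zero_of_sum_eigen (fun b : Z0 => ρ (b : H)) χs hinj
      (fun i => (ρ a - 1) (ρ (c ^ (i : ℕ)) w0)) (fun i b => by
        have hbi : (c ^ (i : ℕ))⁻¹ * (b : H) * c ^ (i : ℕ) ∈ Z0 := by
          have := (mem_normalizer_iff.mp (inv_mem (hSZ0 (pow_mem hc (i : ℕ)))) (b : H)).mp b.2
          rwa [inv_inv] at this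
        have hab : (b : H) * a = a * (b : H) := (mem_centralizer_iff.mp (hZ0D haA0)) b b.2
        have h1 : ρ (b : H) (ρ (c ^ (i : ℕ)) w0) = χs i b • ρ (c ^ (i : ℕ)) w0 := by
          rw [← Module.End.mul_apply, ← map_mul,
            show (b : H) * c ^ (i : ℕ) = c ^ (i : ℕ) * ((c ^ (i : ℕ))⁻¹ * (b : H) * c ^ (i : ℕ)) by group,
            map_mul, Module.End.mul_apply, hw0W _ hbi, map_smul]
        rw [LinearMap.sub_apply, Module.End.one_apply, map_sub, h1, ← Module.End.mul_apply, ← map_mul,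
          hab, map_mul, Module.End.mul_apply, h1, map_smul, smul_sub])
      Finset.univ (by
        rw [← map_sum, Fin.sum_univ_eq_sum_range (fun i => ρ (c ^ i) w0) 3, ← LinearMap.sum_apply,
          ← Module.End.mul_apply]
        have h3 : ∑ i ∈ Finset.range 3, ρ (c ^ i) = (ρ c - 1) ^ 2 := by
          rw [show (2 : ℕ) = 3 ^ 1 - 1 from rfl, sub_one_pow_pred (k := k) (p := 3)]
          exact Finset.sum_congr rfl fun i _ => map_pow ρ c i
        rw [h3, hcond c hc]
        rfl) 0 (Finset.mem_univ _)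
    exact hw0 (by simpa using h0)
  -- the action
  let J : Subgroup H := C
  have hJ : IsPGroup 3 J := hC
  let cj : J → (↥T →* ↥T) := fun g =>
    { toFun := fun t => ⟨(g : H) * t * (g : H)⁻¹,
        (mem_normalizer_iff.mp (hCG0 _ g.2).1 (t : H)).mp t.2⟩
      map_one' := Subtype.ext (by simp)
      map_mul' := fun a b => Subtype.ext (by simp [mul_assoc]) }
  let π : J → ((↥T ⧸ N0.subgroupOf T) →* (↥T ⧸ N0.subgroupOf T)) := fun g =>
    QuotientGroup.map _ _ (cj g) fun t ht => mem_comap.mpr (mem_subgroupOf.mpr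
      (hN0conj _ (hCG0 _ g.2) _ (mem_subgroupOf.mp ht)))
  have hπmk : ∀ g (t : ↥T), π g (QuotientGroup.mk t) = QuotientGroup.mk (cj g t) := fun g t => rfl
  have hπmul : ∀ g h m, π (g * h) m = π g (π h m) := by
    intro g h m
    induction m using QuotientGroup.induction_on with
    | H t =>
      rw [hπmk, hπmk, hπmk]
      exact congrArg _ (Subtype.ext (by simp [cj, mul_assoc]))
  have hπone : ∀ m, π 1 m = m := by
    intro m
    induction m using QuotientGroup.induction_on with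
    | H t => rw [hπmk]; exact congrArg _ (Subtype.ext (by simp [cj]))
  have hqW : (ρW ⟨a, haG0⟩ - 1) ^ (3 ^ 1 - 1) = 0 := by
    refine LinearMap.ext fun w => Subtype.ext ?_
    have h := LinearMap.congr_fun hq (w : V)
    rw [show (3 : ℕ) ^ 1 - 1 = 2 from rfl, pow_two]
    rw [pow_two] at h
    exact h
  have htriv : ¬ ∀ m, π ⟨a, haC⟩ m = m := by
    intro hall
    have h1 := hall (QuotientGroup.mk ⟨t0, ht0⟩)
    rw [hπmk, ← div_eq_one, ← QuotientGroup.mk_div, QuotientGroup.eq_one_iff, mem_subgroupOf] at h1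
    exact huN0 (by simpa [huu, div_eq_mul_inv, cj, mul_assoc] using h1)
  set D := π ⟨a, haC⟩ / MonoidHom.id (↥T ⧸ N0.subgroupOf T) with hD
  let S1 : Subgroup H := (D.range.comap (QuotientGroup.mk' _)).map T.subtype
  have hS1T : S1 ≤ T := map_subtype_le _
  have hyS1 : a ∈ normalizer (S1 : Set H) := by
    refine mem_normalizer_iff_map_conj_eq.mpr (eq_of_le_of_card_ge ?_
      (card_map_of_injective (MulAut.conj a).injective).ge)
    rintro _ ⟨_, ⟨t, ht, rfl⟩, rfl⟩
    obtain ⟨w, hw⟩ := mem_comap.mp ht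
    refine ⟨cj ⟨a, haC⟩ t, mem_comap.mpr ⟨π ⟨a, haC⟩ w, ?_⟩, rfl⟩
    show π ⟨a, haC⟩ (π ⟨a, haC⟩ w) / π ⟨a, haC⟩ w = π ⟨a, haC⟩ (QuotientGroup.mk t)
    rw [← map_div]
    exact congrArg _ hw
  have hfix : ∀ m ∈ D.range, π ⟨a, haC⟩ m = m → m = 1 := by
    rintro _ ⟨w, rfl⟩ hm
    set m := D w with hmdef
    have hzw : π ⟨a, haC⟩ w = m * w := by
      rw [hmdef, hD, MonoidHom.div_apply, MonoidHom.id_apply, div_mul_cancel]
    have hiter : ∀ i, π (⟨a, haC⟩ ^ i) w = m ^ i * w := by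
      intro i
      induction i with
      | zero => rw [pow_zero, hπone, pow_zero, one_mul]
      | succ i ih =>
        rw [pow_succ', hπmul, ih, map_mul, map_pow, hm, hzw, pow_succ, mul_assoc]
    have hmp : m ^ 3 = 1 := by
      have h := hiter 3
      rw [show (⟨a, haC⟩ : J) ^ 3 = 1 from Subtype.ext (by
        rw [SubgroupClass.coe_pow, OneMemClass.coe_one]
        exact hap), hπone] at h
      exact (mul_eq_right.mp h.symm)
    exact orderOf_eq_one_iff.mp (Nat.eq_one_of_dvd_coprimes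
      ((Nat.coprime_primes hp.out hqq).mpr hqp.symm)
      (orderOf_dvd_of_pow_eq_one hmp) (orderOf_dvd_of_pow_eq_one (hMq m)))
  have hscalW : ∀ t ∈ N0, ∀ (hG : t ∈ G0), ∃ a : k, ρW ⟨t, hG⟩ = a • 1 := fun t ht hG => by
    obtain ⟨-, a, ha⟩ := ht
    exact ⟨a, LinearMap.ext fun w => Subtype.ext (ha w w.2)⟩
  obtain ⟨m1, hm1, hm1ne⟩ : ∃ m ∈ D.range, m ≠ 1 := by
    by_contra hall
    push Not at hall
    exact htriv fun m => div_eq_one.mp (hall _ ⟨m, rfl⟩)
  have hne : ∃ s ∈ S1.subgroupOf G0, ∃ t ∈ S1.subgroupOf G0, ρW (s * t * s⁻¹ * t⁻¹) ≠ 1 := by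
    by_contra hall
    push Not at hall
    obtain ⟨b, rfl⟩ := QuotientGroup.mk'_surjective _ m1
    refine full_degree_of_abelian ρW (S1.subgroupOf G0) ⟨a, haG0⟩ (e := 1) ?_
      (Subtype.ext (by simpa using hap)) ?_ ?_
      ⟨⟨b, hTG0 b.2⟩, mem_subgroupOf.mpr ⟨b, hm1, rfl⟩, ?_⟩ hqW
    · refine mem_normalizer_iff.mpr fun g => ?_
      simp only [mem_subgroupOf, Subgroup.coe_mul, Subgroup.coe_inv]
      exact mem_normalizer_iff.mp hyS1 (g : H)
    · intro s hs t ht
      have h := congrArg (fun X => X * (ρW t * ρW s)) (hall s hs t ht)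
      simp only [← map_mul, one_mul] at h
      rw [show s * t * s⁻¹ * t⁻¹ * (t * s) = s * t by group, map_mul, map_mul] at h
      exact h
    · intro s hs
      rw [← Subgroup.orderOf_coe]
      exact hcast _ (hS1T (mem_subgroupOf.mp hs))
    · intro heq
      apply hm1ne
      refine hfix _ hm1 ?_
      show π ⟨a, haC⟩ (QuotientGroup.mk b) = QuotientGroup.mk b
      rw [hπmk, ← div_eq_one, ← QuotientGroup.mk_div, QuotientGroup.eq_one_iff, mem_subgroupOf]
      have h1 : ρW (⟨a, haG0⟩ * ⟨b, hTG0 b.2⟩ * ⟨a, haG0⟩⁻¹) = ρW ⟨b, hTG0 b.2⟩ := by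
        convert heq using 2
        exact Subtype.ext (by simp)
      refine ⟨((cj ⟨a, haC⟩ b) / b : ↥T).2, 1, fun w hw => ?_⟩
      have h2 := congrArg Subtype.val (LinearMap.congr_fun
        (congrArg (fun X => X * ρW ⟨b, hTG0 b.2⟩⁻¹) h1) ⟨w, hw⟩)
      simp only [← map_mul, mul_inv_cancel, map_one] at h2
      rw [one_smul, div_eq_mul_inv]
      exact h2
  rcases degree_of_symplectic (q := q) (p := 3) ρW (S1.subgroupOf G0) hqp
      ((hT.to_le hS1T).comap_subtype) ⟨a, haG0⟩ (mem_normalizer_iff.mpr fun g => by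
        simp only [mem_subgroupOf, Subgroup.coe_mul, Subgroup.coe_inv]
        exact mem_normalizer_iff.mp hyS1 (g : H))
      le_rfl (Subtype.ext (by simpa using hap))
      (fun s hs t ht => hscalW _ (hZN0 (hΦZ0 (hcommT _ (hS1T (mem_subgroupOf.mp hs)) _
        (hS1T (mem_subgroupOf.mp ht))))) _)
      hne
      (fun s hs hfixs => by
        obtain ⟨⟨s', hs'T⟩, hs'D, hss⟩ := mem_subgroupOf.mp hs
        obtain rfl : s' = (s : H) := hss
        refine hscalW _ ?_ s.2
        refine mem_subgroupOf.mp ((QuotientGroup.eq_one_iff (N := N0.subgroupOf T) ⟨(s : H), hs'T⟩).mp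
          (hfix _ hs'D ?_))
        show π ⟨a, haC⟩ (QuotientGroup.mk _) = _
        rw [hπmk]
        refine congrArg _ (Subtype.ext ?_)
        have h := congrArg Subtype.val hfixs
        simpa [cj] using h) with hfull | ⟨-, m, hm, hqm, R, hRS1, hR, hRcard⟩
  · exact absurd hqW hfull
  have hq2 : q = 2 := by
    have h : 2 ∣ q ^ m := hqm ▸ (by norm_num)
    exact ((Nat.prime_dvd_prime_iff_eq Nat.prime_two hqq).mp (Nat.prime_two.dvd_of_dvd_pow h)).symm
  subst hq2
  have hm1' : m = 1 := by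
    have h := hqm.symm
    have : (2 : ℕ) ^ m = 2 ^ 1 := by simpa using h
    exact Nat.pow_right_injective le_rfl this
  subst hm1'
  have hcard : Nat.card D.range ∣ 2 ^ 2 := by
    rw [← Coprime23.relIndex_comap_mk', ← relIndex_map_map_of_injective (f := T.subtype) _ _
      T.subtype_injective, map_subgroupOf_eq_of_le hN0T]
    have h2 : (R.map G0.subtype).relIndex S1 = 2 ^ 2 := by
      rw [show (2 : ℕ) ^ 2 = (3 ^ 1 - 1) * (3 ^ 1 - 1) from rfl, ← hRcard,
        ← relIndex_map_map_of_injective R (S1.subgroupOf G0) G0.subtype_injective,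
        map_subgroupOf_eq_of_le (hS1T.trans hTG0)]
    rw [← h2]
    refine relIndex_dvd_of_le_left S1 ?_
    rintro _ ⟨r, hr, rfl⟩
    obtain ⟨α, hα⟩ := hR r hr
    exact ⟨hS1T (mem_subgroupOf.mp (hRS1 hr)), α, fun w hw =>
      congrArg Subtype.val (LinearMap.congr_fun hα ⟨w, hw⟩)⟩
  letI : Module (ZMod 2) (Additive (↥T ⧸ N0.subgroupOf T)) :=
    AddCommGroup.zmodModule fun x => hMq x.toMul
  haveI : Module.Finite (ZMod 2) (Additive (↥T ⧸ N0.subgroupOf T)) := Module.Finite.of_finite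
  let ρM : J →* Module.End (ZMod 2) (Additive (↥T ⧸ N0.subgroupOf T)) :=
    { toFun := fun g => (MonoidHom.toAdditive (π g)).toZModLinearMap 2
      map_one' := LinearMap.ext fun v => congrArg Additive.ofMul (hπone v.toMul)
      map_mul' := fun x y => LinearMap.ext fun v => congrArg Additive.ofMul (hπmul x y v.toMul) }
  have hrank : finrank (ZMod 2) (LinearMap.range (ρM ⟨a, haC⟩ - 1)) ≤ 2 := by
    refine (Nat.pow_le_pow_iff_right (le_refl 2)).mp (le_trans (le_of_eq ?_)
      (Nat.le_of_dvd (by norm_num) hcard))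
    rw [show (2 : ℕ) ^ finrank (ZMod 2) (LinearMap.range (ρM ⟨a, haC⟩ - 1)) =
        Nat.card (LinearMap.range (ρM ⟨a, haC⟩ - 1)) by
      rw [Module.natCard_eq_pow_finrank (K := ZMod 2), Nat.card_zmod]]
    refine Nat.card_congr (Equiv.subtypeEquiv Additive.toMul fun v => ?_)
    constructor
    · rintro ⟨w, rfl⟩
      exact ⟨w.toMul, rfl⟩
    · rintro ⟨w, hw⟩
      exact ⟨Additive.ofMul w, Additive.toMul.injective hw⟩
  have hcomm : (⟨a, haC⟩ : J) ∈ commutator J := by
    rw [← map_subtype_commutator] at ha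
    obtain ⟨x, hx, hxa⟩ := ha
    rwa [show (⟨a, haC⟩ : J) = x from Subtype.ext hxa.symm]
  exact htriv fun m => congrArg Additive.toMul
    (LinearMap.congr_fun (derived_rank_two hJ ρM _ hcomm hrank) (Additive.ofMul m))

end Cfsg.Agent.HallHigman
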