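import Cfsg.Agent.Lib.PGroup23.NormalSq
import Cfsg.Agent.Lib.InvChar.Basics
import Cfsg.Agent.Lib.OddLocal.Rank

/-!
# Commuting elements of small rank in a `p`-group of matrices over the field of two elements
-/

set_option autoImplicit false
set_option linter.unusedSectionVars false
set_option linter.style.haveILetI false

namespace Cfsg.Agent.HallHigman

open Module

universe u v

/-- A `p`-power root with small displacement. -/
def SmallRank (p : ℕ) {J : Type*} [Group J] {U : Type*} [AddCommGroup U] [Module (ZMod 2) U]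
    (ρ : J →* Module.End (ZMod 2) U) (z : J) : Prop :=
  ∃ (y : J) (i : ℕ), z = y ^ p ^ i ∧
    finrank (ZMod 2) (LinearMap.range (ρ z - 1)) < 2 * (p - 1) * p ^ i

/-- A fixed point free automorphism needs two dimensions. -/
theorem two_le_finrank {F : Type*} [AddCommGroup F] [Module (ZMod 2) F]
    [FiniteDimensional (ZMod 2) F] (T : F →ₗ[ZMod 2] F) (hinj : Function.Injective T)
    (hfix : ∀ v, T v = v → v = 0) {v : F} (hv : v ≠ 0) : 2 ≤ finrank (ZMod 2) F := by
  by_contra hlt
  haveI : Nontrivial F := nontrivial_of_ne v 0 hv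
  have h1 : finrank (ZMod 2) F = 1 := by
    have := Module.finrank_pos (R := ZMod 2) (M := F)
    omega
  obtain ⟨c, hc⟩ := exists_smul_eq_of_finrank_eq_one h1 hv (T v)
  have key : ∀ c : ZMod 2, c = 0 ∨ c = 1 := by decide
  rcases key c with rfl | rfl
  · rw [zero_smul] at hc
    exact hv (hinj (hc.symm.trans (map_zero T).symm))
  · rw [one_smul] at hc
    exact hv (hfix v hc.symm)

/-- A unipotent element of odd order over the field of two elements is trivial. -/
theorem eq_one_of_sq_sub_one {U : Type*} [AddCommGroup U] [Module (ZMod 2) U]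
    (A : Module.End (ZMod 2) U) {n : ℕ} (hn : Odd n) (hAn : A ^ n = 1) (h : (A - 1) * (A - 1) = 0) :
    A = 1 := by
  have h2 : A * A = 1 := by
    refine LinearMap.ext fun v => ?_
    have e := LinearMap.congr_fun h v
    simp only [Module.End.mul_apply, LinearMap.sub_apply, Module.End.one_apply, map_sub,
      LinearMap.zero_apply] at e
    show A (A v) = v
    rw [← sub_eq_zero]
    have hv : A v + A v = 0 := by
      rw [← two_smul (ZMod 2), show (2 : ZMod 2) = 0 by decide, zero_smul]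
    have hv' : v + v = 0 := by
      rw [← two_smul (ZMod 2), show (2 : ZMod 2) = 0 by decide, zero_smul]
    calc A (A v) - v = (A (A v) - A v - (A v - v)) + (A v + A v) - (v + v) := by abel
      _ = 0 := by rw [e, hv, hv']; simp
  obtain ⟨k, rfl⟩ := hn
  rwa [pow_succ, pow_mul, sq, h2, one_pow, one_mul] at hAn

variable {p : ℕ} [hp : Fact p.Prime]

theorem end_injective {G : Type*} [Group G] {U : Type*} [AddCommGroup U] [Module (ZMod 2) U]
    (τ : G →* Module.End (ZMod 2) U) (g : G) : Function.Injective (τ g) := by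
  intro u w h
  have h' := congrArg (τ g⁻¹) h
  rwa [← Module.End.mul_apply, ← Module.End.mul_apply, ← map_mul, inv_mul_cancel, map_one,
    Module.End.one_apply, Module.End.one_apply] at h'

/-- The blocks of a noncommutative irreducible `p`-group. -/
theorem exists_blocks (hp2 : p ≠ 2) {J : Type u} [Group J] [Finite J] (hJ : IsPGroup p J)
    {U : Type v} [AddCommGroup U] [Module (ZMod 2) U] [FiniteDimensional (ZMod 2) U]
    (ρ : J →* Module.End (ZMod 2) U)
    (hred : ∀ W : Submodule (ZMod 2) U, W ≠ ⊥ → W ≠ ⊤ → ∃ g, ∃ w ∈ W, ρ g w ∉ W)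
    (hnab : ∃ z z' : J, ρ z * ρ z' ≠ ρ z' * ρ z) :
    ∃ (J1 : Subgroup J) (W : Fin p → Submodule (ZMod 2) U) (d : ℕ),
      (∀ g ∈ J1, ∀ i, ∀ v ∈ W i, ρ g v ∈ W i) ∧ (∀ g : J, g ^ p ∈ J1) ∧
      Function.Bijective (fun f : (∀ i, W i) => ∑ i, (f i : U)) ∧
      (∀ i, finrank (ZMod 2) (W i) = d) ∧ 2 ≤ d ∧
      (∀ y ∉ J1, ∀ i j, ∃ k : ℕ, ∀ v ∈ W i, ρ (y ^ k) v ∈ W j) ∧
      (∀ y ∉ J1, finrank (ZMod 2) (LinearMap.ker (ρ y - 1)) ≤ d) ∧
      J1.Normal ∧ (∀ y ∉ J1, ∀ g : J, ∃ k : ℕ, (y ^ k)⁻¹ * g ∈ J1) ∧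
      ∀ y ∉ J1, ∀ i, ∃ j ≠ i, ∀ v ∈ W i, ρ y v ∈ W j := by
  classical
  set n := finrank (ZMod 2) U with hn0
  have hn : finrank (ZMod 2) U = n := hn0.symm
  let φ : J →* (Module.End (ZMod 2) U)ˣ := ρ.toHomUnits
  set G := φ.range
  have hG : IsPGroup p G := hJ.of_surjective φ.rangeRestrict φ.rangeRestrict_surjective
  have hρφ : ∀ g, ρ g = ((φ g : (Module.End (ZMod 2) U)ˣ) : Module.End (ZMod 2) U) := fun g => rfl
  have hcyc : ¬ IsCyclic G := by
    intro hcyc
    letI : CommGroup G := IsCyclic.commGroup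
    obtain ⟨z, z', hzz⟩ := hnab
    exact hzz (congrArg (fun a : G => (a.1 : Module.End (ZMod 2) U))
      (mul_comm (φ.rangeRestrict z) (φ.rangeRestrict z')))
  haveI : Finite G := Finite.of_surjective _ φ.rangeRestrict_surjective
  obtain ⟨E, hEn, hE2, hEc, hEp⟩ := PGroup23.exists_normal_elementary_sq hp2 hG hcyc
  haveI := hEn
  have hEne : E ≠ ⊥ := by
    intro h
    rw [h, Subgroup.card_bot] at hE2
    exact (Nat.one_lt_pow two_ne_zero hp.out.one_lt).ne hE2
  obtain ⟨c, hcE, hcZ, hc1⟩ := InvChar.exists_mem_center_of_normal hG E hEne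
  have hcord : orderOf c = p := orderOf_eq_prime (hEp c hcE) hc1
  obtain ⟨b, hbE, hbc⟩ : ∃ b ∈ E, b ∉ Subgroup.zpowers c := by
    by_contra hall
    push Not at hall
    have := Subgroup.card_le_of_le (show E ≤ Subgroup.zpowers c from hall)
    rw [hE2, Nat.card_zpowers, hcord] at this
    nlinarith [hp.out.two_le]
  have hcb : c * b = b * c := (Subgroup.mem_center_iff.mp hcZ b).symm
  -- as endomorphisms
  let τ : G →* Module.End (ZMod 2) U := (Units.coeHom _).comp G.subtype
  have hτ : ∀ g, τ (φ.rangeRestrict g) = ρ g := fun g => rfl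
  have hτinj : Function.Injective τ := fun a a' h => Subtype.ext (Units.ext h)
  have hcomm : ∀ g : G, Commute (τ c) (τ g) := fun g =>
    (show Commute c g from (Subgroup.mem_center_iff.mp hcZ g).symm).map τ
  have hU : Nontrivial U := by
    by_contra hU
    rw [not_nontrivial_iff_subsingleton] at hU
    exact hc1 (hτinj (LinearMap.ext fun v => Subsingleton.elim _ _))
  have hinv : ∀ (T : Module.End (ZMod 2) U), (∀ g, Commute T (ρ g)) → ∀ g,
      ∀ v ∈ LinearMap.ker (T - 1), ρ g v ∈ LinearMap.ker (T - 1) := by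
    intro T hT g v hv
    rw [LinearMap.mem_ker, LinearMap.sub_apply, sub_eq_zero, Module.End.one_apply] at hv ⊢
    rw [← Module.End.mul_apply, (hT g).eq, Module.End.mul_apply, hv]
  have hfixc : ∀ v, τ c v = v → v = 0 := by
    intro v hv
    by_contra hv0
    have hne : LinearMap.ker (τ c - 1) ≠ ⊥ := fun h => hv0 (by
      have : v ∈ LinearMap.ker (τ c - 1) := by simp [hv]
      rwa [h, Submodule.mem_bot] at this)
    obtain ⟨g, w, hw, hgw⟩ := hred _ hne (fun h => hc1 (hτinj (by
      rw [map_one]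
      refine sub_eq_zero.mp (LinearMap.ker_eq_top.mp h))))
    exact hgw (hinv _ (fun g => hcomm (φ.rangeRestrict g)) g w hw)
  have hck : ∀ d : ℕ, ¬ p ∣ d → ∀ v, τ (c ^ d) v = v → v = 0 := by
    intro d hd v hv
    obtain ⟨m, hm, hm'⟩ := Nat.exists_mul_mod_eq_one_of_coprime
      ((hp.out.coprime_iff_not_dvd.mpr hd).symm) hp.out.one_lt
    refine hfixc v ?_
    have e : c = (c ^ d) ^ m := by rw [← pow_mul, ← pow_mod_orderOf, hcord, hm', pow_one]
    rw [e, map_pow]
    clear hm hm' e
    induction m with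
    | zero => rfl
    | succ m ih => rw [pow_succ, Module.End.mul_apply, hv, ih]
  have hsum : ∀ d : ℕ, ¬ p ∣ d → ∀ v, ∑ k ∈ Finset.range p, τ ((c ^ d) ^ k) v = 0 := by
    intro d hd v
    refine hck d hd _ ?_
    rw [map_sum]
    have e : ∀ k, τ (c ^ d) (τ ((c ^ d) ^ k) v) = τ ((c ^ d) ^ (k + 1)) v := fun k => by
      rw [pow_succ', map_mul]; rfl
    simp only [e]
    have e1 := Finset.sum_range_succ (fun k => τ ((c ^ d) ^ k) v) p
    have e2 := Finset.sum_range_succ' (fun k => τ ((c ^ d) ^ k) v) p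
    have hcp : (c ^ d) ^ p = 1 := by rw [← pow_mul, mul_comm, pow_mul, hEp c hcE, one_pow]
    rw [hcp] at e1
    rw [pow_zero] at e2
    exact add_right_cancel (e2.symm.trans e1)
  -- the projections
  let a : ℕ → G := fun i => b * c ^ i
  have hap : ∀ i, a i ^ p = 1 := fun i => hEp _ (mul_mem hbE (pow_mem hcE i))
  let P : ℕ → Module.End (ZMod 2) U := fun i => ∑ k ∈ Finset.range p, τ (a i) ^ k
  let W : ℕ → Submodule (ZMod 2) U := fun i => LinearMap.ker (τ (a i) - 1)
  have hmemW : ∀ i v, v ∈ W i ↔ τ (a i) v = v := fun i v => by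
    simp [W, sub_eq_zero]
  have hPW : ∀ i v, P i v ∈ W i := by
    intro i v
    rw [LinearMap.mem_ker, ← Module.End.mul_apply]
    show ((τ (a i) - 1) * ∑ k ∈ Finset.range p, τ (a i) ^ k) v = 0
    rw [mul_geom_sum, ← map_pow, hap, map_one, sub_self]
    rfl
  have hpone : (p : ZMod 2) = 1 := by
    rw [← Nat.cast_one, ZMod.natCast_eq_natCast_iff']
    exact Nat.odd_iff.mp (hp.out.odd_of_ne_two hp2)
  have hnsmul : ∀ v : U, p • v = v := fun v => by
    rw [← Nat.cast_smul_eq_nsmul (ZMod 2), hpone, one_smul]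
  have hpowfix : ∀ (T : Module.End (ZMod 2) U) v, T v = v → ∀ k : ℕ, (T ^ k) v = v := by
    intro T v hv k
    induction k with
    | zero => rfl
    | succ k ihk => rw [pow_succ, Module.End.mul_apply, hv, ihk]
  have hPid : ∀ i, ∀ v ∈ W i, P i v = v := by
    intro i v hv
    rw [LinearMap.sum_apply, Finset.sum_congr rfl (fun k _ => hpowfix _ v ((hmemW i v).mp hv) k),
      Finset.sum_const, Finset.card_range, hnsmul]
  have hP0 : ∀ i j, i < p → j < p → i ≠ j → ∀ v ∈ W j, P i v = 0 := by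
    intro i j hi hj hij v hv
    set d := i + (p - j) with hd
    have hdp : ¬ p ∣ d := by
      rintro ⟨q, hq⟩
      have hq1 : q = 1 := by
        rcases lt_trichotomy q 1 with h | h | h
        · obtain rfl : q = 0 := by omega
          omega
        · exact h
        · have : p * 2 ≤ p * q := Nat.mul_le_mul_left p h
          omega
      subst hq1
      omega
    have ha : a i = c ^ d * a j := by
      have hcp : c ^ (p - j + j) = 1 := by rw [Nat.sub_add_cancel hj.le, hEp c hcE]
      show b * c ^ i = c ^ d * (b * c ^ j)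
      rw [← mul_assoc, (show Commute c b from hcb).pow_left d |>.eq, mul_assoc, ← pow_add, hd,
        add_assoc, pow_add, hcp, mul_one]
    have e : ∀ k, (τ (a i) ^ k) v = τ ((c ^ d) ^ k) v := by
      intro k
      rw [← map_pow, ha, ((show Commute c (a j) from (Subgroup.mem_center_iff.mp hcZ _).symm).pow_left
        d).mul_pow, map_mul, map_pow τ (a j), Module.End.mul_apply,
        hpowfix _ v ((hmemW j v).mp hv)]
    rw [LinearMap.sum_apply, Finset.sum_congr rfl (fun k _ => e k)]
    exact hsum d hdp v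
  have hPsum : ∀ v, ∑ i ∈ Finset.range p, P i v = v := by
    intro v
    have e : ∀ i k, (τ (a i) ^ k) v = τ (b ^ k) (τ ((c ^ k) ^ i) v) := fun i k => by
      have hbc' : Commute b (c ^ i) := ((show Commute c b from hcb).pow_left i).symm
      rw [← map_pow, show a i = b * c ^ i from rfl, hbc'.mul_pow,
        map_mul, Module.End.mul_apply, ← pow_mul, mul_comm i k, pow_mul]
    simp only [P, LinearMap.sum_apply, e]
    rw [Finset.sum_comm, Finset.sum_eq_single 0]
    · rw [pow_zero, map_one, pow_zero]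
      simp only [one_pow, map_one, Module.End.one_apply, Finset.sum_const, Finset.card_range, hnsmul]
    · intro k hk hk0
      rw [← map_sum, hsum k (fun h => hk0 (Nat.eq_zero_of_dvd_of_lt h (Finset.mem_range.mp hk))) v,
        map_zero]
    · intro h
      exact absurd (Finset.mem_range.mpr hp.out.pos) h
  have hWmod : ∀ i, W (i % p) = W i := fun i => by
    have e : a (i % p) = a i := by
      show b * c ^ (i % p) = b * c ^ i
      rw [← hcord, pow_mod_orderOf]
    simp only [W, e]
  have hPmod : ∀ i, P (i % p) = P i := fun i => by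
    have e : a (i % p) = a i := by
      show b * c ^ (i % p) = b * c ^ i
      rw [← hcord, pow_mod_orderOf]
    simp only [P, e]
  -- conjugation
  have hshift : ∀ g : G, ∃ s : ℕ, g * b * g⁻¹ = b * c ^ s ∧ (p ∣ s → g * b = b * g) := by
    intro g
    have hmem := OddLocal.commutator_top_le_center hG E hE2.le
      (Subgroup.commutator_mem_commutator (inv_mem hbE) (Subgroup.mem_top g))
    have hzle : Subgroup.zpowers c ≤ E ⊓ Subgroup.center G :=
      Subgroup.zpowers_le.mpr (Subgroup.mem_inf.mpr ⟨hcE, hcZ⟩)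
    have hEq : E ⊓ Subgroup.center G = Subgroup.zpowers c := by
      obtain ⟨j, hj⟩ := IsPGroup.iff_card.mp (hG.to_subgroup (E ⊓ Subgroup.center G))
      refine (Subgroup.eq_of_le_of_card_ge hzle ?_).symm
      rw [Nat.card_zpowers, hcord, hj]
      have hlt : p ^ j < p ^ 2 := by
        rw [← hj, ← hE2]
        refine Basics.card_lt_of_lt (lt_of_le_of_ne inf_le_left fun h => ?_)
        -- a central `E` gives invariant pieces
        have hbZ : b ∈ Subgroup.center G := (Subgroup.mem_inf.mp (h.ge hbE)).2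
        have hall : ∀ i, W i = ⊥ := by
          intro i
          by_contra hne
          have haZ : a i ∈ Subgroup.center G := mul_mem hbZ (pow_mem hcZ i)
          obtain ⟨g, w, hw, hgw⟩ := hred _ hne (fun htop => by
            have h1 : a i = 1 := hτinj (by
              rw [map_one]
              exact sub_eq_zero.mp (LinearMap.ker_eq_top.mp htop))
            apply hbc
            rw [eq_inv_of_mul_eq_one_left h1]
            exact inv_mem (Subgroup.npow_mem_zpowers c i))
          exact hgw (hinv _ (fun g =>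
            (show Commute (a i) (φ.rangeRestrict g) from (Subgroup.mem_center_iff.mp haZ _).symm).map τ)
            g w hw)
        obtain ⟨v, hv⟩ := exists_ne (0 : U)
        apply hv
        rw [← hPsum v]
        exact Finset.sum_eq_zero fun i _ => by
          have := hPW i v
          rwa [hall i, Submodule.mem_bot] at this
      have := (Nat.pow_lt_pow_iff_right hp.out.one_lt).mp hlt
      calc p ^ j ≤ p ^ 1 := Nat.pow_le_pow_right hp.out.pos (by omega)
        _ = p := pow_one p
    rw [hEq, ← mem_powers_iff_mem_zpowers] at hmem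
    obtain ⟨s, hs⟩ := hmem
    refine ⟨s, ?_, fun hps => ?_⟩
    · simp only at hs
      rw [hs, commutatorElement_def]
      group
    · simp only at hs
      obtain ⟨q, rfl⟩ := hps
      rw [pow_mul, hEp c hcE, one_pow, commutatorElement_def] at hs
      calc g * b = b * (b⁻¹ * g * b⁻¹⁻¹ * g⁻¹) * g := by group
        _ = b * g := by rw [← hs, mul_one]
  have hPconj : ∀ (g : G) s, g * b * g⁻¹ = b * c ^ s → ∀ i v, τ g (P i v) = P (i + s) (τ g v) := by
    intro g s hs i v
    have e : g * a i = a (i + s) * g := by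
      show g * (b * c ^ i) = b * c ^ (i + s) * g
      have hgc : c ^ i * g = g * c ^ i :=
        ((show Commute c g from (Subgroup.mem_center_iff.mp hcZ g).symm).pow_left i).eq
      calc g * (b * c ^ i) = g * b * g⁻¹ * g * c ^ i := by group
        _ = b * c ^ s * (g * c ^ i) := by rw [hs, mul_assoc]
        _ = b * c ^ (i + s) * g := by rw [← hgc, pow_add, (Commute.pow_pow_self c i s).eq]; group
    simp only [P, LinearMap.sum_apply, map_sum]
    refine Finset.sum_congr rfl fun k _ => ?_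
    rw [← map_pow, ← map_pow, ← Module.End.mul_apply, ← Module.End.mul_apply, ← map_mul, ← map_mul,
      ((show SemiconjBy g (a i) (a (i + s)) from e).pow_right k).eq]
  have hWconj : ∀ (g : G) s, g * b * g⁻¹ = b * c ^ s → ∀ i, ∀ v ∈ W i, τ g v ∈ W (i + s) := by
    intro g s hs i v hv
    have h := hPconj g s hs i v
    rw [hPid i v hv] at h
    rw [h]
    exact hPW _ _
  obtain ⟨g0, hg0⟩ : ∃ g0 : G, g0 * b ≠ b * g0 := by
    by_contra hall
    push Not at hall
    have hbZ : b ∈ Subgroup.center G := Subgroup.mem_center_iff.mpr hall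
    obtain ⟨v, hv⟩ := exists_ne (0 : U)
    apply hv
    rw [← hPsum v]
    refine Finset.sum_eq_zero fun i _ => ?_
    have haZ : a i ∈ Subgroup.center G := mul_mem hbZ (pow_mem hcZ i)
    by_contra hne
    obtain ⟨g, w, hw, hgw⟩ := hred (W i) (fun h => hne (by
        have := hPW i v
        rwa [h, Submodule.mem_bot] at this))
      (fun htop => by
        have h1 : a i = 1 := hτinj (by
          rw [map_one]
          exact sub_eq_zero.mp (LinearMap.ker_eq_top.mp htop))
        apply hbc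
        rw [eq_inv_of_mul_eq_one_left h1]
        exact inv_mem (Subgroup.npow_mem_zpowers c i))
    exact hgw (hinv _ (fun g =>
      (show Commute (a i) (φ.rangeRestrict g) from (Subgroup.mem_center_iff.mp haZ _).symm).map τ)
      g w hw)
  obtain ⟨s0, hs0, hs0'⟩ := hshift g0
  have hs0p : ¬ p ∣ s0 := fun h => hg0 (hs0' h)
  have hreach : ∀ s, ¬ p ∣ s → ∀ i j, ∃ k, (i + k * s) % p = j % p := by
    intro s hs i j
    obtain ⟨m, -, hm⟩ := Nat.exists_mul_mod_eq_one_of_coprime
      ((hp.out.coprime_iff_not_dvd.mpr hs).symm) hp.out.one_lt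
    refine ⟨m * (j + i * (p - 1)), ?_⟩
    have h1 : m * (j + i * (p - 1)) * s = s * m * (j + i * (p - 1)) := by ring
    rw [h1, Nat.add_mod, Nat.mul_mod, hm, one_mul, Nat.mod_mod, ← Nat.add_mod,
      show i + (j + i * (p - 1)) = j + i * p by
        obtain ⟨q, hq⟩ : ∃ q, p = q + 1 := ⟨p - 1, by have := hp.out.pos; omega⟩
        rw [hq, Nat.add_sub_cancel]; ring,
      Nat.add_mul_mod_self_right]
  have hiter : ∀ (g : G) s, g * b * g⁻¹ = b * c ^ s → ∀ k, g ^ k * b * (g ^ k)⁻¹ = b * c ^ (k * s) := by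
    intro g s hs k
    induction k with
    | zero => simp
    | succ k ihk =>
      calc g ^ (k + 1) * b * (g ^ (k + 1))⁻¹ = g * (g ^ k * b * (g ^ k)⁻¹) * g⁻¹ := by group
        _ = g * b * g⁻¹ * (g * c ^ (k * s) * g⁻¹) := by rw [ihk]; group
        _ = b * c ^ s * c ^ (k * s) := by
          rw [hs, ((show Commute g c from Subgroup.mem_center_iff.mp hcZ g).pow_right _).eq,
            mul_inv_cancel_right]
        _ = b * c ^ ((k + 1) * s) := by rw [mul_assoc, ← pow_add]; congr 2; ring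
  have hle : ∀ i j, finrank (ZMod 2) (W i) ≤ finrank (ZMod 2) (W j) := by
    intro i j
    obtain ⟨k, hk⟩ := hreach s0 hs0p i j
    refine LinearMap.finrank_le_finrank_of_injective
      (f := ((τ (g0 ^ k)).comp (W i).subtype).codRestrict (W j) fun v => ?_) fun u w huw => ?_
    · have h := hWconj _ _ (hiter g0 s0 hs0 k) i v v.2
      rwa [← hWmod, hk, hWmod] at h
    · exact Subtype.ext (end_injective τ _ (congrArg Subtype.val huw))
  set d0 := finrank (ZMod 2) (W 0) with hd0
  have hdim : ∀ i, finrank (ZMod 2) (W i) = d0 := fun i => le_antisymm (hle i 0) (hle 0 i)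
  -- the decomposition
  let L : (∀ i : Fin p, W (i : ℕ)) →ₗ[ZMod 2] U :=
    ∑ i : Fin p, (W (i : ℕ)).subtype ∘ₗ LinearMap.proj i
  have hL : ∀ f : ∀ i : Fin p, W (i : ℕ), L f = ∑ i : Fin p, (f i : U) := fun f => by simp [L]
  have hPL : ∀ (f : ∀ i : Fin p, W (i : ℕ)) (j : Fin p), P j (L f) = f j := by
    intro f j
    rw [hL, map_sum, Finset.sum_eq_single j]
    · exact hPid _ _ (f j).2
    · intro i _ hij
      exact hP0 _ _ j.2 i.2 (fun h => hij (Fin.ext h.symm)) _ (f i).2
    · exact fun h => absurd (Finset.mem_univ _) h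
  have hLinj : Function.Injective L := fun f f' h => funext fun j =>
    Subtype.ext (by rw [← hPL, h, hPL])
  have hLsurj : Function.Surjective L := fun v => ⟨fun i => ⟨P i v, hPW _ _⟩, by
    rw [hL, Fin.sum_univ_eq_sum_range (fun i => P i v) p, hPsum]⟩
  have hnd : n = p * d0 := by
    rw [← hn, ← (LinearEquiv.ofBijective L ⟨hLinj, hLsurj⟩).finrank_eq, Module.finrank_pi_fintype]
    simp [hdim]
  have hd2 : 2 ≤ d0 := by
    obtain ⟨v, hv⟩ : ∃ v : W 0, v ≠ 0 := by
      by_contra hall
      push Not at hall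
      haveI : Subsingleton (W 0) := ⟨fun x y => (hall x).trans (hall y).symm⟩
      have h0 : d0 = 0 := Module.finrank_zero_of_subsingleton
      have : 0 < n := hn ▸ Module.finrank_pos
      rw [hnd, h0, mul_zero] at this
      omega
    refine two_le_finrank ((τ c).restrict fun v hv => ?_) ?_ ?_ hv
    · rw [hmemW] at hv ⊢
      rw [← Module.End.mul_apply, ← (hcomm (a 0)).eq, Module.End.mul_apply, hv]
    · intro u w huw
      exact Subtype.ext (end_injective τ _ (congrArg Subtype.val huw))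
    · exact fun w hw => Subtype.ext (hfixc w (congrArg Subtype.val hw))
  -- the stabilizer of the blocks
  let J1 : Subgroup J := (Subgroup.centralizer {b}).comap φ.rangeRestrict
  have hJ1W : ∀ g ∈ J1, ∀ i, ∀ v ∈ W i, ρ g v ∈ W i := by
    intro g hg i v hv
    rw [← hτ]
    have hcb' : φ.rangeRestrict g * b * (φ.rangeRestrict g)⁻¹ = b * c ^ 0 := by
      rw [pow_zero, mul_one, Subgroup.mem_centralizer_singleton_iff.mp hg, mul_inv_cancel_right]
    exact hWconj _ 0 hcb' i v hv
  have hpJ1 : ∀ g : J, g ^ p ∈ J1 := by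
    intro g
    obtain ⟨s, hs, -⟩ := hshift (φ.rangeRestrict g)
    refine Subgroup.mem_centralizer_singleton_iff.mpr ?_
    rw [map_pow]
    refine mul_inv_eq_iff_eq_mul.mp ?_
    rw [hiter _ s hs p, mul_comm p s, pow_mul' c s p, hEp c hcE, one_pow, mul_one]
  refine ⟨J1, fun i => W i, d0, fun g hg i => hJ1W g hg i, hpJ1, ⟨?_, ?_⟩, fun i => hdim i, hd2, ?_, ?_, ⟨?_⟩, ?_, ?_⟩
  · intro f f' h
    exact hLinj ((hL f).trans (h.trans (hL f').symm))
  · intro v
    obtain ⟨f, hf⟩ := hLsurj v
    exact ⟨f, (hL f).symm.trans hf⟩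
  · intro y hy i j
    obtain ⟨s, hs, hs'⟩ := hshift (φ.rangeRestrict y)
    have hsp : ¬ p ∣ s := fun h => hy (Subgroup.mem_centralizer_singleton_iff.mpr (hs' h))
    obtain ⟨k, hk⟩ := hreach s hsp i j
    refine ⟨k, fun v hv => ?_⟩
    have h := hWconj _ _ (hiter _ s hs k) i v hv
    rw [← hWmod, hk, hWmod, ← map_pow] at h
    exact h
  · intro y hy
    obtain ⟨s, hs, hs'⟩ := hshift (φ.rangeRestrict y)
    have hsp : ¬ p ∣ s := fun h => hy (Subgroup.mem_centralizer_singleton_iff.mpr (hs' h))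
    refine LinearMap.finrank_le_finrank_of_injective
      (f := ((P 0).comp (LinearMap.ker (ρ y - 1)).subtype).codRestrict (W 0) fun v => hPW 0 _)
      ((injective_iff_map_eq_zero _).mpr fun v hv => ?_)
    have h0 : P 0 (v : U) = 0 := congrArg Subtype.val hv
    have hfix : τ (φ.rangeRestrict y) (v : U) = v := by
      have := LinearMap.mem_ker.mp v.2
      rwa [LinearMap.sub_apply, sub_eq_zero, Module.End.one_apply] at this
    refine Subtype.ext (show (v : U) = 0 from ?_)
    rw [← hPsum (v : U)]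
    refine Finset.sum_eq_zero fun j _ => ?_
    obtain ⟨k, hk⟩ := hreach s hsp 0 j
    have h1 := hPconj _ _ (hiter _ s hs k) 0 (v : U)
    rw [h0, map_zero, map_pow, hpowfix _ _ hfix] at h1
    rw [← hPmod, ← hk, hPmod]
    exact h1.symm
  · intro x hx y
    obtain ⟨s, hs, -⟩ := hshift (φ.rangeRestrict y)
    have hcc : ∀ g : G, g * c = c * g := fun g => Subgroup.mem_center_iff.mp hcZ g
    have hxb := Subgroup.mem_centralizer_singleton_iff.mp hx
    have ht : φ.rangeRestrict y * (b * c ^ ((p - 1) * s)) * (φ.rangeRestrict y)⁻¹ = b := by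
      calc _ = φ.rangeRestrict y * b * (φ.rangeRestrict y)⁻¹ *
            (φ.rangeRestrict y * c ^ ((p - 1) * s) * (φ.rangeRestrict y)⁻¹) := by group
        _ = b * c ^ s * c ^ ((p - 1) * s) := by
          rw [hs, ((show Commute (φ.rangeRestrict y) c from hcc _).pow_right _).eq, mul_inv_cancel_right]
        _ = b := by
          rw [mul_assoc, ← pow_add, show s + (p - 1) * s = p * s by
            obtain ⟨q, hq⟩ : ∃ q, p = q + 1 := ⟨p - 1, by have := hp.out.pos; omega⟩
            rw [hq, Nat.add_sub_cancel]; ring, pow_mul, hEp c hcE, one_pow, mul_one]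
    refine Subgroup.mem_centralizer_singleton_iff.mpr ?_
    have hxc : Commute (φ.rangeRestrict x) (b * c ^ ((p - 1) * s)) :=
      Commute.mul_right hxb ((show Commute (φ.rangeRestrict x) c from hcc _).pow_right _)
    have h := congrArg (fun z => φ.rangeRestrict y * z * (φ.rangeRestrict y)⁻¹) hxc.eq
    rw [map_mul, map_mul, map_inv]
    conv_lhs => rw [← ht]
    conv_rhs => rw [← ht]
    simp only [mul_assoc, inv_mul_cancel_left] at h ⊢
    exact h
  · intro y hy g
    obtain ⟨s, hs, hs'⟩ := hshift (φ.rangeRestrict y)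
    obtain ⟨sg, hsg, -⟩ := hshift (φ.rangeRestrict g)
    have hsp : ¬ p ∣ s := fun h => hy (Subgroup.mem_centralizer_singleton_iff.mpr (hs' h))
    obtain ⟨k, hk⟩ := hreach s hsp 0 sg
    refine ⟨k, Subgroup.mem_centralizer_singleton_iff.mpr ?_⟩
    have e : c ^ (k * s) = c ^ sg := by
      rw [← pow_mod_orderOf, hcord, show (k * s) % p = sg % p by simpa using hk, ← hcord,
        pow_mod_orderOf]
    have h := hiter _ s hs k
    rw [e, ← hsg] at h
    rw [map_mul, map_inv, map_pow]
    generalize φ.rangeRestrict y ^ k = Y at h ⊢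
    generalize φ.rangeRestrict g = X at h ⊢
    calc Y⁻¹ * X * b = Y⁻¹ * (X * b * X⁻¹) * X := by group
      _ = Y⁻¹ * (Y * b * Y⁻¹) * X := by rw [h]
      _ = b * (Y⁻¹ * X) := by group
  · intro y hy i
    obtain ⟨s, hs, hs'⟩ := hshift (φ.rangeRestrict y)
    have hsp : ¬ p ∣ s := fun h => hy (Subgroup.mem_centralizer_singleton_iff.mpr (hs' h))
    refine ⟨⟨((i : ℕ) + s) % p, Nat.mod_lt _ hp.out.pos⟩, fun h => hsp ?_, fun v hv => ?_⟩
    · have h' : ((i : ℕ) + s) % p = (i : ℕ) := congrArg Fin.val h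
      exact Nat.modEq_zero_iff_dvd.mp (Nat.ModEq.add_left_cancel' (i : ℕ)
        (show ((i : ℕ) + s) % p = ((i : ℕ) + 0) % p by rw [h', add_zero, Nat.mod_eq_of_lt i.2]))
    · have h := hWconj _ s hs (i : ℕ) v hv
      rw [← hWmod] at h
      exact h

/-- Roots of small rank descend to the stabilizer of the blocks. -/
theorem smallRank_descend {J : Type*} [Group J] (J1 : Subgroup J) (hpJ1 : ∀ g : J, g ^ p ∈ J1)
    (r : Fin p → J1 → ℕ) (R : J → ℕ) (htot : ∀ g : J1, ∑ i, r i g ≤ R g) {d : ℕ} (hd2 : 2 ≤ d)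
    (hno : ∀ y ∉ J1, (p - 1) * d ≤ R y)
    (heq : ∀ y ∉ J1, ∀ x : J1, Commute y (x : J) → ∀ i j, r i x ≤ r j x)
    (y : J) (i : ℕ) (hr : R (y ^ p ^ i) < 2 * (p - 1) * p ^ i) :
    ∃ hx : y ^ p ^ i ∈ J1, ∀ j : Fin p, ∃ (y1 : J1) (i1 : ℕ), (⟨_, hx⟩ : J1) = y1 ^ p ^ i1 ∧
      r j ⟨_, hx⟩ < 2 * (p - 1) * p ^ i1 := by
  by_cases hy : y ∈ J1
  · refine ⟨J1.pow_mem hy _, fun j => ⟨⟨y, hy⟩, i, Subtype.ext (by simp), ?_⟩⟩
    refine lt_of_le_of_lt ?_ hr
    exact le_trans (Finset.single_le_sum (f := fun l => r l ⟨y ^ p ^ i, J1.pow_mem hy _⟩)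
      (fun _ _ => Nat.zero_le _) (Finset.mem_univ j)) (htot ⟨y ^ p ^ i, J1.pow_mem hy _⟩)
  obtain ⟨i', rfl⟩ : ∃ i', i = i' + 1 := by
    refine ⟨i - 1, ?_⟩
    by_contra h
    obtain rfl : i = 0 := by omega
    rw [pow_zero, pow_one, mul_one] at hr
    have h1 := (hno y hy).trans_lt hr
    have h2 : (p - 1) * 2 ≤ (p - 1) * d := Nat.mul_le_mul_left _ hd2
    rw [mul_comm 2 (p - 1)] at h1
    omega
  have hyp : y ^ p ∈ J1 := hpJ1 y
  have hxy : y ^ p ^ (i' + 1) = (y ^ p) ^ p ^ i' := by rw [pow_succ', pow_mul]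
  have hx : y ^ p ^ (i' + 1) ∈ J1 := hxy ▸ J1.pow_mem hyp _
  refine ⟨hx, fun j => ⟨⟨y ^ p, hyp⟩, i',
    Subtype.ext (by simpa using hxy), ?_⟩⟩
  by_contra hge
  push Not at hge
  have h3 := (htot ⟨_, hx⟩).trans_lt hr
  have h4 : p * (2 * (p - 1) * p ^ i') ≤ ∑ l : Fin p, r l ⟨_, hx⟩ := by
    refine le_trans (le_of_eq ?_) (Finset.sum_le_sum fun l _ =>
      le_trans hge (heq y hy ⟨_, hx⟩ (Commute.self_pow y _) j l))
    simp
  rw [show 2 * (p - 1) * p ^ (i' + 1) = p * (2 * (p - 1) * p ^ i') by ring] at h3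
  omega

theorem commute_smallRank_aux (hp2 : p ≠ 2) : ∀ (n : ℕ) {J : Type u} [Group J] [Finite J]
    (_ : IsPGroup p J) {U : Type v} [AddCommGroup U] [Module (ZMod 2) U]
    [FiniteDimensional (ZMod 2) U] (ρ : J →* Module.End (ZMod 2) U),
    finrank (ZMod 2) U = n → ∀ z z' : J, SmallRank p ρ z → SmallRank p ρ z' →
      Commute (ρ z) (ρ z') := by
  intro n
  induction n using Nat.strong_induction_on with
  | _ n ih =>
  intro J _ _ hJ U _ _ _ ρ hn z z' hz hz'
  classical
  by_cases hred : ∃ W : Submodule (ZMod 2) U, W ≠ ⊥ ∧ W ≠ ⊤ ∧ ∀ g, ∀ w ∈ W, ρ g w ∈ W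
  · obtain ⟨W, hW0, hW1, hW⟩ := hred
    let ρW : J →* Module.End (ZMod 2) W :=
      { toFun := fun g => (ρ g).restrict (hW g)
        map_one' := LinearMap.ext fun w => Subtype.ext (by simp)
        map_mul' := fun a b => LinearMap.ext fun w => Subtype.ext (by simp [map_mul]) }
    let ρQ : J →* Module.End (ZMod 2) (U ⧸ W) :=
      { toFun := fun g => W.mapQ W (ρ g) fun w hw => hW g w hw
        map_one' := Submodule.linearMap_qext _ (LinearMap.ext fun w => by simp)
        map_mul' := fun a b => Submodule.linearMap_qext _ (LinearMap.ext fun w => by simp [map_mul]) }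
    have hsW : ∀ g, SmallRank p ρ g → SmallRank p ρW g := by
      rintro g ⟨y, i, rfl, hr⟩
      refine ⟨y, i, rfl, lt_of_le_of_lt ?_ hr⟩
      refine LinearMap.finrank_le_finrank_of_injective
        (f := (W.subtype ∘ₗ (LinearMap.range (ρW (y ^ p ^ i) - 1)).subtype).codRestrict _ ?_) ?_
      · rintro ⟨_, w, rfl⟩
        exact ⟨w, rfl⟩
      · intro a b h
        refine Subtype.ext (Subtype.ext ?_)
        have h' := congrArg Subtype.val h
        simpa using h'
    have hsQ : ∀ g, SmallRank p ρ g → SmallRank p ρQ g := by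
      rintro g ⟨y, i, rfl, hr⟩
      refine ⟨y, i, rfl, lt_of_le_of_lt ?_ hr⟩
      have e : LinearMap.range (ρQ (y ^ p ^ i) - 1) =
          (LinearMap.range (ρ (y ^ p ^ i) - 1)).map W.mkQ := by
        refine le_antisymm ?_ ?_
        · rintro _ ⟨a, rfl⟩
          obtain ⟨u, rfl⟩ := W.mkQ_surjective a
          exact ⟨_, LinearMap.mem_range_self _ u, by simp [ρQ]⟩
        · rintro _ ⟨_, ⟨u, rfl⟩, rfl⟩
          exact ⟨W.mkQ u, by simp [ρQ]⟩
      rw [e]
      exact Submodule.finrank_map_le _ _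
    have hdW : finrank (ZMod 2) W < n := hn ▸ Submodule.finrank_lt hW1
    have hdQ : finrank (ZMod 2) (U ⧸ W) < n := by
      have h1 := W.finrank_quotient_add_finrank
      have h2 : 0 < finrank (ZMod 2) W := by
        haveI : Nontrivial W := (Submodule.nontrivial_iff_ne_bot).mpr hW0
        exact Module.finrank_pos
      omega
    set k := z * z' * z⁻¹ * z'⁻¹ with hk
    have hcomm : ∀ {F : Type v} [AddCommGroup F] [Module (ZMod 2) F] (σ : J →* Module.End (ZMod 2) F),
        Commute (σ z) (σ z') → σ k = 1 := by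
      intro F _ _ σ hc
      rw [hk, map_mul, map_mul, map_mul, hc.eq, mul_assoc (σ z'), ← map_mul, mul_inv_cancel, map_one,
        mul_one, ← map_mul, mul_inv_cancel, map_one]
    have hkW := hcomm ρW (ih _ hdW hJ ρW rfl z z' (hsW z hz) (hsW z' hz'))
    have hkQ := hcomm ρQ (ih _ hdQ hJ ρQ rfl z z' (hsQ z hz) (hsQ z' hz'))
    have hkin : ∀ u, (ρ k - 1) u ∈ W := by
      intro u
      rw [← Submodule.Quotient.mk_eq_zero, LinearMap.sub_apply, Submodule.Quotient.mk_sub,
        sub_eq_zero]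
      exact LinearMap.congr_fun hkQ (W.mkQ u)
    have hk0 : ∀ w ∈ W, (ρ k - 1) w = 0 := fun w hw => by
      rw [LinearMap.sub_apply, sub_eq_zero]
      exact congrArg Subtype.val (LinearMap.congr_fun hkW ⟨w, hw⟩)
    obtain ⟨m, hm⟩ := hJ k
    have hk1 : ρ k = 1 := eq_one_of_sq_sub_one _ ((hp.out.odd_of_ne_two hp2).pow (n := m))
      (by rw [← map_pow, hm, map_one]) (LinearMap.ext fun u => hk0 _ (hkin u))
    have h := congrArg (· * (ρ z' * ρ z)) hk1
    simp only [one_mul, ← map_mul] at h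
    rw [hk, show z * z' * z⁻¹ * z'⁻¹ * (z' * z) = z * z' by group, map_mul, map_mul] at h
    exact h
  push Not at hred
  by_contra hnc
  obtain ⟨J1, W, d, hJ1W, hpJ1, hbij, hdim, hd2, htrans, hker, -⟩ :=
    exists_blocks hp2 hJ ρ hred ⟨z, z', hnc⟩
  have hnd : n = p * d := by
    let L : (∀ i, W i) →ₗ[ZMod 2] U := ∑ i, (W i).subtype ∘ₗ LinearMap.proj i
    have hL : ⇑L = fun f : (∀ i, W i) => ∑ i, (f i : U) := funext fun f => by simp [L]
    have hb : Function.Bijective L := hL ▸ hbij
    rw [← hn, ← (LinearEquiv.ofBijective L hb).finrank_eq, Module.finrank_pi_fintype]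
    simp [hdim]
  let ρ1 : (i : Fin p) → J1 →* Module.End (ZMod 2) (W i) := fun i =>
    { toFun := fun g => (ρ (g : J)).restrict (hJ1W g g.2 i)
      map_one' := LinearMap.ext fun w => Subtype.ext (by simp)
      map_mul' := fun x y => LinearMap.ext fun w => Subtype.ext (by simp [map_mul]) }
  have htot : ∀ g : J1, ∑ i : Fin p, finrank (ZMod 2) (LinearMap.range (ρ1 i g - 1)) ≤
      finrank (ZMod 2) (LinearMap.range (ρ g - 1)) := by
    intro g
    rw [← Module.finrank_pi_fintype]
    let L : (∀ i, LinearMap.range (ρ1 i g - 1)) →ₗ[ZMod 2] U :=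
      ∑ i, (W i).subtype ∘ₗ (LinearMap.range (ρ1 i g - 1)).subtype ∘ₗ LinearMap.proj i
    have hL : ∀ f, L f = ∑ i, (((f i : LinearMap.range (ρ1 i g - 1)) : W i) : U) := fun f => by
      simp [L]
    refine LinearMap.finrank_le_finrank_of_injective
      (f := L.codRestrict (LinearMap.range (ρ g - 1)) fun f => ?_) fun f f' h => ?_
    · choose w hw using fun i => (f i).2
      refine ⟨∑ i, (w i : U), ?_⟩
      rw [hL, map_sum]
      exact Finset.sum_congr rfl fun i _ => congrArg Subtype.val (hw i)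
    · have h' : L f = L f' := congrArg Subtype.val h
      rw [hL, hL] at h'
      have h'' := hbij.1 (a₁ := fun i => (f i).1) (a₂ := fun i => (f' i).1) h'
      exact funext fun i => Subtype.ext (congrFun h'' i)
  have hno : ∀ y ∉ J1, (p - 1) * d ≤ finrank (ZMod 2) (LinearMap.range (ρ y - 1)) := by
    intro y hy
    have h0 := hker y hy
    have h1 := LinearMap.finrank_range_add_finrank_ker (ρ y - 1)
    rw [hn, hnd] at h1
    obtain ⟨q, hq⟩ : ∃ q, p = q + 1 := ⟨p - 1, by have := hp.out.pos; omega⟩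
    rw [hq, Nat.add_mul, one_mul] at h1
    rw [hq, Nat.add_sub_cancel]
    omega
  have heq : ∀ y ∉ J1, ∀ x : J1, Commute y (x : J) → ∀ j l,
      finrank (ZMod 2) (LinearMap.range (ρ1 j x - 1)) ≤
        finrank (ZMod 2) (LinearMap.range (ρ1 l x - 1)) := by
    intro y hy x hyx j l
    obtain ⟨k, hk⟩ := htrans y hy j l
    refine LinearMap.finrank_le_finrank_of_injective
      (f := ((((ρ (y ^ k)).restrict hk).comp
        (LinearMap.range (ρ1 j x - 1)).subtype)).codRestrict _ ?_) fun u w huw => ?_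
    · rintro ⟨_, v, rfl⟩
      refine ⟨⟨ρ (y ^ k) v, hk _ v.2⟩, Subtype.ext ?_⟩
      show ρ (x : J) (ρ (y ^ k) v) - ρ (y ^ k) v = ρ (y ^ k) (ρ (x : J) v - v)
      rw [map_sub, ← Module.End.mul_apply, ← map_mul, ← (hyx.pow_left k).eq, map_mul,
        Module.End.mul_apply]
    · exact Subtype.ext (Subtype.ext (end_injective ρ _
        (congrArg (fun v => ((v : W l) : U)) (congrArg Subtype.val huw))))
  have hspecial : ∀ x, SmallRank p ρ x → ∃ hx : x ∈ J1, ∀ i : Fin p, SmallRank p (ρ1 i) ⟨x, hx⟩ := by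
    rintro x ⟨y, i, rfl, hr⟩
    exact smallRank_descend J1 hpJ1 (fun l g => finrank (ZMod 2) (LinearMap.range (ρ1 l g - 1)))
      (fun g => finrank (ZMod 2) (LinearMap.range (ρ g - 1))) htot hd2 hno heq y i hr
  obtain ⟨hx, hx1⟩ := hspecial z hz
  obtain ⟨hx', hx1'⟩ := hspecial z' hz'
  refine hnc (LinearMap.ext fun v => ?_)
  obtain ⟨f, rfl⟩ := hbij.2 v
  simp only [map_sum]
  refine Finset.sum_congr rfl fun i _ => ?_
  have hlt : finrank (ZMod 2) (W i) < n := by
    rw [hdim, hnd]
    exact lt_of_lt_of_le (by omega : d < 2 * d) (Nat.mul_le_mul_right d hp.out.two_le)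
  exact congrArg Subtype.val (LinearMap.congr_fun
    (ih _ hlt (hJ.to_subgroup J1) (ρ1 i) rfl ⟨z, hx⟩ ⟨z', hx'⟩ (hx1 i) (hx1' i)).eq (f i))

/-- Elements of small rank commute. -/
theorem commute_smallRank (hp2 : p ≠ 2) {J : Type u} [Group J] [Finite J] (hJ : IsPGroup p J)
    {U : Type v} [AddCommGroup U] [Module (ZMod 2) U] [FiniteDimensional (ZMod 2) U]
    (ρ : J →* Module.End (ZMod 2) U) (z z' : J) (hz : SmallRank p ρ z) (hz' : SmallRank p ρ z') :
    Commute (ρ z) (ρ z') :=
  commute_smallRank_aux hp2 _ hJ ρ rfl z z' hz hz'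

end Cfsg.Agent.HallHigman
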