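import Cfsg.Agent.Lib.HallHigman.Main
import Cfsg.Agent.Lib.HallHigman.RankComm
import Cfsg.Agent.Lib.LocalEvenA.FStarComm
import Cfsg.Agent.Lib.Coprime23.UpperSeries

/-!
# The exceptional elements of largest order commute
-/

set_option autoImplicit false
set_option linter.unusedSectionVars false
set_option linter.style.haveILetI false

namespace Cfsg.Agent.HallHigman

open Module Subgroup
open scoped commutatorElement

universe u

variable {k : Type*} [Field k] [IsAlgClosed k] {p : ℕ} [hp : Fact p.Prime] [hk : CharP k p]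
variable {H : Type u} [Group H] [Finite H]
variable {V : Type*} [AddCommGroup V] [Module k V] [FiniteDimensional k V]

/-- The common eigenspace of a character. -/
def eigW (ρ : H →* Module.End k V) (A : Subgroup H) (χ : H → k) : Submodule k V where
  carrier := {w | ∀ a ∈ A, ρ a w = χ a • w}
  add_mem' {x y} hx hy a ha := by rw [map_add, hx a ha, hy a ha, smul_add]
  zero_mem' a _ := by rw [map_zero, smul_zero]
  smul_mem' c x hx a ha := by rw [map_smul, hx a ha, smul_comm]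

theorem eigW_invariant (ρ : H →* Module.End k V) (A : Subgroup H) (χ : H → k) {g : H}
    (hg : g ∈ normalizer (A : Set H)) (hχ : ∀ a ∈ A, χ (g * a * g⁻¹) = χ a) :
    (∀ w ∈ eigW ρ A χ, ρ g w ∈ eigW ρ A χ) ∧ ∀ w ∈ eigW ρ A χ, ρ g⁻¹ w ∈ eigW ρ A χ := by
  refine ⟨fun w hw b hb => ?_, fun w hw b hb => ?_⟩
  · have h1 : g⁻¹ * b * g ∈ A := by
      have := (mem_normalizer_iff.mp (inv_mem hg) b).mp hb
      rwa [inv_inv] at this
    have h2 : χ b = χ (g⁻¹ * b * g) := by
      have := hχ _ h1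
      rwa [show g * (g⁻¹ * b * g) * g⁻¹ = b by group] at this
    rw [← Module.End.mul_apply, ← map_mul, show b * g = g * (g⁻¹ * b * g) by group, map_mul,
      Module.End.mul_apply, hw _ h1, map_smul, h2]
  · have h1 : g * b * g⁻¹ ∈ A := (mem_normalizer_iff.mp hg b).mp hb
    rw [← Module.End.mul_apply, ← map_mul, show b * g⁻¹ = g⁻¹ * (g * b * g⁻¹) by group, map_mul,
      Module.End.mul_apply, hw _ h1, map_smul, hχ b hb]

/-- Passing to the stabilizer of a character keeps the degree below the largest possible one. -/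
theorem descend (ρ : H →* Module.End k V) (A : Subgroup H) (χ : H → k) (x : H) {n : ℕ}
    (hn : 1 ≤ n) (hxA : x ∈ normalizer (A : Set H)) (hxN : x ^ p ^ n = 1)
    (hbad : (ρ x - 1) ^ (p ^ n - 1) = 0)
    (hz : ∀ a ∈ A, χ (x ^ p ^ (n - 1) * a * (x ^ p ^ (n - 1))⁻¹) = χ a) :
    ∃ j, j ≤ n - 1 ∧ (∀ a ∈ A, χ (x ^ p ^ j * a * (x ^ p ^ j)⁻¹) = χ a) ∧
      ∀ w ∈ eigW ρ A χ, ((ρ (x ^ p ^ j) - 1) ^ (p ^ (n - j) - 1)) w = 0 := by
  classical
  let Stab : Submonoid H :=
    { carrier := {g | ∀ b ∈ A, g * b * g⁻¹ ∈ A ∧ χ (g * b * g⁻¹) = χ b}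
      one_mem' := fun b hb => by simp [hb]
      mul_mem' := fun {g h} hg hh b hb => by
        obtain ⟨h1, h2⟩ := hh b hb
        obtain ⟨g1, g2⟩ := hg _ h1
        rw [show g * h * b * (g * h)⁻¹ = g * (h * b * h⁻¹) * g⁻¹ by group]
        exact ⟨g1, g2.trans h2⟩ }
  have hmem : ∀ d, (∀ a ∈ A, χ (x ^ d * a * (x ^ d)⁻¹) = χ a) → x ^ d ∈ Stab := fun d hd b hb =>
    ⟨(mem_normalizer_iff.mp (pow_mem hxA d) b).mp hb, hd b hb⟩
  have hex : ∃ j, x ^ p ^ j ∈ Stab := ⟨n - 1, hmem _ hz⟩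
  set j := Nat.find hex
  have hjn : j ≤ n - 1 := Nat.find_min' hex (hmem _ hz)
  refine ⟨j, hjn, fun a ha => ((Nat.find_spec hex) a ha).2, fun w hw => ?_⟩
  by_contra hne
  set y := x ^ p ^ j
  have hWy : ∀ (m : ℕ), ∀ u ∈ eigW ρ A χ, ((ρ y - 1) ^ m) u ∈ eigW ρ A χ := by
    intro m
    induction m with
    | zero => exact fun u hu => hu
    | succ m ih =>
      intro u hu
      rw [pow_succ', Module.End.mul_apply, LinearMap.sub_apply, Module.End.one_apply]
      exact sub_mem ((eigW_invariant ρ A χ (pow_mem hxA _)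
        (fun a ha => ((Nat.find_spec hex) a ha).2)).1 _ (ih u hu)) (ih u hu)
  refine sum_translates_ne_zero ρ x (pow_pos hp.out.pos j) A hxA χ hne (hWy _ w hw) ?_ ?_
  · intro d hd0 hd
    by_contra hall
    push Not at hall
    obtain ⟨i, hi, himem⟩ := exists_prime_pow_mem hxN hd0 Stab (hmem d hall)
    have h1 : p ^ j ≤ d :=
      (Nat.pow_le_pow_right hp.out.pos (Nat.find_min' hex himem)).trans (Nat.le_of_dvd hd0 hi)
    omega
  · rw [Finset.sum_congr rfl (fun i _ => map_pow ρ x i), ← sub_one_pow_pred (k := k) (ρ x) j,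
      ← Module.End.mul_apply]
    have hjn' : p ^ j * p ^ (n - j) = p ^ n := by rw [← pow_add]; congr 1; omega
    have h1 : (ρ x - 1) ^ (p ^ j - 1) * (ρ y - 1) ^ (p ^ (n - j) - 1) = (ρ x - 1) ^ (p ^ n - 1) := by
      rw [map_pow, ← sub_one_pow_eq_pow_sub_one (k := k), ← pow_mul, ← pow_add]
      congr 1
      rw [Nat.mul_sub_one, hjn']
      have h2 : p ^ j ≤ p ^ n := Nat.pow_le_pow_right hp.out.pos (by omega)
      have h3 : 1 ≤ p ^ j := Nat.one_le_pow _ _ hp.out.pos
      omega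
    rw [h1, hbad]
    rfl

/-- The rank allowed by the exceptional case is small. -/
theorem exceptional_bound {f m : ℕ} (hf : 1 ≤ f) (hp2 : p ≠ 2) (hm : 1 ≤ m)
    (h : p ^ f - 1 = 2 ^ m) : 2 * m < 2 * (p - 1) * p ^ (f - 1) := by
  have h3 : 3 ≤ p := by have := hp.out.two_le; omega
  obtain ⟨f', rfl⟩ : ∃ f', f = f' + 1 := ⟨f - 1, by omega⟩
  rw [Nat.add_sub_cancel, mul_assoc]
  refine Nat.mul_lt_mul_of_pos_left ?_ two_pos
  obtain ⟨m', rfl⟩ : ∃ m', m = m' + 1 := ⟨m - 1, by omega⟩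
  rw [pow_succ] at h
  have h1 : m' + 1 ≤ 2 ^ m' := Nat.lt_two_pow_self
  rw [pow_succ] at h
  obtain ⟨q, rfl⟩ : ∃ q, p = q + 1 := ⟨p - 1, by omega⟩
  rw [Nat.add_sub_cancel]
  have h4 : 1 ≤ (q + 1) ^ f' := Nat.one_le_pow _ _ (by omega)
  have h5 : (q + 1) ^ f' * (q + 1) = q * (q + 1) ^ f' + (q + 1) ^ f' := by ring
  have h6 : 2 * (q + 1) ^ f' ≤ q * (q + 1) ^ f' := Nat.mul_le_mul_right _ (by omega)
  omega

/-- The top powers in a `p`-group all of whose elements have less than the full degree commute. -/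
theorem commute_top_powers (hp2 : p ≠ 2) (ρ : H →* Module.End k V) (hρ : Function.Injective ρ)
    (hsol : IsPSolvable p H) (hO : pCore p H = ⊥) (S : Subgroup H) (hS : IsPGroup p S) {e : ℕ}
    (he : 1 ≤ e) (hexp : ∀ y ∈ S, y ^ p ^ e = 1)
    (hbad : ∀ y ∈ S, (ρ y - 1) ^ (p ^ e - 1) = 0) :
    ∀ y ∈ S, ∀ y' ∈ S, Commute (y ^ p ^ (e - 1)) (y' ^ p ^ (e - 1)) := by
  classical
  set Dset : Set H := {z | ∃ y ∈ S, z = y ^ p ^ (e - 1)} with hDset
  set D0 := Subgroup.closure Dset with hD0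
  set C0 := ⁅D0, D0⁆ with hC0
  have hDS : Dset ⊆ S := by
    rintro _ ⟨y, hy, rfl⟩
    exact pow_mem hy _
  have hD0S : D0 ≤ S := (Subgroup.closure_le S).mpr hDS
  have hC0S : C0 ≤ S := (commutator_mono hD0S hD0S).trans (commutator_le_self S)
  have hSD0 : ∀ s ∈ S, D0.map (MulAut.conj s : H →* H) = D0 := by
    have key : ∀ s ∈ S, D0.map (MulAut.conj s : H →* H) ≤ D0 := fun s hs => by
      rw [hD0, MonoidHom.map_closure, Subgroup.closure_le]
      rintro _ ⟨_, ⟨y, hy, rfl⟩, rfl⟩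
      refine Subgroup.subset_closure ⟨s * y * s⁻¹, mul_mem (mul_mem hs hy) (inv_mem hs), ?_⟩
      rw [conj_pow]
      rfl
    intro s hs
    refine le_antisymm (key s hs) fun d hd => ⟨s⁻¹ * d * s, ?_, by simp [mul_assoc]⟩
    have := key s⁻¹ (inv_mem hs) ⟨d, hd, rfl⟩
    simpa using this
  have hSC0 : ∀ s ∈ S, C0.map (MulAut.conj s : H →* H) = C0 := fun s hs => by
    rw [hC0, map_commutator, hSD0 s hs]
  suffices hbot : C0 = ⊥ by
    intro y hy y' hy'
    refine (commutatorElement_eq_one_iff_commute.mp ?_)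
    rw [← mem_bot, ← hbot]
    exact commutator_mem_commutator (Subgroup.subset_closure ⟨y, hy, rfl⟩)
      (Subgroup.subset_closure ⟨y', hy', rfl⟩)
  set Q := pPrimeCore p H
  haveI : Q.Normal := Basics.pPrimeCore_normal p
  have hQ : (Nat.card Q).Coprime p := Basics.pPrimeCore_coprime (G := H) p
  have hcopS : (Nat.card S).Coprime (Nat.card Q) := by
    obtain ⟨i, hi⟩ := IsPGroup.iff_card.mp hS
    rw [hi]
    exact hQ.symm.pow_left i
  suffices hcent : C0 ≤ centralizer (Q : Set H) by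
    refine le_bot_iff.mp ((le_inf hC0S (hcent.trans (Components.centralizer_pPrimeCore_le hsol hO))).trans ?_)
    exact le_of_eq (inf_eq_bot_of_coprime hcopS)
  by_contra hcent
  have hexT : ∃ d, ∃ (q : ℕ) (T : Subgroup H), q.Prime ∧ q ≠ p ∧ IsPGroup q T ∧
      S ≤ normalizer (T : Set H) ∧ ¬ C0 ≤ centralizer (T : Set H) ∧ Nat.card T = d := by
    by_contra hcon
    push Not at hcon
    refine hcent (Subgroup.le_centralizer_iff.mp ?_)
    set D := Q ⊓ centralizer (C0 : Set H)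
    suffices hc : Nat.card Q ∣ Nat.card D from
      (eq_of_le_of_card_ge inf_le_left (Nat.le_of_dvd Nat.card_pos hc)).ge.trans inf_le_right
    refine (Nat.factorization_prime_le_iff_dvd Nat.card_pos.ne' Nat.card_pos.ne').mp fun q hq => ?_
    haveI := Fact.mk hq
    by_cases hqQ : q ∣ Nat.card Q
    · obtain ⟨T, hT, hTn⟩ := Basics.exists_invariant_isSylowIn S Q
        (fun g _ => by rw [normalizer_eq_top]; trivial) hcopS
        (Or.inl (haveI := hS.isNilpotent; inferInstance)) q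
      have hqp : q ≠ p := by
        rintro rfl
        exact hp.out.one_lt.ne' (Nat.eq_one_of_dvd_coprimes hQ hqQ dvd_rfl)
      have hle : T ≤ D := le_inf hT.1 (Subgroup.le_centralizer_iff.mp (by
        by_contra hne
        exact hcon (Nat.card T) q T hq hqp hT.isPGroup hTn hne rfl))
      refine (hq.pow_dvd_iff_le_factorization Nat.card_pos.ne').mp ?_
      rw [← hT.2]
      exact card_dvd_of_le hle
    · rw [Nat.factorization_eq_zero_of_not_dvd hqQ]
      exact Nat.zero_le _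
  obtain ⟨q, T, hq, hqp, hT, hST, hTC, hTd⟩ := Nat.find_spec hexT
  haveI := Fact.mk hq
  haveI : Group.IsNilpotent T := hT.isNilpotent
  have hmin : ∀ T' : Subgroup H, T' ≤ T → S ≤ normalizer (T' : Set H) → T' ≠ T →
      C0 ≤ centralizer (T' : Set H) := by
    intro T' hT' hST' hne
    by_contra hT'C
    have := Nat.find_min' hexT (m := Nat.card T')
      ⟨q, T', hq, hqp, hT.to_le hT', hST', hT'C, rfl⟩
    exact hne (eq_of_le_of_card_ge hT' (by omega))
  have hcast : ∀ a ∈ T, (orderOf a : k) ≠ 0 := by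
    intro a ha
    obtain ⟨i, hi⟩ := IsPGroup.iff_orderOf.mp hT ⟨a, ha⟩
    rw [Subgroup.orderOf_mk] at hi
    rw [hi, Ne, CharP.cast_eq_zero_iff k p]
    exact fun h => hqp ((Nat.prime_dvd_prime_iff_eq hp.out hq).mp (hp.out.dvd_of_dvd_pow h)).symm
  -- abelian invariant subgroups are centralized
  have habel : ∀ A : Subgroup H, A ≤ T → S ≤ normalizer (A : Set H) →
      (∀ a ∈ A, ∀ b ∈ A, a * b = b * a) → D0 ≤ centralizer (A : Set H) := by
    intro A hA hSA hAc
    rw [hD0, Subgroup.closure_le]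
    rintro _ ⟨y, hy, rfl⟩
    by_contra hne
    rw [SetLike.mem_coe, mem_centralizer_iff] at hne
    push Not at hne
    obtain ⟨a, ha, hne⟩ := hne
    refine full_degree_of_abelian ρ A y (hSA hy) (hexp y hy)
      (fun a ha b hb => (show Commute a b from hAc a ha b hb).map ρ) (fun a ha => hcast a (hA ha))
      ⟨a, ha, fun h => hne (mul_inv_eq_iff_eq_mul.mp (hρ h)).symm⟩ (hbad y hy)
  -- the structure of `T`
  set Φ : Subgroup H := (frattini T).map T.subtype with hΦ
  have hΦT : Φ ≤ T := map_subtype_le _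
  have hSΦ : S ≤ normalizer (Φ : Set H) :=
    hST.trans (LocalEvenA.normalizer_le_normalizer_map_char _)
  have hTne : Nontrivial T := by
    rw [nontrivial_iff_ne_bot]
    intro h
    apply hTC
    rw [h]
    exact fun g _ x hx => by
      rw [SetLike.mem_coe, mem_bot] at hx
      rw [hx, one_mul, mul_one]
  have hΦne : Φ ≠ T := by
    intro h
    have h1 : frattini T = ⊤ := by
      refine map_injective T.subtype_injective ?_
      rw [← MonoidHom.range_eq_map, range_subtype]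
      exact h
    exact (bot_ne_top (α := Subgroup T)) (frattini_nongenerating (by rw [h1, bot_sup_eq]))
  have hΦC := hmin Φ hΦT hSΦ hΦne
  have hST0 : ∀ s ∈ S, T.map (MulAut.conj s : H →* H) = T := fun s hs =>
    mem_normalizer_iff_map_conj_eq.mp (hST hs)
  have hC0T : C0 ≤ normalizer (T : Set H) := hC0S.trans hST
  have hcopC : (Nat.card C0).Coprime (Nat.card T) := by
    obtain ⟨i, hi⟩ := IsPGroup.iff_card.mp (hS.to_le hC0S)
    obtain ⟨j, hj⟩ := IsPGroup.iff_card.mp hT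
    rw [hi, hj]
    exact Nat.Coprime.pow i j ((Nat.coprime_primes hp.out hq).mpr hqp.symm)
  have hTC0 : ⁅T, C0⁆ = T := by
    by_contra hne
    have hle : ⁅T, C0⁆ ≤ T := le_normalizer_iff_commutator_le_left.mp hC0T
    have hnorm : S ≤ normalizer ((⁅T, C0⁆ : Subgroup H) : Set H) := fun s hs =>
      mem_normalizer_iff_map_conj_eq.mpr (by rw [map_commutator, hST0 s hs, hSC0 s hs])
    have h1 := hmin _ hle hnorm hne
    have h2 : ⁅⁅T, C0⁆, C0⁆ = ⊥ :=
      commutator_eq_bot_iff_le_centralizer.mpr (Subgroup.le_centralizer_iff.mp h1)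
    rw [Basics.commutator_commutator_eq C0 T hC0T hcopC (Or.inr inferInstance),
      commutator_eq_bot_iff_le_centralizer] at h2
    exact hTC (Subgroup.le_centralizer_iff.mp h2)
  have hΦn : ⁅Φ, T⁆ ≤ Φ := le_normalizer_iff_commutator_le_left.mp
    (le_normalizer.trans (LocalEvenA.normalizer_le_normalizer_map_char _))
  have hΦZ : Φ ≤ centralizer (T : Set H) := by
    have h1 : ⁅⁅C0, Φ⁆, T⁆ = ⊥ := by
      rw [commutator_eq_bot_iff_le_centralizer.mpr hΦC, commutator_bot_left]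
    have h2 : ⁅⁅Φ, T⁆, C0⁆ = ⊥ :=
      commutator_eq_bot_iff_le_centralizer.mpr (hΦn.trans (Subgroup.le_centralizer_iff.mp hΦC))
    have h3 := commutator_commutator_eq_bot_of_rotate h1 h2
    rw [hTC0, commutator_eq_bot_iff_le_centralizer] at h3
    exact Subgroup.le_centralizer_iff.mp h3
  set Z0 := T ⊓ centralizer (T : Set H) with hZ0
  have hSZ0 : S ≤ normalizer (Z0 : Set H) := fun s hs =>
    inf_normalizer_le_normalizer_inf ⟨hST hs, Basics.Carter.normalizer_centralizer (hST hs)⟩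
  have hZ0D : D0 ≤ centralizer (Z0 : Set H) :=
    habel Z0 inf_le_left hSZ0 fun a ha b hb =>
      ((mem_centralizer_iff.mp (mem_inf.mp hb).2) a (mem_inf.mp ha).1)
  have hΦZ0 : Φ ≤ Z0 := le_inf hΦT hΦZ
  have hcommT : ∀ s ∈ T, ∀ t ∈ T, s * t * s⁻¹ * t⁻¹ ∈ Φ := fun s hs t ht =>
    ⟨⁅(⟨s, hs⟩ : T), ⟨t, ht⟩⁆,
      Basics.commutator_le_frattini (commutator_mem_commutator (mem_top _) (mem_top _)), rfl⟩
  obtain ⟨c, hc, t0, ht0, hu⟩ : ∃ c ∈ C0, ∃ t ∈ T, c * t * c⁻¹ * t⁻¹ ∉ Z0 := by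
    by_contra hall
    push Not at hall
    have hle : T ≤ Z0 := by
      rw [← hTC0, commutator_le]
      intro t ht c hc
      have := inv_mem (hall c hc t ht)
      rw [commutatorElement_def]
      rwa [show (c * t * c⁻¹ * t⁻¹)⁻¹ = t * c * t⁻¹ * c⁻¹ by group] at this
    refine hTC ((commutator_le_self D0).trans ?_)
    exact habel T le_rfl hST fun a ha b hb =>
      (mem_centralizer_iff.mp (mem_inf.mp (hle hb)).2) a ha
  set uu := c * t0 * c⁻¹ * t0⁻¹ with huu
  have huT : uu ∈ T := mul_mem ((mem_normalizer_iff.mp (hC0T hc) t0).mp ht0) (inv_mem ht0)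
  obtain ⟨t1, ht1, hne1⟩ : ∃ t1 ∈ T, uu * t1 * uu⁻¹ * t1⁻¹ ≠ 1 := by
    by_contra hall
    push Not at hall
    refine hu (mem_inf.mpr ⟨huT, mem_centralizer_iff.mpr fun t ht => ?_⟩)
    exact (commutatorElement_eq_one_iff_commute.mp (hall t ht)).eq.symm
  set d0 := uu * t1 * uu⁻¹ * t1⁻¹ with hd0def
  have hd0 : d0 ∈ Z0 := hΦZ0 (hcommT uu huT t1 ht1)
  obtain ⟨v, hv0, χ0, hχ0, hχ1⟩ := exists_eigen_ne_one (fun a : Z0 => ρ (a : H))
    (fun a b => (show Commute (a : H) b from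
      (mem_centralizer_iff.mp (mem_inf.mp b.2).2) a (mem_inf.mp a.2).1).map ρ)
    ⟨d0, hd0⟩ (hcast d0 (mem_inf.mp hd0).1)
    (by rw [← map_pow, pow_orderOf_eq_one, map_one])
    (fun h => hne1 (hρ (h.trans (map_one ρ).symm)))
  let χ : H → k := fun g => if h : g ∈ Z0 then χ0 ⟨g, h⟩ else 0
  have hχ : ∀ b ∈ Z0, ρ b v = χ b • v := fun b hb => by
    simp only [χ, dif_pos hb]; exact hχ0 ⟨b, hb⟩
  set W := eigW ρ Z0 χ with hW
  have hvW : v ∈ W := hχ
  haveI : Nontrivial W := nontrivial_of_ne ⟨v, hvW⟩ 0 fun h => hv0 (congrArg Subtype.val h)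
  let G0 : Subgroup H :=
    { carrier := {g | g ∈ normalizer (T : Set H) ∧ (∀ w ∈ W, ρ g w ∈ W) ∧ ∀ w ∈ W, ρ g⁻¹ w ∈ W}
      one_mem' := ⟨one_mem _, fun w hw => by simpa using hw, fun w hw => by simpa using hw⟩
      mul_mem' := fun {a b} ha hb => ⟨mul_mem ha.1 hb.1, fun w hw => by
        rw [map_mul]; exact ha.2.1 _ (hb.2.1 w hw), fun w hw => by
        rw [mul_inv_rev, map_mul]; exact hb.2.2 _ (ha.2.2 w hw)⟩
      inv_mem' := fun {a} ha => ⟨inv_mem ha.1, ha.2.2, by rw [inv_inv]; exact ha.2.1⟩ }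
  have hTG0 : T ≤ G0 := fun t ht => ⟨le_normalizer ht, eigW_invariant ρ Z0 χ
    (inf_normalizer_le_normalizer_inf
      ⟨le_normalizer ht, Basics.Carter.normalizer_centralizer (le_normalizer ht)⟩)
    fun a ha => by rw [(mem_centralizer_iff.mp (mem_inf.mp ha).2) t ht, mul_inv_cancel_right]⟩
  have hDG0 : ∀ g ∈ D0, g ∈ G0 := fun g hg => ⟨hST (hD0S hg), eigW_invariant ρ Z0 χ
    (hSZ0 (hD0S hg)) fun a ha => by
      rw [← (mem_centralizer_iff.mp (hZ0D hg)) a ha, mul_inv_cancel_right]⟩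
  let ρW : G0 →* Module.End k W :=
    { toFun := fun g => (ρ (g : H)).restrict g.2.2.1
      map_one' := LinearMap.ext fun w => Subtype.ext (by simp)
      map_mul' := fun a b => LinearMap.ext fun w => Subtype.ext (by simp [map_mul]) }
  -- the scalars
  let N0 : Subgroup H :=
    { carrier := {t | t ∈ T ∧ ∃ a : k, ∀ w ∈ W, ρ t w = a • w}
      one_mem' := ⟨one_mem T, 1, fun w _ => by simp⟩
      mul_mem' := fun {s t} hs ht => by
        obtain ⟨hsT, a, ha⟩ := hs
        obtain ⟨htT, b, hb⟩ := ht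
        refine ⟨mul_mem hsT htT, b * a, fun w hw => ?_⟩
        rw [map_mul, Module.End.mul_apply, hb w hw, map_smul, ha w hw, smul_smul]
      inv_mem' := fun {t} ht => by
        obtain ⟨htT, a, ha⟩ := ht
        refine ⟨inv_mem htT, a⁻¹, fun w hw => ?_⟩
        have h1 : ρ t⁻¹ (ρ t w) = w := by
          rw [← Module.End.mul_apply, ← map_mul, inv_mul_cancel, map_one, Module.End.one_apply]
        rw [ha w hw, map_smul] at h1
        by_cases ha0 : a = 0
        · rw [ha0, zero_smul] at h1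
          rw [← h1, map_zero, smul_zero]
        · conv_rhs => rw [← h1]
          rw [smul_smul, inv_mul_cancel₀ ha0, one_smul] }
  have hN0T : N0 ≤ T := fun _ h => h.1
  have hZN0 : Z0 ≤ N0 := fun b hb => ⟨(mem_inf.mp hb).1, χ b, fun w hw => hw b hb⟩
  have hN0conj : ∀ g ∈ G0, ∀ t ∈ N0, g * t * g⁻¹ ∈ N0 := by
    intro g hg t ht
    obtain ⟨htT, a, ha⟩ := ht
    refine ⟨(mem_normalizer_iff.mp hg.1 t).mp htT, a, fun w hw => ?_⟩
    rw [map_mul, map_mul, Module.End.mul_apply, Module.End.mul_apply, ha _ (hg.2.2 w hw), map_smul,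
      ← Module.End.mul_apply, ← map_mul, mul_inv_cancel, map_one, Module.End.one_apply]
  haveI : (N0.subgroupOf T).Normal := ⟨fun t ht g => mem_subgroupOf.mpr
    (hN0conj g (hTG0 g.2) _ (mem_subgroupOf.mp ht))⟩
  letI : CommGroup (↥T ⧸ N0.subgroupOf T) :=
    { (inferInstance : Group (↥T ⧸ N0.subgroupOf T)) with
      mul_comm := by
        intro a b
        induction a using QuotientGroup.induction_on with
        | H a =>
          induction b using QuotientGroup.induction_on with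
          | H b =>
            rw [← commutatorElement_eq_one_iff_mul_comm]
            refine (QuotientGroup.eq_one_iff (N := N0.subgroupOf T) ⁅a, b⁆).mpr ?_
            exact mem_subgroupOf.mpr (hZN0 (hΦZ0 (hcommT a a.2 b b.2))) }
  have hMq : ∀ m : ↥T ⧸ N0.subgroupOf T, m ^ q = 1 := by
    intro m
    induction m using QuotientGroup.induction_on with
    | H a =>
      rw [← QuotientGroup.mk_pow, QuotientGroup.eq_one_iff]
      exact mem_subgroupOf.mpr (hZN0 (hΦZ0 ⟨a ^ q, Basics.pow_mem_frattini hT a, rfl⟩))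
  -- the action
  let J : Subgroup H := S ⊓ G0
  have hJ : IsPGroup p J := hS.to_le inf_le_left
  let cj : J → (↥T →* ↥T) := fun g =>
    { toFun := fun t => ⟨(g : H) * t * (g : H)⁻¹,
        (mem_normalizer_iff.mp (mem_inf.mp g.2).2.1 (t : H)).mp t.2⟩
      map_one' := Subtype.ext (by simp)
      map_mul' := fun a b => Subtype.ext (by simp [mul_assoc]) }
  let π : J → ((↥T ⧸ N0.subgroupOf T) →* (↥T ⧸ N0.subgroupOf T)) := fun g =>
    QuotientGroup.map _ _ (cj g) fun t ht => mem_comap.mpr (mem_subgroupOf.mpr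
      (hN0conj _ (mem_inf.mp g.2).2 _ (mem_subgroupOf.mp ht)))
  have hπmk : ∀ g (t : ↥T), π g (QuotientGroup.mk t) = QuotientGroup.mk (cj g t) := fun g t => rfl
  have hπmul : ∀ g h m, π (g * h) m = π g (π h m) := by
    intro g h m
    induction m using QuotientGroup.induction_on with
    | H t =>
      rw [hπmk, hπmk, hπmk]
      exact congrArg _ (Subtype.ext (by simp [cj, mul_assoc]))
  have hπone : ∀ m, π 1 m = m := by
    intro m
    induction m using QuotientGroup.induction_on with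
    | H t => rw [hπmk]; exact congrArg _ (Subtype.ext (by simp [cj]))
  -- each top power moves little
  have hsmall : ∀ (y : H) (hy : y ∈ S), ∃ hz : y ^ p ^ (e - 1) ∈ J,
      (∀ m, π ⟨_, hz⟩ m = m) ∨ q = 2 ∧ ∃ (y1 : J) (i : ℕ), (⟨_, hz⟩ : J) = y1 ^ p ^ i ∧
        ∃ r, Nat.card (π ⟨_, hz⟩ / MonoidHom.id _).range ∣ 2 ^ r ∧ r < 2 * (p - 1) * p ^ i := by
    intro y hy
    set z := y ^ p ^ (e - 1) with hzdef
    have hzD : z ∈ D0 := Subgroup.subset_closure ⟨y, hy, rfl⟩
    have hz : z ∈ J := mem_inf.mpr ⟨pow_mem hy _, hDG0 _ hzD⟩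
    refine ⟨hz, ?_⟩
    by_cases htriv : ∀ m, π ⟨z, hz⟩ m = m
    · exact Or.inl htriv
    refine Or.inr ?_
    obtain ⟨j, hj, hχy, hbadW⟩ := descend ρ Z0 χ y he (hSZ0 hy) (hexp y hy) (hbad y hy)
      fun a ha => by rw [← hzdef, ← (mem_centralizer_iff.mp (hZ0D hzD)) a ha, mul_inv_cancel_right]
    set y' := y ^ p ^ j with hy'def
    set f := e - j with hf
    have hf1 : 1 ≤ f := by omega
    have hy'G : y' ∈ G0 := ⟨pow_mem (hST hy) _, eigW_invariant ρ Z0 χ (pow_mem (hSZ0 hy) _) hχy⟩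
    have hy'J : y' ∈ J := mem_inf.mpr ⟨pow_mem hy _, hy'G⟩
    have hy'z : y' ^ p ^ (f - 1) = z := by
      rw [hy'def, hzdef, ← pow_mul, ← pow_add]; congr 2; omega
    have hy'N : y' ^ p ^ f = 1 := by
      rw [hy'def, ← pow_mul, ← pow_add, show j + f = e by omega, hexp y hy]
    have hbad' : (ρW ⟨y', hy'G⟩ - 1) ^ (p ^ f - 1) = 0 := by
      have hsub : ∀ (m : ℕ) (w : W), (((ρW ⟨y', hy'G⟩ - 1) ^ m) w : V) =
          ((ρ y' - 1) ^ m) (w : V) := by
        intro m
        induction m with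
        | zero => intro w; rfl
        | succ m ih =>
          intro w
          rw [pow_succ', pow_succ', Module.End.mul_apply, Module.End.mul_apply, ← ih]
          rfl
      exact LinearMap.ext fun w => Subtype.ext ((hsub _ w).trans (hbadW w w.2))
    -- the moved part
    set D := π ⟨z, hz⟩ / MonoidHom.id (↥T ⧸ N0.subgroupOf T) with hD
    let S1 : Subgroup H := (D.range.comap (QuotientGroup.mk' _)).map T.subtype
    have hS1T : S1 ≤ T := map_subtype_le _
    have hcommz : ∀ m, π ⟨y', hy'J⟩ (π ⟨z, hz⟩ m) = π ⟨z, hz⟩ (π ⟨y', hy'J⟩ m) := by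
      intro m
      rw [← hπmul, ← hπmul]
      have hzy : (⟨y', hy'J⟩ : J) * ⟨z, hz⟩ = ⟨z, hz⟩ * ⟨y', hy'J⟩ := Subtype.ext (by
        show y' * z = z * y'
        rw [← hy'z]; exact (Commute.self_pow y' _).eq)
      rw [hzy]
    have hyS1 : y' ∈ normalizer (S1 : Set H) := by
      refine mem_normalizer_iff_map_conj_eq.mpr (eq_of_le_of_card_ge ?_
        (card_map_of_injective (MulAut.conj y').injective).ge)
      rintro _ ⟨_, ⟨t, ht, rfl⟩, rfl⟩
      obtain ⟨w, hw⟩ := mem_comap.mp ht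
      refine ⟨cj ⟨y', hy'J⟩ t, mem_comap.mpr ⟨π ⟨y', hy'J⟩ w, ?_⟩, rfl⟩
      show π ⟨z, hz⟩ (π ⟨y', hy'J⟩ w) / π ⟨y', hy'J⟩ w = π ⟨y', hy'J⟩ (QuotientGroup.mk t)
      rw [← hcommz, ← map_div]
      exact congrArg _ hw
    have hfix : ∀ m ∈ D.range, π ⟨z, hz⟩ m = m → m = 1 := by
      rintro _ ⟨w, rfl⟩ hm
      set m := D w with hmdef
      have hzw : π ⟨z, hz⟩ w = m * w := by
        rw [hmdef, hD, MonoidHom.div_apply, MonoidHom.id_apply, div_mul_cancel]
      have hiter : ∀ i, π (⟨z, hz⟩ ^ i) w = m ^ i * w := by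
        intro i
        induction i with
        | zero => rw [pow_zero, hπone, pow_zero, one_mul]
        | succ i ih =>
          rw [pow_succ', hπmul, ih, map_mul, map_pow, hm, hzw, pow_succ, mul_assoc]
      have hmp : m ^ p = 1 := by
        have h := hiter p
        rw [show (⟨z, hz⟩ : J) ^ p = 1 from Subtype.ext (by
          rw [SubgroupClass.coe_pow, OneMemClass.coe_one]
          show (y ^ p ^ (e - 1)) ^ p = 1
          rw [← pow_mul, ← pow_succ, Nat.sub_add_cancel he, hexp y hy]), hπone] at h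
        exact (mul_eq_right.mp h.symm)
      exact orderOf_eq_one_iff.mp (Nat.eq_one_of_dvd_coprimes
        ((Nat.coprime_primes hp.out hq).mpr hqp.symm)
        (orderOf_dvd_of_pow_eq_one hmp) (orderOf_dvd_of_pow_eq_one (hMq m)))
    have hscalW : ∀ t ∈ N0, ∀ (hG : t ∈ G0), ∃ a : k, ρW ⟨t, hG⟩ = a • 1 := fun t ht hG => by
      obtain ⟨-, a, ha⟩ := ht
      exact ⟨a, LinearMap.ext fun w => Subtype.ext (ha w w.2)⟩
    obtain ⟨m1, hm1, hm1ne⟩ : ∃ m ∈ D.range, m ≠ 1 := by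
      by_contra hall
      push Not at hall
      exact htriv fun m => div_eq_one.mp (hall _ ⟨m, rfl⟩)
    have hne : ∃ s ∈ S1.subgroupOf G0, ∃ t ∈ S1.subgroupOf G0, ρW (s * t * s⁻¹ * t⁻¹) ≠ 1 := by
      by_contra hall
      push Not at hall
      obtain ⟨a, rfl⟩ := QuotientGroup.mk'_surjective _ m1
      refine full_degree_of_abelian ρW (S1.subgroupOf G0) ⟨y', hy'G⟩ (e := f) ?_
        (Subtype.ext (by simpa using hy'N)) ?_ ?_ ⟨⟨a, hTG0 a.2⟩, mem_subgroupOf.mpr ⟨a, hm1, rfl⟩, ?_⟩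
        hbad'
      · refine mem_normalizer_iff.mpr fun g => ?_
        simp only [mem_subgroupOf, Subgroup.coe_mul, Subgroup.coe_inv]
        exact mem_normalizer_iff.mp hyS1 (g : H)
      · intro s hs t ht
        have h := congrArg (fun X => X * (ρW t * ρW s)) (hall s hs t ht)
        simp only [← map_mul, one_mul] at h
        rw [show s * t * s⁻¹ * t⁻¹ * (t * s) = s * t by group, map_mul, map_mul] at h
        exact h
      · intro s hs
        rw [← Subgroup.orderOf_coe]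
        exact hcast _ (hS1T (mem_subgroupOf.mp hs))
      · intro heq
        apply hm1ne
        refine hfix _ hm1 ?_
        show π ⟨z, hz⟩ (QuotientGroup.mk a) = QuotientGroup.mk a
        rw [hπmk, ← div_eq_one, ← QuotientGroup.mk_div, QuotientGroup.eq_one_iff, mem_subgroupOf]
        have hzG : z ∈ G0 := (mem_inf.mp hz).2
        have h1 : ρW (⟨z, hzG⟩ * ⟨a, hTG0 a.2⟩ * ⟨z, hzG⟩⁻¹) = ρW ⟨a, hTG0 a.2⟩ := by
          convert heq using 2
          exact Subtype.ext (by simp [hy'z])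
        refine ⟨((cj ⟨z, hz⟩ a) / a : ↥T).2, 1, fun w hw => ?_⟩
        have h2 := congrArg Subtype.val (LinearMap.congr_fun
          (congrArg (fun X => X * ρW ⟨a, hTG0 a.2⟩⁻¹) h1) ⟨w, hw⟩)
        simp only [← map_mul, mul_inv_cancel, map_one] at h2
        rw [one_smul, div_eq_mul_inv]
        exact h2
    rcases degree_of_symplectic (q := q) (p := p) ρW (S1.subgroupOf G0) hqp
        ((hT.to_le hS1T).comap_subtype) ⟨y', hy'G⟩ (mem_normalizer_iff.mpr fun g => by
          simp only [mem_subgroupOf, Subgroup.coe_mul, Subgroup.coe_inv]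
          exact mem_normalizer_iff.mp hyS1 (g : H))
        hf1 (Subtype.ext (by simpa using hy'N))
        (fun s hs t ht => hscalW _ (hZN0 (hΦZ0 (hcommT _ (hS1T (mem_subgroupOf.mp hs)) _
          (hS1T (mem_subgroupOf.mp ht))))) _)
        hne
        (fun s hs hfixs => by
          obtain ⟨⟨s', hs'T⟩, hs'D, hss⟩ := mem_subgroupOf.mp hs
          obtain rfl : s' = (s : H) := hss
          refine hscalW _ ?_ s.2
          refine mem_subgroupOf.mp ((QuotientGroup.eq_one_iff (N := N0.subgroupOf T) ⟨(s : H), hs'T⟩).mp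
            (hfix _ hs'D ?_))
          show π ⟨z, hz⟩ (QuotientGroup.mk _) = _
          rw [hπmk]
          refine congrArg _ (Subtype.ext ?_)
          have h := congrArg Subtype.val hfixs
          simpa [cj, hy'z] using h) with hfull | ⟨-, m, hm, hqm, R, hRS1, hR, hRcard⟩
    · exact absurd hbad' hfull
    have hev : Even (p ^ f - 1) :=
      Nat.Odd.sub_odd ((hp.out.odd_of_ne_two hp2).pow) odd_one
    have hq2 : q = 2 := by
      rw [hqm] at hev
      exact ((Nat.prime_dvd_prime_iff_eq Nat.prime_two hq).mp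
        (Nat.prime_two.dvd_of_dvd_pow (even_iff_two_dvd.mp hev))).symm
    subst hq2
    refine ⟨rfl, ⟨y', hy'J⟩, f - 1, Subtype.ext (by simpa using hy'z.symm), 2 * m, ?_,
      exceptional_bound hf1 hp2 hm hqm⟩
    have h1 : Nat.card D.range = N0.relIndex S1 := by
      rw [← Coprime23.relIndex_comap_mk', ← relIndex_map_map_of_injective (f := T.subtype) _ _
        T.subtype_injective, map_subgroupOf_eq_of_le hN0T]
    have h2 : (R.map G0.subtype).relIndex S1 = (2 ^ m) * (2 ^ m) := by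
      rw [← hqm, ← hRcard, ← relIndex_map_map_of_injective R (S1.subgroupOf G0)
        G0.subtype_injective, map_subgroupOf_eq_of_le (hS1T.trans hTG0)]
    rw [h1, show 2 * m = m + m by ring, pow_add, ← h2]
    refine relIndex_dvd_of_le_left S1 ?_
    rintro _ ⟨r, hr, rfl⟩
    obtain ⟨a, ha⟩ := hR r hr
    exact ⟨hS1T (mem_subgroupOf.mp (hRS1 hr)), a, fun w hw =>
      congrArg Subtype.val (LinearMap.congr_fun ha ⟨w, hw⟩)⟩
  -- the images of the top powers commute
  have hpair : ∀ y (hy : y ∈ S) y' (hy' : y' ∈ S) m,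
      π ⟨_, (hsmall y hy).1⟩ (π ⟨_, (hsmall y' hy').1⟩ m) =
        π ⟨_, (hsmall y' hy').1⟩ (π ⟨_, (hsmall y hy).1⟩ m) := by
    intro y hy y' hy' m
    rcases (hsmall y hy).2 with h | ⟨h2, y1, i, hy1, r, hr, hri⟩
    · rw [h, h]
    rcases (hsmall y' hy').2 with h | ⟨-, y1', i', hy1', r', hr', hri'⟩
    · rw [h, h]
    subst h2
    letI : Module (ZMod 2) (Additive (↥T ⧸ N0.subgroupOf T)) :=
      AddCommGroup.zmodModule fun x => hMq x.toMul
    let ρM : J →* Module.End (ZMod 2) (Additive (↥T ⧸ N0.subgroupOf T)) :=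
      { toFun := fun g => (MonoidHom.toAdditive (π g)).toZModLinearMap 2
        map_one' := LinearMap.ext fun v => congrArg Additive.ofMul (hπone v.toMul)
        map_mul' := fun a b => LinearMap.ext fun v => congrArg Additive.ofMul (hπmul a b v.toMul) }
    have hrank : ∀ (g : J) r, Nat.card (π g / MonoidHom.id _).range ∣ 2 ^ r →
        finrank (ZMod 2) (LinearMap.range (ρM g - 1)) ≤ r := by
      intro g r hr
      haveI : Module.Finite (ZMod 2) (Additive (↥T ⧸ N0.subgroupOf T)) := Module.Finite.of_finite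
      refine (Nat.pow_le_pow_iff_right (le_refl 2)).mp (le_trans (le_of_eq ?_)
        (Nat.le_of_dvd (by positivity) hr))
      rw [show (2 : ℕ) ^ finrank (ZMod 2) (LinearMap.range (ρM g - 1)) =
          Nat.card (LinearMap.range (ρM g - 1)) by
        rw [Module.natCard_eq_pow_finrank (K := ZMod 2), Nat.card_zmod]]
      refine Nat.card_congr (Equiv.subtypeEquiv Additive.toMul fun v => ?_)
      constructor
      · rintro ⟨w, rfl⟩
        exact ⟨w.toMul, rfl⟩
      · rintro ⟨w, hw⟩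
        exact ⟨Additive.ofMul w, Additive.toMul.injective hw⟩
    have hc := commute_smallRank hp2 hJ ρM ⟨_, (hsmall y hy).1⟩ ⟨_, (hsmall y' hy').1⟩
      ⟨y1, i, hy1, lt_of_le_of_lt (hrank _ r hr) hri⟩
      ⟨y1', i', hy1', lt_of_le_of_lt (hrank _ r' hr') hri'⟩
    exact congrArg Additive.toMul (LinearMap.congr_fun hc.eq (Additive.ofMul m))
  -- so `c` acts trivially
  have hD0J : D0 ≤ J := le_inf hD0S hDG0
  let Ker : Subgroup H :=
    { carrier := {g | ∃ hg : g ∈ J, ∀ m, π ⟨g, hg⟩ m = m}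
      one_mem' := ⟨one_mem J, hπone⟩
      mul_mem' := fun {a b} ha hb => by
        obtain ⟨ha', ha⟩ := ha
        obtain ⟨hb', hb⟩ := hb
        exact ⟨mul_mem ha' hb', fun m => by
          rw [show (⟨a * b, mul_mem ha' hb'⟩ : J) = ⟨a, ha'⟩ * ⟨b, hb'⟩ from rfl, hπmul, hb, ha]⟩
      inv_mem' := fun {a} ha => by
        obtain ⟨ha', ha⟩ := ha
        refine ⟨inv_mem ha', fun m => ?_⟩
        conv_lhs => rw [← ha m]
        rw [← hπmul, show (⟨a⁻¹, inv_mem ha'⟩ : J) * ⟨a, ha'⟩ = 1 from Subtype.ext (by simp), hπone] }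
  have hcl : ∀ (g : J), (∀ y (hy : y ∈ S) m,
      π g (π ⟨_, (hsmall y hy).1⟩ m) = π ⟨_, (hsmall y hy).1⟩ (π g m)) →
      ∀ h ∈ D0, ∃ hh : h ∈ J, ∀ m, π g (π ⟨h, hh⟩ m) = π ⟨h, hh⟩ (π g m) := by
    intro g hg h hh
    rw [hD0] at hh
    induction hh using Subgroup.closure_induction with
    | mem z hz =>
      obtain ⟨y, hy, rfl⟩ := hz
      exact ⟨_, hg y hy⟩
    | one => exact ⟨one_mem J, fun m => by rw [show (⟨1, one_mem J⟩ : J) = 1 from rfl, hπone, hπone]⟩
    | mul a b _ _ ha hb =>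
      obtain ⟨ha', ha⟩ := ha
      obtain ⟨hb', hb⟩ := hb
      refine ⟨mul_mem ha' hb', fun m => ?_⟩
      rw [show (⟨a * b, mul_mem ha' hb'⟩ : J) = ⟨a, ha'⟩ * ⟨b, hb'⟩ from rfl, hπmul, hπmul, ha, hb]
    | inv a _ ha =>
      obtain ⟨ha', ha⟩ := ha
      refine ⟨inv_mem ha', fun m => ?_⟩
      have key : ∀ x, π ⟨a⁻¹, inv_mem ha'⟩ (π ⟨a, ha'⟩ x) = x := fun x => by
        rw [← hπmul, show (⟨a⁻¹, inv_mem ha'⟩ : J) * ⟨a, ha'⟩ = 1 from Subtype.ext (by simp), hπone]
      have key' : ∀ x, π ⟨a, ha'⟩ (π ⟨a⁻¹, inv_mem ha'⟩ x) = x := fun x => by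
        rw [← hπmul, show (⟨a, ha'⟩ : J) * ⟨a⁻¹, inv_mem ha'⟩ = 1 from Subtype.ext (by simp), hπone]
      have h3 := congrArg (π ⟨a⁻¹, inv_mem ha'⟩) (ha (π ⟨a⁻¹, inv_mem ha'⟩ m))
      rw [key', key] at h3
      exact h3.symm
  have hC0K : C0 ≤ Ker := by
    rw [hC0, commutator_le]
    intro a ha b hb
    refine ⟨hD0J (mul_mem (mul_mem (mul_mem ha hb) (inv_mem ha)) (inv_mem hb)), fun m => ?_⟩
    have hab : ∀ x, π ⟨a, hD0J ha⟩ (π ⟨b, hD0J hb⟩ x) = π ⟨b, hD0J hb⟩ (π ⟨a, hD0J ha⟩ x) := by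
      obtain ⟨hb', hb2⟩ := hcl ⟨a, hD0J ha⟩ (fun y hy x => by
        obtain ⟨ha', ha2⟩ := hcl ⟨_, (hsmall y hy).1⟩ (fun y' hy' x => hpair y hy y' hy' x) a ha
        exact (ha2 x).symm) b hb
      exact hb2
    have e : (⟨⁅a, b⁆, hD0J (mul_mem (mul_mem (mul_mem ha hb) (inv_mem ha)) (inv_mem hb))⟩ : J) =
        ⟨a, hD0J ha⟩ * ⟨b, hD0J hb⟩ * ⟨a, hD0J ha⟩⁻¹ * ⟨b, hD0J hb⟩⁻¹ := rfl
    rw [e, hπmul, hπmul, hπmul, hab, ← hπmul ⟨a, hD0J ha⟩, mul_inv_cancel, hπone, ← hπmul,
      mul_inv_cancel, hπone]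
  obtain ⟨hcJ, hcK⟩ := hC0K hc
  have h1 := hcK (QuotientGroup.mk ⟨t0, ht0⟩)
  rw [hπmk, ← div_eq_one, ← QuotientGroup.mk_div, QuotientGroup.eq_one_iff, mem_subgroupOf] at h1
  have h2 : uu ∈ N0 := by rwa [div_eq_mul_inv] at h1
  -- a scalar has trivial commutators
  obtain ⟨-, a, ha⟩ := h2
  apply hχ1
  have h3 : ρ d0 v = v := by
    have hw : ρ (t1⁻¹) v ∈ W := (hTG0 ht1).2.2 v hvW
    have h4 : ρ uu⁻¹ (ρ t1⁻¹ v) = ρ t1⁻¹ (ρ uu⁻¹ v) := by
      have hinv : ∀ w ∈ W, ρ uu⁻¹ w = a⁻¹ • w := fun w hw => by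
        have h5 : ρ uu⁻¹ (ρ uu w) = w := by
          rw [← Module.End.mul_apply, ← map_mul, inv_mul_cancel, map_one, Module.End.one_apply]
        rw [ha w hw, map_smul] at h5
        by_cases ha0 : a = 0
        · rw [ha0, zero_smul] at h5
          rw [← h5, map_zero, smul_zero]
        · conv_rhs => rw [← h5]
          rw [smul_smul, inv_mul_cancel₀ ha0, one_smul]
      rw [hinv _ hw, hinv v hvW, map_smul]
    rw [hd0def, map_mul, map_mul, map_mul, Module.End.mul_apply, Module.End.mul_apply,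
      Module.End.mul_apply, h4, ← Module.End.mul_apply (ρ t1), ← map_mul, mul_inv_cancel, map_one,
      Module.End.one_apply, ← Module.End.mul_apply, ← map_mul, mul_inv_cancel, map_one,
      Module.End.one_apply]
  have h5 := hχ _ hd0
  rw [h3] at h5
  have h6 : χ d0 = 1 := smul_left_injective k hv0 (h5.symm.trans (one_smul k v).symm)
  simpa [χ, dif_pos hd0] using h6

end Cfsg.Agent.HallHigman
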