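import Cfsg.Agent.Lib.HallHigman.Exceptional
import Cfsg.Agent.Lib.HallHigman.PLength

/-!
# The bound `2 e` on the `p`-length
-/

set_option autoImplicit false
set_option linter.unusedSectionVars false
set_option linter.style.haveILetI false

namespace Cfsg.Agent.HallHigman

open Module Subgroup
open scoped IsMulCommutative TensorProduct

universe u

/-- `commute_top_powers` over any field. -/
theorem commute_top_powers_field {F : Type*} [Field F] {p : ℕ} [hp : Fact p.Prime] [CharP F p]
    (hp2 : p ≠ 2) {H : Type u} [Group H] [Finite H] {V : Type*} [AddCommGroup V] [Module F V]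
    [FiniteDimensional F V] (ρ : H →* Module.End F V) (hρ : Function.Injective ρ)
    (hsol : IsPSolvable p H) (hO : pCore p H = ⊥) (S : Subgroup H) (hS : IsPGroup p S) {e : ℕ}
    (he : 1 ≤ e) (hexp : ∀ y ∈ S, y ^ p ^ e = 1)
    (hbad : ∀ y ∈ S, (ρ y - 1) ^ (p ^ e - 1) = 0) :
    ∀ y ∈ S, ∀ y' ∈ S, Commute (y ^ p ^ (e - 1)) (y' ^ p ^ (e - 1)) := by
  classical
  let k := AlgebraicClosure F
  haveI : CharP k p := charP_of_injective_algebraMap (algebraMap F k).injective p
  let ρ' : H →* Module.End k (k ⊗[F] V) :=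
    { toFun := fun g => LinearMap.baseChange k (ρ g)
      map_one' := by rw [map_one, Module.End.one_eq_id, LinearMap.baseChange_id]; rfl
      map_mul' := fun a b => by
        rw [map_mul, Module.End.mul_eq_comp, LinearMap.baseChange_comp]; rfl }
  let b := Module.finBasis F V
  have hinj : ∀ f g : V →ₗ[F] V, f.baseChange k = g.baseChange k → f = g := by
    intro f g h
    refine b.ext fun i => b.repr.injective (Finsupp.ext fun j => ?_)
    have h2 := congrArg (fun T => (b.baseChange k).repr (T (1 ⊗ₜ[F] b i)) j) h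
    simp only [LinearMap.baseChange_tmul, Module.Basis.baseChange_repr_tmul, Algebra.smul_def,
      mul_one] at h2
    exact (algebraMap F k).injective h2
  have hpow : ∀ (x : H) (m : ℕ), (ρ' x - 1) ^ m = ((ρ x - 1) ^ m).baseChange k := by
    intro x m
    induction m with
    | zero => rw [pow_zero, pow_zero, Module.End.one_eq_id, Module.End.one_eq_id,
        LinearMap.baseChange_id]
    | succ m ih =>
      rw [pow_succ, pow_succ, ih, Module.End.mul_eq_comp, Module.End.mul_eq_comp,
        LinearMap.baseChange_comp, LinearMap.baseChange_sub, Module.End.one_eq_id,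
        Module.End.one_eq_id, LinearMap.baseChange_id]
      rfl
  refine commute_top_powers hp2 ρ' (fun a b h => hρ (hinj _ _ h)) hsol hO S hS he hexp fun y hy => ?_
  rw [hpow, hbad y hy, LinearMap.baseChange_zero]

variable {p : ℕ} [hp : Fact p.Prime]

/-- The numerical fact behind the bound. -/
theorem two_step_bound (hp2 : p ≠ 2) {e n₀ : ℕ} (h1 : 1 ≤ n₀) (h2 : n₀ ≤ e) :
    2 * p ^ (e - 1) - 1 ≤ p ^ (e - n₀) * (p ^ n₀ - 1) - 1 := by
  have h3 : 3 ≤ p := by have := hp.out.two_le; omega
  rw [Nat.mul_sub_one, ← pow_add, Nat.sub_add_cancel h2]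
  have ha : p ^ (e - n₀) ≤ p ^ (e - 1) := Nat.pow_le_pow_right hp.out.pos (by omega)
  have hb : 3 * p ^ (e - 1) ≤ p ^ e := by
    calc 3 * p ^ (e - 1) ≤ p * p ^ (e - 1) := Nat.mul_le_mul_right _ h3
      _ = p ^ e := by rw [← pow_succ', show e - 1 + 1 = e by omega]
  omega

/-- Two steps of the upper series lower the exponent. -/
theorem exponent_drop_two (hp2 : p ≠ 2) {G : Type u} [Group G] [Finite G] (hsol : IsPSolvable p G)
    (hO : pPrimeCore p G = ⊥) (S : Sylow p G) {e : ℕ} (he : 1 ≤ e)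
    (hexp : ∀ x ∈ (S : Subgroup G), x ^ p ^ e = 1) :
    ∀ x ∈ (S : Subgroup G),
      QuotientGroup.mk' (pPrimeCore p (G ⧸ pCore p G)) (QuotientGroup.mk' (pCore p G) x) ^
          p ^ (e - 1) ∈ pCore p ((G ⧸ pCore p G) ⧸ pPrimeCore p (G ⧸ pCore p G)) := by
  classical
  haveI : (pCore p G).Normal := Basics.pCore_normal p
  set H := G ⧸ pCore p G
  haveI : (pPrimeCore p H).Normal := Basics.pPrimeCore_normal p
  set G2 := H ⧸ pPrimeCore p H
  haveI : (pCore p G2).Normal := Basics.pCore_normal p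
  set f1 := QuotientGroup.mk' (pCore p G)
  set f2 := QuotientGroup.mk' (pPrimeCore p H)
  have hf1 := QuotientGroup.mk'_surjective (pCore p G)
  have hf2 := QuotientGroup.mk'_surjective (pPrimeCore p H)
  have hsolH : IsPSolvable p H := Coprime23.isPSolvable_map f1 hf1 hsol
  -- the top powers commute in `H`
  have hcX := Transfer.centralizer_pCore_le_of_pSolvable hO (Transfer.isPSolvable_subgroup' hsol _)
  let ρ : H →* Module.End (ZMod p) (Additive ↥(coreModule p G)) :=
    QuotientGroup.lift (pCore p G) (coreRep p G) fun g hg =>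
      MonoidHom.mem_ker.mpr ((coreRep_eq_one_iff hcX g).mpr hg)
  have hρ : Function.Injective ρ := by
    refine (injective_iff_map_eq_one ρ).mpr fun g hg => ?_
    induction g using QuotientGroup.induction_on with
    | H g => exact (QuotientGroup.eq_one_iff g).mpr ((coreRep_eq_one_iff hcX g).mp hg)
  haveI : FiniteDimensional (ZMod p) (Additive ↥(coreModule p G)) := Module.Finite.of_finite
  have hcomm : ∀ y ∈ (S.mapSurjective hf1 : Subgroup H), ∀ y' ∈ (S.mapSurjective hf1 : Subgroup H),
      Commute (y ^ p ^ (e - 1)) (y' ^ p ^ (e - 1)) := by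
    refine commute_top_powers_field hp2 ρ hρ hsolH (Basics.pCore_quotient_eq_bot p) _
      (S.mapSurjective hf1).isPGroup' he ?_ ?_
    · rintro _ ⟨x, hx, rfl⟩
      rw [← map_pow, hexp x hx, map_one]
    · rintro _ ⟨x, hx, rfl⟩
      by_contra hne
      obtain ⟨g, hg, hg1⟩ := exists_pow_ne_one_of_degree (x := x) hne S hx
      exact hg1 (hexp g hg)
  -- in `G2`
  set S2 : Sylow p G2 := (S.mapSurjective hf1).mapSurjective hf2
  have hO2 : pPrimeCore p G2 = ⊥ := Basics.pPrimeCore_quotient_eq_bot p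
  have hexp2 : ∀ x ∈ (S2 : Subgroup G2), x ^ p ^ e = 1 := by
    rintro _ ⟨_, ⟨x, hx, rfl⟩, rfl⟩
    rw [← map_pow, ← map_pow, hexp x hx, map_one, map_one]
  have hcomm2 : ∀ y ∈ (S2 : Subgroup G2), ∀ y' ∈ (S2 : Subgroup G2),
      Commute (y ^ p ^ (e - 1)) (y' ^ p ^ (e - 1)) := by
    rintro _ ⟨y, hy, rfl⟩ _ ⟨y', hy', rfl⟩
    rw [← map_pow, ← map_pow]
    exact (hcomm y hy y' hy').map f2
  intro x hx
  set y := f2 (f1 x)
  have hy : y ∈ (S2 : Subgroup G2) := ⟨_, ⟨x, hx, rfl⟩, rfl⟩
  by_contra hxe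
  set m := p ^ (e - 1) with hm
  -- so the degree of `y` is at most `2 m - 1`
  have hdeg : (coreRep p G2 y - 1) ^ (2 * m - 1) = 0 := by
    refine LinearMap.ext fun v => ?_
    obtain ⟨a, ha, hav⟩ := v.toMul.2
    have hvs : v = Additive.ofMul (⟨QuotientGroup.mk' _ a, mem_map_of_mem _ ha⟩ : coreModule p G2) :=
      Additive.toMul.injective (Subtype.ext hav.symm)
    have hc := (hcomm2 _ (mul_mem (Basics.pCore_le_sylow p S2 ha) hy) y hy).map
      (QuotientGroup.mk' (phiCore p G2))
    rw [mk_mul_pow y a ha m] at hc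
    set s := ∑ i ∈ Finset.range m, (coreRep p G2 y ^ i)
      (Additive.ofMul (⟨QuotientGroup.mk' _ a, mem_map_of_mem _ ha⟩ : coreModule p G2)) with hs
    have hs1 : s = ((coreRep p G2 y - 1) ^ (m - 1)) v := by
      rw [hs, hm, ← LinearMap.sum_apply, ← sub_one_pow_pred (k := ZMod p), hvs]
    have hfix : coreRep p G2 (y ^ m) s = s := by
      refine Additive.toMul.injective (Subtype.ext ?_)
      rw [coreRep_apply]
      have h := hc.eq
      rw [mul_inv_eq_iff_eq_mul]
      refine mul_right_cancel (b := QuotientGroup.mk' (phiCore p G2) (y ^ m)) ?_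
      exact (mul_assoc _ _ _).trans h.symm
    have hsm : ((coreRep p G2 y - 1) ^ m) s = 0 := by
      rw [hm, sub_one_pow_eq_pow_sub_one (k := ZMod p), ← map_pow, ← hm, LinearMap.sub_apply,
        hfix, Module.End.one_apply, sub_self]
    rw [hs1, ← Module.End.mul_apply, ← pow_add] at hsm
    have hm1 : 1 ≤ m := Nat.one_le_pow _ _ hp.out.pos
    rw [show 2 * m - 1 = m + (m - 1) by omega, hsm]
    rfl
  have hcX2 := Transfer.centralizer_pCore_le_of_pSolvable hO2
    (Transfer.isPSolvable_subgroup' (Coprime23.isPSolvable_map f2 hf2 hsolH) _)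
  let ρ2 : G2 ⧸ pCore p G2 →* Module.End (ZMod p) (Additive ↥(coreModule p G2)) :=
    QuotientGroup.lift (pCore p G2) (coreRep p G2) fun g hg =>
      MonoidHom.mem_ker.mpr ((coreRep_eq_one_iff hcX2 g).mpr hg)
  have hρ2 : Function.Injective ρ2 := by
    refine (injective_iff_map_eq_one ρ2).mpr fun g hg => ?_
    induction g using QuotientGroup.induction_on with
    | H g => exact (QuotientGroup.eq_one_iff g).mpr ((coreRep_eq_one_iff hcX2 g).mp hg)
  haveI : FiniteDimensional (ZMod p) (Additive ↥(coreModule p G2)) := Module.Finite.of_finite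
  have hord : orderOf (QuotientGroup.mk' (pCore p G2) y) = p ^ e := by
    have hd : orderOf (QuotientGroup.mk' (pCore p G2) y) ∣ p ^ e :=
      orderOf_dvd_of_pow_eq_one (by rw [← map_pow, hexp2 y hy, map_one])
    obtain ⟨n, hn, hn'⟩ := (Nat.dvd_prime_pow hp.out).mp hd
    rw [hn']
    congr 1
    by_contra hne
    refine hxe ((QuotientGroup.eq_one_iff _).mp ?_)
    rw [QuotientGroup.mk_pow]
    exact orderOf_dvd_iff_pow_eq_one.mp (hn'.symm ▸ (hm ▸ pow_dvd_pow p (by omega) : p ^ n ∣ m))
  rcases hall_higman_B_field (H := G2 ⧸ pCore p G2) ρ2 hρ2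
      (Coprime23.isPSolvable_map (QuotientGroup.mk' (pCore p G2)) (QuotientGroup.mk'_surjective _)
        (Coprime23.isPSolvable_map f2 hf2 hsolH))
      (Basics.pCore_quotient_eq_bot p) _ hord he with
    h | ⟨n₀, q, r, h1, h2, -, -, -, -, h7⟩
  · obtain ⟨g, hg, hg1⟩ := exists_pow_ne_one_of_degree (x := y) h S2 hy
    exact hg1 (hexp2 g hg)
  · exact h7 (pow_eq_zero_of_le (two_step_bound hp2 h1 h2) hdeg)

/-- The `p`-length is at most twice the exponent. -/
theorem pLengthLE_two_exponent (hp2 : p ≠ 2) : ∀ (N : ℕ) {G : Type u} [Group G] [Finite G],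
    Nat.card G = N → IsPSolvable p G → ∀ (S : Sylow p G) (e : ℕ),
      (∀ x ∈ (S : Subgroup G), x ^ p ^ e = 1) → PLengthLE p (2 * e) G := by
  intro N
  induction N using Nat.strong_induction_on with
  | _ N ih =>
  intro G _ _ hN hsol S e hexp
  rcases subsingleton_or_nontrivial G with hs | hnt
  · exact Subsingleton.elim _ _
  by_cases hO : pPrimeCore p G = ⊥
  swap
  · haveI : (pPrimeCore p G).Normal := Basics.pPrimeCore_normal p
    have hsurj := QuotientGroup.mk'_surjective (pPrimeCore p G)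
    refine Coprime23.pLengthLE_of_quotient_coprime (Basics.pPrimeCore_coprime p)
      (ih _ (hN ▸ Basics.card_quotient_lt hO) rfl (Coprime23.isPSolvable_map _ hsurj hsol)
        (S.mapSurjective hsurj) e ?_)
    rintro _ ⟨x, hx, rfl⟩
    rw [← map_pow, hexp x hx, map_one]
  haveI : (pCore p G).Normal := Basics.pCore_normal p
  have hne : pCore p G ≠ ⊥ := (Coprime23.exists_core_ne_bot hsol).resolve_right (not_not.mpr hO)
  rcases Nat.eq_zero_or_pos e with rfl | he
  · refine absurd (le_bot_iff.mp ((Basics.pCore_le_sylow p S).trans fun x hx => ?_)) hne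
    simpa using hexp x hx
  haveI : (pPrimeCore p (G ⧸ pCore p G)).Normal := Basics.pPrimeCore_normal p
  haveI : (pCore p ((G ⧸ pCore p G) ⧸ pPrimeCore p (G ⧸ pCore p G))).Normal :=
    Basics.pCore_normal p
  have hdrop := exponent_drop_two hp2 hsol hO S he hexp
  obtain ⟨e', rfl⟩ : ∃ e', e = e' + 1 := ⟨e - 1, by omega⟩
  have hsurj1 := QuotientGroup.mk'_surjective (pCore p G)
  have hsurj2 := QuotientGroup.mk'_surjective (pPrimeCore p (G ⧸ pCore p G))
  have hsurj3 := QuotientGroup.mk'_surjective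
    (pCore p ((G ⧸ pCore p G) ⧸ pPrimeCore p (G ⧸ pCore p G)))
  rw [show 2 * (e' + 1) = (2 * e' + 1) + 1 by ring]
  refine Coprime23.pLengthLE_succ_of_quotient_pCore hO
    (Coprime23.pLengthLE_of_quotient_coprime (Basics.pPrimeCore_coprime p)
      (Coprime23.pLengthLE_succ_of_quotient_pCore (Basics.pPrimeCore_quotient_eq_bot p)
        (ih _ (hN ▸ ?_) rfl
          (Coprime23.isPSolvable_map _ hsurj3 (Coprime23.isPSolvable_map _ hsurj2
            (Coprime23.isPSolvable_map _ hsurj1 hsol)))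
          (((S.mapSurjective hsurj1).mapSurjective hsurj2).mapSurjective hsurj3) e' ?_)))
  · rintro _ ⟨_, ⟨_, ⟨x, hx, rfl⟩, rfl⟩, rfl⟩
    rw [← map_pow]
    exact (QuotientGroup.eq_one_iff _).mpr (by simpa using hdrop x hx)
  · exact lt_of_le_of_lt (((Nat.card_le_card_of_surjective _ hsurj3)).trans
      (Nat.card_le_card_of_surjective _ hsurj2)) (Basics.card_quotient_lt hne)

end Cfsg.Agent.HallHigman
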