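import Cfsg.Agent.Lib.HallHigman.GrossSection

/-!
# The commutators centralize the invariant two-group
-/

set_option autoImplicit false
set_option linter.unusedSectionVars false
set_option linter.style.haveILetI false
set_option maxHeartbeats 1600000

namespace Cfsg.Agent.HallHigman

open Module Subgroup
open scoped commutatorElement IsMulCommutative

universe u v

theorem mem_normalizer_of_map_le {G : Type u} [Group G] [Finite G] {X : Subgroup G} {g : G}
    (h : X.map (MulAut.conj g : G →* G) ≤ X) : g ∈ normalizer (X : Set G) :=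
  mem_normalizer_iff_map_conj_eq.mpr
    (eq_of_le_of_card_ge h (card_map_of_injective (MulAut.conj g).injective).ge)

theorem commute_core {k : Type*} [Field k] [IsAlgClosed k] [CharP k 2] {H : Type u} [Group H]
    [Finite H] [Group.IsSolvable H] {V : Type v} [AddCommGroup V] [Module k V]
    [FiniteDimensional k V] (ρ : H →* Module.End k V) (hρ : Function.Injective ρ)
    (hO : pCore 2 H = ⊥) {e : ℕ} (he : 2 ≤ e)
    (hall : ∀ g : H, (∃ i, orderOf g = 2 ^ i) → g ^ 2 ^ e = 1 ∧ (ρ g - 1) ^ (2 ^ e - 1) = 0)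
    {r : ℕ} [hr : Fact r.Prime] (hr2 : r ≠ 2) (R E0 : Subgroup H) (hR : IsPGroup r R)
    (hE0 : IsPGroup 2 E0) (y : H) (hy : ∃ i, orderOf y = 2 ^ i)
    (hyR : y ∈ normalizer (R : Set H)) (hyE : y ∈ normalizer (E0 : Set H))
    (hRE : R ≤ normalizer (E0 : Set H)) (hRz : ⁅R, zpowers (y ^ 2 ^ (e - 1))⁆ = R)
    (hD : ∀ g ∈ R, ∀ h ∈ R, ∀ l ∈ R, ⁅⁅g, h⁆, l⁆ ∈ centralizer (E0 : Set H))
    (hDz : ∀ g ∈ R, ∀ h ∈ R, ⁅⁅g, h⁆, y ^ 2 ^ (e - 1)⁆ ∈ centralizer (E0 : Set H)) :
    ∀ a ∈ R, y ^ 2 ^ (e - 1) * a * (y ^ 2 ^ (e - 1))⁻¹ = a⁻¹ →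
      ⁅a, y ^ 2 ^ (e - 2) * a * (y ^ 2 ^ (e - 2))⁻¹⁆ ∈ centralizer (E0 : Set H) := by
  classical
  haveI : Fact (Nat.Prime 2) := ⟨Nat.prime_two⟩
  obtain ⟨hyN, hybad⟩ := hall y hy
  set z := y ^ 2 ^ (e - 1) with hz
  set u := y ^ 2 ^ (e - 2) with hu
  have huu : u * u = z := by
    rw [hu, hz, ← pow_two, ← pow_mul, ← pow_succ]; congr 2; omega
  have hzz : z * z = 1 := by
    rw [hz, ← pow_two, ← pow_mul, ← pow_succ, show e - 1 + 1 = e by omega, hyN]
  have huR : u ∈ normalizer (R : Set H) := pow_mem hyR _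
  set C' := R ⊓ centralizer (E0 : Set H) with hC'
  set Ig : Set H := {c | ∃ a ∈ R, z * a * z⁻¹ = a⁻¹ ∧ c = ⁅a, u * a * u⁻¹⁆}
  have hIR : ∀ a ∈ R, ⁅a, u * a * u⁻¹⁆ ∈ R := fun a ha => by
    rw [commutatorElement_def]
    exact mul_mem (mul_mem (mul_mem ha ((mem_normalizer_iff.mp huR a).mp ha)) (inv_mem ha))
      (inv_mem ((mem_normalizer_iff.mp huR a).mp ha))
  set K := closure (Ig ∪ (C' : Set H))
  have hKR : K ≤ R := by
    rw [closure_le]; rintro _ (⟨a, ha, -, rfl⟩ | h)
    · exact hIR a ha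
    · exact h.1
  have hyC : y ∈ normalizer (C' : Set H) :=
    inf_normalizer_le_normalizer_inf ⟨hyR, Basics.Carter.normalizer_centralizer hyE⟩
  have hRC : R ≤ normalizer (C' : Set H) := fun g hg =>
    inf_normalizer_le_normalizer_inf ⟨le_normalizer hg, Basics.Carter.normalizer_centralizer (hRE hg)⟩
  have hRK : R ≤ normalizer (K : Set H) := fun g hg => mem_normalizer_of_map_le (by
    rw [MonoidHom.map_closure, closure_le]
    rintro _ ⟨w, (⟨a, ha, hai, rfl⟩ | hw), rfl⟩
    · show g * ⁅a, u * a * u⁻¹⁆ * g⁻¹ ∈ K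
      rw [show g * ⁅a, u * a * u⁻¹⁆ * g⁻¹ = ⁅⁅a, u * a * u⁻¹⁆, g⁆⁻¹ * ⁅a, u * a * u⁻¹⁆ by
        simp only [commutatorElement_def]; group]
      have hua := (mem_normalizer_iff.mp huR a).mp ha
      refine mul_mem (inv_mem (subset_closure (Or.inr ⟨?_, hD a ha _ hua g hg⟩)))
        (subset_closure (Or.inl ⟨a, ha, hai, rfl⟩))
      exact commutator_le_self R (commutator_mem_commutator (hIR a ha) hg)
    · exact subset_closure (Or.inr ((mem_normalizer_iff.mp (hRC hg) w).mp hw)))
  have hyK : y ∈ normalizer (K : Set H) := mem_normalizer_of_map_le (by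
    rw [MonoidHom.map_closure, closure_le]
    rintro _ ⟨w, (⟨a, ha, hai, rfl⟩ | hw), rfl⟩
    · have hcz : ∀ n : ℕ, y * y ^ n = y ^ n * y := fun n => (Commute.self_pow y n).eq
      refine subset_closure (Or.inl ⟨y * a * y⁻¹, (mem_normalizer_iff.mp hyR a).mp ha, ?_, ?_⟩)
      · have h := congrArg (fun x => y * x * y⁻¹) hai
        rw [show z * (y * a * y⁻¹) * z⁻¹ = y * (z * a * z⁻¹) * y⁻¹ by
          rw [hz, ← mul_assoc, ← mul_assoc, ← hcz]; group]
        simpa [mul_assoc] using h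
      · show y * ⁅a, u * a * u⁻¹⁆ * y⁻¹ = _
        rw [show u * (y * a * y⁻¹) * u⁻¹ = y * (u * a * u⁻¹) * y⁻¹ by
          rw [hu, ← mul_assoc, ← mul_assoc, ← hcz]; group]
        simp only [commutatorElement_def]; group
    · exact subset_closure (Or.inr ((mem_normalizer_iff.mp hyC w).mp hw)))
  set X := ⁅E0, K⁆ with hXdef
  suffices hX : X = ⊥ by
    intro a ha hai
    refine mem_centralizer_iff.mpr fun x hx => ?_
    have h : ⁅x, ⁅a, u * a * u⁻¹⁆⁆ ∈ X :=
      commutator_mem_commutator hx (subset_closure (Or.inl ⟨a, ha, hai, rfl⟩))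
    rw [hX, mem_bot] at h
    exact (commutatorElement_eq_one_iff_commute.mp h).eq
  have hXE : X ≤ E0 := le_normalizer_iff_commutator_le_left.mp (hKR.trans hRE)
  have hmapX : ∀ g ∈ normalizer (E0 : Set H), g ∈ normalizer (K : Set H) →
      g ∈ normalizer (X : Set H) := fun g h1 h2 => mem_normalizer_iff_map_conj_eq.mpr (by
    rw [hXdef, map_commutator, mem_normalizer_iff_map_conj_eq.mp h1,
      mem_normalizer_iff_map_conj_eq.mp h2])
  have hEX : E0 ≤ normalizer (X : Set H) := fun g hg => mem_normalizer_of_map_le (by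
    rw [map_le_iff_le_comap]
    conv_lhs => rw [hXdef]
    rw [commutator_le]
    intro x hx w hw
    show g * ⁅x, w⁆ * g⁻¹ ∈ X
    rw [show g * ⁅x, w⁆ * g⁻¹ = ⁅g * x, w⁆ * ⁅g, w⁆⁻¹ by simp only [commutatorElement_def]; group]
    exact mul_mem (commutator_mem_commutator (mul_mem hg hx) hw)
      (inv_mem (commutator_mem_commutator hg hw)))
  have hRX : R ≤ normalizer (X : Set H) := fun g hg => hmapX g (hRE hg) (hRK hg)
  have hyX : y ∈ normalizer (X : Set H) := hmapX y hyE hyK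
  have hX2 : IsPGroup 2 X := hE0.to_le hXE
  by_contra hXne
  -- a section not centralized
  obtain ⟨q, hq, hq2, hqT⟩ : ∃ q, q.Prime ∧ q ≠ 2 ∧ ¬ X ≤ centralizer (pCore q H : Set H) := by
    by_contra hcon
    push Not at hcon
    have hF1 : fittingSubgroup H ≤ pPrimeCore 2 H := by
      rw [Basics.fittingSubgroup_eq_iSup_pCore]
      refine iSup_le fun q => ?_
      haveI := Fact.mk q.2
      rcases eq_or_ne (q : ℕ) 2 with h | h
      · rw [h, hO]; exact bot_le
      · haveI := Basics.pCore_normal (G := H) (q : ℕ)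
        obtain ⟨i, hi⟩ := (Basics.pCore_isPGroup (G := H) (q : ℕ)).exists_card_eq
        exact Basics.le_pPrimeCore (hi ▸ ((Nat.coprime_primes q.2 Nat.prime_two).mpr h).pow_left i)
    have hF2 : fittingSubgroup H ≤ centralizer (X : Set H) := by
      rw [Basics.fittingSubgroup_eq_iSup_pCore]
      refine iSup_le fun q => ?_
      rcases eq_or_ne (q : ℕ) 2 with h | h
      · rw [h, hO]; exact bot_le
      · exact Subgroup.le_centralizer_iff.mp (hcon q q.2 h)
    refine hXne (le_bot_iff.mp ((le_inf le_rfl (((Subgroup.le_centralizer_iff.mp hF2).trans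
      Basics.centralizer_fittingSubgroup_le).trans hF1)).trans (le_of_eq (inf_eq_bot_of_coprime ?_))))
    obtain ⟨i, hi⟩ := hX2.exists_card_eq
    rw [hi]
    exact (Basics.pPrimeCore_coprime (G := H) 2).symm.pow_left i
  haveI := Fact.mk hq
  haveI := Basics.pCore_normal (G := H) q
  obtain ⟨T, hTle, ⟨hT, hRT, hyT, hET, hTC⟩, hmin'⟩ := Finite.exists_le_minimal
    (p := fun T : Subgroup H => IsPGroup q T ∧ R ≤ normalizer (T : Set H) ∧
      y ∈ normalizer (T : Set H) ∧ E0 ≤ normalizer (T : Set H) ∧ ¬ X ≤ centralizer (T : Set H))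
    (a := pCore q H) ⟨Basics.pCore_isPGroup q, by rw [normalizer_eq_top]; exact le_top,
      by rw [normalizer_eq_top]; trivial, by rw [normalizer_eq_top]; exact le_top, hqT⟩
  have hmin : ∀ T' : Subgroup H, T' ≤ T → R ≤ normalizer (T' : Set H) →
      y ∈ normalizer (T' : Set H) → E0 ≤ normalizer (T' : Set H) → T' ≠ T →
      X ≤ centralizer (T' : Set H) := by
    intro T' h1 h2 h3 h4 h5
    by_contra h
    exact h5 (le_antisymm h1 (hmin' ⟨hT.to_le h1, h2, h3, h4, h⟩ h1))
  haveI : Group.IsNilpotent T := hT.isNilpotent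
  have hXT : X ≤ normalizer (T : Set H) := hXE.trans hET
  have hcast : ∀ a ∈ T, (orderOf a : k) ≠ 0 := by
    intro a ha
    obtain ⟨i, hi⟩ := IsPGroup.iff_orderOf.mp hT ⟨a, ha⟩
    rw [Subgroup.orderOf_mk] at hi
    rw [hi, Ne, CharP.cast_eq_zero_iff k 2]
    exact fun h => hq2 ((Nat.prime_dvd_prime_iff_eq Nat.prime_two hq).mp
      (Nat.prime_two.dvd_of_dvd_pow h)).symm
  have habel : ∀ A : Subgroup H, A ≤ T → R ≤ normalizer (A : Set H) →
      y ∈ normalizer (A : Set H) → E0 ≤ normalizer (A : Set H) →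
      (∀ a ∈ A, ∀ b ∈ A, a * b = b * a) →
      z ∈ centralizer (A : Set H) ∧ R ≤ centralizer (A : Set H) ∧ X ≤ centralizer (A : Set H) := by
    intro A hA hRA hyA hEA hAc
    have hzA : z ∈ centralizer (A : Set H) := by
      by_contra hne
      rw [mem_centralizer_iff] at hne
      push Not at hne
      obtain ⟨a, ha, hne⟩ := hne
      exact full_degree_of_abelian (p := 2) ρ A y hyA hyN
        (fun a ha b hb => (show Commute a b from hAc a ha b hb).map ρ) (fun a ha => hcast a (hA ha))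
        ⟨a, ha, fun h => hne (mul_inv_eq_iff_eq_mul.mp (hρ h)).symm⟩ hybad
    have hRA' : R ≤ centralizer (A : Set H) := by
      conv_lhs => rw [← hRz]
      rw [commutator_le]
      intro g hg w hw
      have hw' : w ∈ centralizer (A : Set H) := zpowers_le.mpr hzA hw
      rw [commutatorElement_def]
      exact mul_mem ((mem_normalizer_iff.mp (Basics.Carter.normalizer_centralizer (hRA hg)) w).mp hw')
        (inv_mem hw')
    refine ⟨hzA, hRA', ?_⟩
    rw [hXdef, commutator_le]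
    intro g hg w hw
    have hw' : w ∈ centralizer (A : Set H) := hRA' (hKR hw)
    rw [commutatorElement_def]
    exact mul_mem ((mem_normalizer_iff.mp (Basics.Carter.normalizer_centralizer (hEA hg)) w).mp hw')
      (inv_mem hw')
  have hcopX : (Nat.card X).Coprime (Nat.card T) := by
    obtain ⟨i, hi⟩ := hX2.exists_card_eq
    obtain ⟨j, hj⟩ := hT.exists_card_eq
    rw [hi, hj]
    exact Nat.Coprime.pow i j ((Nat.coprime_primes Nat.prime_two hq).mpr hq2.symm)
  have hTX : ⁅T, X⁆ = T := by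
    by_contra hne
    have hle : ⁅T, X⁆ ≤ T := le_normalizer_iff_commutator_le_left.mp hXT
    have hn : ∀ g ∈ normalizer (T : Set H), g ∈ normalizer (X : Set H) →
        g ∈ normalizer ((⁅T, X⁆ : Subgroup H) : Set H) := fun g h1 h2 =>
      mem_normalizer_iff_map_conj_eq.mpr (by
        rw [map_commutator, mem_normalizer_iff_map_conj_eq.mp h1, mem_normalizer_iff_map_conj_eq.mp h2])
    have h1 := hmin _ hle (fun g hg => hn g (hRT hg) (hRX hg)) (hn y hyT hyX)
      (fun g hg => hn g (hET hg) (hEX hg)) hne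
    have h2 : ⁅⁅T, X⁆, X⁆ = ⊥ :=
      commutator_eq_bot_iff_le_centralizer.mpr (Subgroup.le_centralizer_iff.mp h1)
    rw [Basics.commutator_commutator_eq X T hXT hcopX (Or.inr inferInstance),
      commutator_eq_bot_iff_le_centralizer] at h2
    exact hTC (Subgroup.le_centralizer_iff.mp h2)
  set Φ : Subgroup H := (frattini T).map T.subtype with hΦ
  have hΦT : Φ ≤ T := map_subtype_le _
  have hTne : Nontrivial T := by
    rw [nontrivial_iff_ne_bot]
    rintro rfl
    apply hTC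
    intro g _ x hx
    rw [SetLike.mem_coe, mem_bot] at hx
    rw [hx, one_mul, mul_one]
  have hΦne : Φ ≠ T := by
    intro h
    have h1 : frattini T = ⊤ := by
      refine map_injective T.subtype_injective ?_
      rw [← MonoidHom.range_eq_map, range_subtype]
      exact h
    exact (bot_ne_top (α := Subgroup T)) (frattini_nongenerating (by rw [h1, bot_sup_eq]))
  have hnΦ : normalizer (T : Set H) ≤ normalizer (Φ : Set H) :=
    LocalEvenA.normalizer_le_normalizer_map_char _
  have hΦC := hmin Φ hΦT (hRT.trans hnΦ) (hnΦ hyT) (hET.trans hnΦ) hΦne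
  have hΦn : ⁅Φ, T⁆ ≤ Φ := le_normalizer_iff_commutator_le_left.mp (le_normalizer.trans hnΦ)
  have hΦZ : Φ ≤ centralizer (T : Set H) := by
    have h1 : ⁅⁅X, Φ⁆, T⁆ = ⊥ := by
      rw [commutator_eq_bot_iff_le_centralizer.mpr hΦC, commutator_bot_left]
    have h2 : ⁅⁅Φ, T⁆, X⁆ = ⊥ :=
      commutator_eq_bot_iff_le_centralizer.mpr (hΦn.trans (Subgroup.le_centralizer_iff.mp hΦC))
    have h3 := commutator_commutator_eq_bot_of_rotate h1 h2
    rw [hTX, commutator_eq_bot_iff_le_centralizer] at h3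
    exact Subgroup.le_centralizer_iff.mp h3
  set Z0 := T ⊓ centralizer (T : Set H) with hZ0
  have hnZ0 : normalizer (T : Set H) ≤ normalizer (Z0 : Set H) := fun s hs =>
    inf_normalizer_le_normalizer_inf ⟨hs, Basics.Carter.normalizer_centralizer hs⟩
  obtain ⟨hzZ, hRZ, hXZ⟩ := habel Z0 inf_le_left (hRT.trans hnZ0) (hnZ0 hyT) (hET.trans hnZ0)
    fun a ha b hb => (mem_centralizer_iff.mp (mem_inf.mp hb).2) a (mem_inf.mp ha).1
  have hΦZ0 : Φ ≤ Z0 := le_inf hΦT hΦZ
  have hcommT : ∀ s ∈ T, ∀ t ∈ T, ⁅s, t⁆ ∈ Φ := fun s hs t ht =>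
    ⟨⁅(⟨s, hs⟩ : T), ⟨t, ht⟩⁆,
      Basics.commutator_le_frattini (commutator_mem_commutator (mem_top _) (mem_top _)), rfl⟩
  obtain ⟨s0, hs0, t0, ht0, hd0⟩ : ∃ s ∈ T, ∃ t ∈ T, ⁅s, t⁆ ≠ 1 := by
    by_contra h
    push Not at h
    exact hTC (habel T le_rfl hRT hyT hET fun a ha b hb =>
      (commutatorElement_eq_one_iff_commute.mp (h a ha b hb)).eq).2.2
  obtain ⟨χ, -, ⟨v0, hvW, hv0⟩, hχ1⟩ := exists_char_ne ρ Z0
    (fun a ha b hb => (show Commute a b from
      (mem_centralizer_iff.mp (mem_inf.mp hb).2) a (mem_inf.mp ha).1).map ρ)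
    (hΦZ0 (hcommT s0 hs0 t0 ht0)) (fun h => hd0 (hρ (h.trans (map_one ρ).symm)))
    (hcast _ (hΦT (hcommT s0 hs0 t0 ht0)))
  set W := eigW ρ Z0 χ with hW
  let G0 : Subgroup H :=
    { carrier := {g | g ∈ normalizer (T : Set H) ∧ (∀ w ∈ W, ρ g w ∈ W) ∧ ∀ w ∈ W, ρ g⁻¹ w ∈ W}
      one_mem' := ⟨one_mem _, fun w hw => by simpa using hw, fun w hw => by simpa using hw⟩
      mul_mem' := fun {a b} ha hb => ⟨mul_mem ha.1 hb.1, fun w hw => by
        rw [map_mul]; exact ha.2.1 _ (hb.2.1 w hw), fun w hw => by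
        rw [mul_inv_rev, map_mul]; exact hb.2.2 _ (ha.2.2 w hw)⟩
      inv_mem' := fun {a} ha => ⟨inv_mem ha.1, ha.2.2, by rw [inv_inv]; exact ha.2.1⟩ }
  have hmemG0 : ∀ g ∈ normalizer (T : Set H), g ∈ centralizer (Z0 : Set H) → g ∈ G0 :=
    fun g hg hc => ⟨hg, eigW_invariant ρ Z0 χ (hnZ0 hg) fun a ha => by
      rw [← (mem_centralizer_iff.mp hc) a ha, mul_inv_cancel_right]⟩
  have hTG : T ≤ G0 := fun t ht => hmemG0 t (le_normalizer ht) (mem_centralizer_iff.mpr fun a ha =>
    ((mem_centralizer_iff.mp (mem_inf.mp ha).2) t ht).symm)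
  have hRG : R ≤ G0 := fun g hg => hmemG0 g (hRT hg) (hRZ hg)
  have hXG : X ≤ G0 := fun g hg => hmemG0 g (hXT hg) (hXZ hg)
  have hzG : z ∈ G0 := hmemG0 z (pow_mem hyT _) hzZ
  obtain ⟨j, hj, hχy, hbadW⟩ := descend (p := 2) ρ Z0 χ y (show 1 ≤ e by omega) (hnZ0 hyT) hyN hybad
    fun a ha => by rw [← hz, ← (mem_centralizer_iff.mp hzZ) a ha, mul_inv_cancel_right]
  have hy'G : y ^ 2 ^ j ∈ G0 := ⟨pow_mem hyT _, eigW_invariant ρ Z0 χ (pow_mem (hnZ0 hyT) _) hχy⟩
  let ρW : G0 →* Module.End k W :=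
    { toFun := fun g => (ρ (g : H)).restrict g.2.2.1
      map_one' := LinearMap.ext fun w => Subtype.ext (by simp)
      map_mul' := fun a b => LinearMap.ext fun w => Subtype.ext (by simp [map_mul]) }
  have hρW : ∀ (g : G0) (w : W), ((ρW g w : W) : V) = ρ (g : H) w := fun g w => rfl
  set T0 := T.subgroupOf G0
  haveI : T0.Normal := ⟨fun x hx g => mem_subgroupOf.mpr (by
    push_cast
    exact (mem_normalizer_iff.mp g.2.1 _).mp (mem_subgroupOf.mp hx))⟩
  let N : Subgroup G0 :=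
    { carrier := {t | t ∈ T0 ∧ ∃ a : k, ρW t = a • 1}
      one_mem' := ⟨one_mem _, 1, by rw [map_one, one_smul]⟩
      mul_mem' := fun {a b} ha hb => by
        obtain ⟨ha', x, hx⟩ := ha
        obtain ⟨hb', x', hx'⟩ := hb
        exact ⟨mul_mem ha' hb', x * x', by
          rw [map_mul, hx, hx', smul_mul_assoc, one_mul, smul_smul]⟩
      inv_mem' := fun {a} ha => by
        obtain ⟨ha', x, hx⟩ := ha
        refine ⟨inv_mem ha', x⁻¹, ?_⟩
        have h1 : ρW a⁻¹ * ρW a = 1 := by rw [← map_mul, inv_mul_cancel, map_one]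
        rw [hx, mul_smul_comm, mul_one] at h1
        by_cases hx0 : x = 0
        · rw [hx0, zero_smul] at h1
          haveI := subsingleton_of_zero_eq_one h1
          exact Subsingleton.elim _ _
        · rw [← h1, smul_smul, inv_mul_cancel₀ hx0, one_smul] }
  haveI : N.Normal := ⟨fun t ht g => by
    obtain ⟨ht', a, ha⟩ := ht
    exact ⟨Subgroup.Normal.conj_mem inferInstance _ ht' g, a, by
      rw [map_mul, map_mul, ha, mul_smul_comm, mul_one, smul_mul_assoc, ← map_mul, mul_inv_cancel,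
        map_one]⟩⟩
  have hΦN : ∀ (g : G0), (g : H) ∈ Φ → g ∈ N := fun g hg =>
    ⟨mem_subgroupOf.mpr (hΦT hg), χ (g : H), LinearMap.ext fun w => Subtype.ext (by
      rw [hρW]; exact w.2 _ (hΦZ0 hg))⟩
  have hexact : ∀ s ∈ T, ∀ t ∈ T, ⁅s, t⁆ ^ q = 1 := by
    intro s hs t ht
    have hc : ∀ g : T, Commute ⁅(⟨s, hs⟩ : T), ⟨t, ht⟩⁆ g := fun g => Subtype.ext
      ((mem_centralizer_iff.mp (hΦZ (hcommT s hs t ht))) g g.2).symm
    have hsq : Commute ((⟨s, hs⟩ : T) ^ q) ⟨t, ht⟩ := Subtype.ext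
      ((mem_centralizer_iff.mp (hΦZ ⟨_, Basics.pow_mem_frattini hT (⟨s, hs⟩ : T), rfl⟩)) t ht).symm
    have h := pow_in_commutator hc q
    rw [commutatorElement_eq_one_iff_commute.mpr hsq] at h
    exact congrArg Subtype.val h.symm
  obtain ⟨f, hf1, hjf⟩ : ∃ f, 1 ≤ f ∧ j + f = e := ⟨e - j, by omega, by omega⟩
  have hy'z : (y ^ 2 ^ j) ^ 2 ^ (f - 1) = z := by
    rw [hz, ← pow_mul, ← pow_add]; congr 2; omega
  obtain ⟨M, iM1, iM2, iM3, φ, hker, hsmall⟩ := section_small (k := k) hq2 ρW T0 N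
    hT.comap_subtype (fun _ h => h.1)
    (fun t ht => ⟨fun h => h.2, fun h => ⟨ht, h⟩⟩)
    (fun s hs t ht => hΦN _ (by
      rw [show ((⁅s, t⁆ : G0) : H) = ⁅(s : H), (t : H)⁆ by simp [commutatorElement_def]]
      exact hcommT _ (mem_subgroupOf.mp hs) _ (mem_subgroupOf.mp ht)))
    (fun t ht => hΦN _ (by
      rw [SubgroupClass.coe_pow]
      exact ⟨_, Basics.pow_mem_frattini hT (⟨(t : H), mem_subgroupOf.mp ht⟩ : T), rfl⟩))
    (fun s hs t ht => by
      rw [← map_pow, show ⁅s, t⁆ ^ q = 1 from Subtype.ext (by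
        simpa [commutatorElement_def] using hexact _ (mem_subgroupOf.mp hs) _ (mem_subgroupOf.mp ht)),
        map_one])
    ⟨_, hy'G⟩ hf1 (Subtype.ext (by
      rw [SubgroupClass.coe_pow, OneMemClass.coe_one]
      show (y ^ 2 ^ j) ^ 2 ^ f = 1
      rw [← pow_mul, ← pow_add, hjf, hyN]))
    (by
      have hsub : ∀ (m : ℕ) (w : W), (((ρW ⟨_, hy'G⟩ - 1) ^ m) w : V) =
          ((ρ (y ^ 2 ^ j) - 1) ^ m) (w : V) := by
        intro m
        induction m with
        | zero => intro w; rfl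
        | succ m ih =>
          intro w
          rw [pow_succ', pow_succ', Module.End.mul_apply, Module.End.mul_apply, ← ih]
          rfl
      refine LinearMap.ext fun w => Subtype.ext ((hsub _ w).trans ?_)
      have h := hbadW w w.2
      rw [show e - j = f by omega] at h
      exact h)
  have hzy : (⟨y ^ 2 ^ j, hy'G⟩ : G0) ^ 2 ^ (f - 1) = ⟨z, hzG⟩ :=
    Subtype.ext (by rw [SubgroupClass.coe_pow]; exact hy'z)
  rw [hzy] at hsmall
  set π := φ.toHomUnits
  let Ker : Subgroup H := π.ker.map G0.subtype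
  have hmemKer : ∀ (g : H) (hg : g ∈ G0), g ∈ Ker ↔ φ ⟨g, hg⟩ = 1 := fun g hg => by
    constructor
    · rintro ⟨⟨g', hg'⟩, h, rfl⟩
      exact congrArg Units.val (MonoidHom.mem_ker.mp h)
    · exact fun h => ⟨⟨g, hg⟩, MonoidHom.mem_ker.mpr (Units.ext h), rfl⟩
  have hclaim : ∀ a (ha : a ∈ R), z * a * z⁻¹ = a⁻¹ → ∀ x (hx : x ∈ X),
      Commute (φ ⟨⁅a, u * a * u⁻¹⁆, hRG (hIR a ha)⟩) (φ ⟨x, hXG hx⟩) := by
    intro a ha hai x hx
    rcases hsmall with htriv | ⟨hf2, hq4, hqf, hrank, hscal⟩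
    · have hRker : R ≤ Ker := by
        conv_lhs => rw [← hRz]
        rw [commutator_le]
        intro g hg w hw
        obtain ⟨i, rfl⟩ := mem_zpowers_iff.mp hw
        refine ⟨⁅(⟨g, hRG hg⟩ : G0), (⟨z, hzG⟩ : G0) ^ i⁆, MonoidHom.mem_ker.mpr ?_,
          by simp [commutatorElement_def]⟩
        rw [map_commutatorElement, map_zpow, show π ⟨z, hzG⟩ = 1 from Units.ext htriv, one_zpow,
          commutatorElement_one_right]
      rw [(hmemKer _ _).mp (hRker (hIR a ha))]
      exact Commute.one_left _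
    · have huG : u ∈ G0 := by
        rw [hu, show 2 ^ (e - 2) = 2 ^ j * 2 ^ (f - 2) by rw [← pow_add]; congr 1; omega, pow_mul]
        exact pow_mem hy'G _
      have huv : (⟨u, huG⟩ : G0) * ⟨u, huG⟩ = ⟨z, hzG⟩ := Subtype.ext huu
      have d : PlaneData φ r (R.subgroupOf G0) (C'.subgroupOf G0) ⟨u, huG⟩ ⟨a, hRG ha⟩ :=
        { q3 := hq4
          qf := ⟨f, hqf⟩
          r2 := hr2
          hR := hR.comap_subtype
          aR := mem_subgroupOf.mpr ha
          u4 := Subtype.ext (by simpa [huu] using hzz)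
          uR := mem_normalizer_iff.mpr fun g => by
            simp only [mem_subgroupOf, Subgroup.coe_mul, Subgroup.coe_inv]
            exact mem_normalizer_iff.mp huR g
          cR := fun g hg => mem_subgroupOf.mpr (mem_inf.mp (mem_subgroupOf.mp hg)).1
          rc := fun g hg => mem_normalizer_iff.mpr fun l => by
            simp only [mem_subgroupOf, Subgroup.coe_mul, Subgroup.coe_inv]
            exact mem_normalizer_iff.mp (hRC (mem_subgroupOf.mp hg)) l
          uc := mem_normalizer_iff.mpr fun g => by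
            simp only [mem_subgroupOf, Subgroup.coe_mul, Subgroup.coe_inv]
            exact mem_normalizer_iff.mp (pow_mem hyC _) g
          hD := fun g hg h hh l hl => mem_subgroupOf.mpr (by
            rw [hC']
            refine ⟨?_, by simpa [commutatorElement_def] using hD _ hg _ hh _ hl⟩
            exact commutator_le_self R (by
              simpa [commutatorElement_def] using commutator_mem_commutator
                (commutator_le_self R (commutator_mem_commutator (mem_subgroupOf.mp hg)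
                  (mem_subgroupOf.mp hh))) (mem_subgroupOf.mp hl)))
          hDz := fun g hg h hh => mem_subgroupOf.mpr (by
            rw [hC', huv]
            have hgh : ⁅(g : H), (h : H)⁆ ∈ R :=
              commutator_le_self R (commutator_mem_commutator (mem_subgroupOf.mp hg) (mem_subgroupOf.mp hh))
            refine ⟨?_, by simpa [commutatorElement_def] using hDz _ hg _ hh⟩
            have h2 := commutator_mem_commutator hgh (mem_zpowers z)
            rw [hRz] at h2
            simpa [commutatorElement_def] using h2)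
          ha := Subtype.ext (by simpa [huu] using hai)
          rank := by rw [huv]; exact hrank
          scal := fun _ g hg γ hγ => by
            rw [huv] at hγ
            refine hscal g (fun s hs t ht => congrArg ρW (Subtype.ext ?_)) γ hγ
            have h1 := (mem_centralizer_iff.mp (hRZ (mem_subgroupOf.mp hg))) _
              (hΦZ0 (hcommT _ (mem_subgroupOf.mp hs) _ (mem_subgroupOf.mp ht)))
            simp only [Subgroup.coe_mul, Subgroup.coe_inv, commutatorElement_def] at h1 ⊢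
            rw [← h1, mul_inv_cancel_right] }
      have h := d.commute_invariant (X.subgroupOf G0) hX2.comap_subtype
        (fun g hg => mem_normalizer_iff.mpr fun l => by
          simp only [mem_subgroupOf, Subgroup.coe_mul, Subgroup.coe_inv]
          exact mem_normalizer_iff.mp (hRX (mem_subgroupOf.mp hg)) l)
        (mem_normalizer_iff.mpr fun l => by
          simp only [mem_subgroupOf, Subgroup.coe_mul, Subgroup.coe_inv]
          exact mem_normalizer_iff.mp (pow_mem hyX _) l)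
        (fun g hg => mem_centralizer_iff.mpr fun l hl => Subtype.ext
          (mem_centralizer_iff.mp (mem_inf.mp (mem_subgroupOf.mp hg)).2 _ (hXE (mem_subgroupOf.mp hl))))
        ⟨x, hXG hx⟩ (mem_subgroupOf.mpr hx)
      convert h using 3
      simp [commutatorElement_def]
  -- all of `X` acts trivially
  set P := X ⊓ Ker with hP
  have hPR : ∀ g ∈ R, ∀ p ∈ P, g * p * g⁻¹ ∈ P := by
    rintro g hg p ⟨hpX, hpK⟩
    refine ⟨(mem_normalizer_iff.mp (hRX hg) p).mp hpX, ?_⟩
    obtain ⟨p', hp', rfl⟩ := hpK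
    exact ⟨⟨g, hRG hg⟩ * p' * (⟨g, hRG hg⟩)⁻¹, Subgroup.Normal.conj_mem inferInstance _ hp' _, rfl⟩
  let L : Subgroup H :=
    { carrier := {g | g ∈ R ∧ ∀ w ∈ E0, ⁅w, g⁆ ∈ P}
      one_mem' := ⟨one_mem R, fun w _ => by simp [one_mem]⟩
      mul_mem' := fun {a b} ha hb => ⟨mul_mem ha.1 hb.1, fun w hw => by
        rw [show ⁅w, a * b⁆ = ⁅w, a⁆ * (a * ⁅w, b⁆ * a⁻¹) by
          simp only [commutatorElement_def]; group]
        exact mul_mem (ha.2 w hw) (hPR a ha.1 _ (hb.2 w hw))⟩
      inv_mem' := fun {a} ha => ⟨inv_mem ha.1, fun w hw => by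
        rw [show ⁅w, a⁻¹⁆ = a⁻¹ * ⁅w, a⁆⁻¹ * a⁻¹⁻¹ by simp only [commutatorElement_def]; group]
        exact hPR _ (inv_mem ha.1) _ (inv_mem (ha.2 w hw))⟩ }
  have hKL : K ≤ L := by
    rw [closure_le]
    rintro c (⟨a, ha, hai, rfl⟩ | hc)
    · refine ⟨hIR a ha, fun w hw => ?_⟩
      set c := ⁅a, u * a * u⁻¹⁆
      have hcR : c ∈ R := hIR a ha
      have hEcX : ⁅E0, zpowers c⁆ ≤ X :=
        commutator_mono le_rfl (zpowers_le.mpr (subset_closure (Or.inl ⟨a, ha, hai, rfl⟩)))
      have hcop : (Nat.card (zpowers c)).Coprime (Nat.card E0) := by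
        obtain ⟨i, hi⟩ := hE0.exists_card_eq
        obtain ⟨l, hl⟩ := IsPGroup.iff_orderOf.mp hR ⟨c, hcR⟩
        rw [Subgroup.orderOf_mk] at hl
        rw [hi, Nat.card_zpowers, hl]
        exact Nat.Coprime.pow l i ((Nat.coprime_primes hr.out Nat.prime_two).mpr hr2)
      haveI : Group.IsNilpotent E0 := hE0.isNilpotent
      have hle : ⁅⁅E0, zpowers c⁆, zpowers c⁆ ≤ Ker := by
        rw [commutator_le]
        intro x hx l hl
        obtain ⟨i, rfl⟩ := mem_zpowers_iff.mp hl
        refine ⟨⁅(⟨x, hXG (hEcX hx)⟩ : G0), (⟨c, hRG hcR⟩ : G0) ^ i⁆, MonoidHom.mem_ker.mpr ?_,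
          by simp [commutatorElement_def]⟩
        rw [map_commutatorElement, map_zpow, commutatorElement_eq_one_iff_commute]
        exact ((show Commute (π ⟨c, hRG hcR⟩) (π ⟨x, hXG (hEcX hx)⟩) from
          Units.ext (hclaim a ha hai x (hEcX hx))).symm).zpow_right i
      rw [Basics.commutator_commutator_eq (zpowers c) E0 (zpowers_le.mpr (hRE hcR)) hcop
        (Or.inr inferInstance)] at hle
      exact ⟨hEcX (commutator_mem_commutator hw (mem_zpowers c)),
        hle (commutator_mem_commutator hw (mem_zpowers c))⟩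
    · refine ⟨(mem_inf.mp hc).1, fun w hw => ?_⟩
      rw [commutatorElement_eq_one_iff_commute.mpr (mem_centralizer_iff.mp (mem_inf.mp hc).2 w hw)]
      exact one_mem _
  have hXP : X ≤ P := by
    conv_lhs => rw [hXdef]
    rw [commutator_le]
    exact fun w hw g hg => (hKL hg).2 w hw
  have hTN : T ≤ N.map G0.subtype := by
    conv_lhs => rw [← hTX]
    rw [commutator_le]
    intro t ht x hx
    have h := (hker _).mp ((hmemKer x (hXG hx)).mp (hXP hx).2) ⟨t, hTG ht⟩ (mem_subgroupOf.mpr ht)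
    exact ⟨_, inv_mem h, by simp [commutatorElement_def, mul_assoc]⟩
  obtain ⟨s', ⟨-, b, hb⟩, hs'⟩ := hTN hs0
  obtain ⟨t', ⟨-, b', hb'⟩, ht'⟩ := hTN ht0
  have hsc : Commute (ρW s') (ρW t') := by
    rw [hb, hb']
    exact ((Commute.refl _).smul_left b).smul_right b'
  have h1 : ρW ⁅s', t'⁆ = 1 := congrArg Units.val (show ρW.toHomUnits ⁅s', t'⁆ = 1 by
    rw [map_commutatorElement, commutatorElement_eq_one_iff_commute]; exact Units.ext hsc)
  have h2 := congrArg Subtype.val (LinearMap.congr_fun h1 ⟨v0, hvW⟩)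
  rw [hρW, show ((⁅s', t'⁆ : G0) : H) = ⁅s0, t0⁆ by
    rw [← hs', ← ht']; simp [commutatorElement_def]] at h2
  have h3 := hvW _ (hΦZ0 (hcommT s0 hs0 t0 ht0))
  rw [h2] at h3
  exact hχ1 (smul_left_injective k hv0 (h3.symm.trans (one_smul k v0).symm))

end Cfsg.Agent.HallHigman
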