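import Cfsg.Agent.Lib.HallHigman.GrossCore

/-!
# Gross's bound on the two-length
-/

set_option autoImplicit false
set_option linter.unusedSectionVars false
set_option linter.style.haveILetI false
set_option maxHeartbeats 1600000

namespace Cfsg.Agent.HallHigman

open Module Subgroup
open scoped commutatorElement IsMulCommutative TensorProduct

universe u v

/-- Extension of scalars of a representation. -/
noncomputable def bcHom {F : Type*} [Field F] (k : Type*) [Field k] [Algebra F k] {H : Type*}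
    [Group H] {V : Type*} [AddCommGroup V] [Module F V] (ρ : H →* Module.End F V) :
    H →* Module.End k (k ⊗[F] V) where
  toFun g := LinearMap.baseChange k (ρ g)
  map_one' := by rw [map_one, Module.End.one_eq_id, LinearMap.baseChange_id]; rfl
  map_mul' a b := by
    rw [map_mul, Module.End.mul_eq_comp, LinearMap.baseChange_comp]; rfl

theorem bcHom_pow_eq_zero {F : Type*} [Field F] (k : Type*) [Field k] [Algebra F k] {H : Type*}
    [Group H] {V : Type*} [AddCommGroup V] [Module F V] (ρ : H →* Module.End F V) (x : H) (m : ℕ)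
    (h : (ρ x - 1) ^ m = 0) : (bcHom k ρ x - 1) ^ m = 0 := by
  have key : ∀ m : ℕ, (bcHom k ρ x - 1) ^ m = ((ρ x - 1) ^ m).baseChange k := by
    intro m
    induction m with
    | zero => rw [pow_zero, pow_zero, Module.End.one_eq_id, Module.End.one_eq_id,
        LinearMap.baseChange_id]
    | succ m ih =>
      rw [pow_succ, pow_succ, ih, Module.End.mul_eq_comp, Module.End.mul_eq_comp,
        LinearMap.baseChange_comp, LinearMap.baseChange_sub, Module.End.one_eq_id,
        Module.End.one_eq_id, LinearMap.baseChange_id]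
      rfl
  rw [key, h, LinearMap.baseChange_zero]

theorem bcHom_injective {F : Type*} [Field F] (k : Type*) [Field k] [Algebra F k] {H : Type*}
    [Group H] {V : Type*} [AddCommGroup V] [Module F V] [FiniteDimensional F V]
    (ρ : H →* Module.End F V) {a b : H} (h : bcHom k ρ a = bcHom k ρ b) : ρ a = ρ b := by
  let e := Module.finBasis F V
  refine e.ext fun i => e.repr.injective (Finsupp.ext fun j => ?_)
  have h2 := congrArg (fun T => (e.baseChange k).repr (T (1 ⊗ₜ[F] e i)) j)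
    (show (ρ a).baseChange k = (ρ b).baseChange k from h)
  simp only [LinearMap.baseChange_tmul, Module.Basis.baseChange_repr_tmul, Algebra.smul_def,
    mul_one] at h2
  exact (algebraMap F k).injective h2

/-- An element with two-power image has a two-power power with the same image. -/
theorem exists_two_lift {A B : Type*} [Group A] [Finite A] [Group B] (f : A →* B) (g : A)
    (hfg : ∃ i, orderOf (f g) = 2 ^ i) :
    ∃ n, (∃ i, orderOf (g ^ n) = 2 ^ i) ∧ f (g ^ n) = f g := by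
  obtain ⟨i, hi⟩ := hfg
  obtain ⟨a, b, hb, hab⟩ := Nat.exists_eq_pow_mul_and_not_dvd (orderOf_pos g).ne' 2 (by norm_num)
  have hcop : (2 ^ i).Coprime b := ((Nat.prime_two.coprime_iff_not_dvd).mpr hb).pow_left i
  obtain ⟨n, hn1, hn2⟩ := Nat.chineseRemainder hcop 1 0
  refine ⟨n, ?_, ?_⟩
  · have h1 : (g ^ n) ^ 2 ^ a = 1 := by
      obtain ⟨c, rfl⟩ := Nat.modEq_zero_iff_dvd.mp hn2
      rw [← pow_mul, show b * c * 2 ^ a = orderOf g * c by rw [hab]; ring, pow_mul,
        pow_orderOf_eq_one, one_pow]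
    obtain ⟨j, -, hj⟩ := (Nat.dvd_prime_pow Nat.prime_two).mp (orderOf_dvd_of_pow_eq_one h1)
    exact ⟨j, hj⟩
  · rw [map_pow]
    conv_rhs => rw [← pow_one (f g)]
    exact pow_eq_pow_iff_modEq.mpr (hi ▸ hn1)

/-- An element of two-power order lies in the image of a Sylow subgroup. -/
theorem exists_sylow_lift {A B : Type*} [Group A] [Finite A] [Group B] {f : A →* B}
    (hf : Function.Surjective f) [Fact (Nat.Prime 2)] (h : B) (hh : ∃ i, orderOf h = 2 ^ i) :
    ∃ T : Sylow 2 A, ∃ x ∈ (T : Subgroup A), f x = h := by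
  obtain ⟨i, hi⟩ := hh
  haveI : Finite B := Finite.of_surjective f hf
  obtain ⟨Q, hQ⟩ := (IsPGroup.of_card (n := i) (by rw [Nat.card_zpowers, hi]) :
    IsPGroup 2 (zpowers h)).exists_le_sylow
  obtain ⟨T, rfl⟩ := Sylow.mapSurjective_surjective hf 2 Q
  obtain ⟨x, hx, he⟩ := hQ (mem_zpowers h)
  exact ⟨T, x, hx, he⟩

theorem map_pGroup_eq_top {A B : Type*} [Group A] [Finite A] [Group B] {f : A →* B}
    (hf : Function.Surjective f) {p : ℕ} [Fact p.Prime] (P : Sylow p A) (hB : IsPGroup p B) :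
    (P : Subgroup A).map f = ⊤ := by
  haveI : Finite B := Finite.of_surjective f hf
  have h := (P.mapSurjective hf).is_maximal' (hB.to_subgroup ⊤) le_top
  rw [← Sylow.coe_mapSurjective hf P]
  exact h.symm

theorem exponent_drop_gross {G : Type u} [Group G] [Finite G] [Group.IsSolvable G]
    (hO : pPrimeCore 2 G = ⊥) {e : ℕ} (he : 1 ≤ e)
    (hexp : ∀ (T : Sylow 2 G), ∀ x ∈ (T : Subgroup G), x ^ 2 ^ e = 1)
    (S : Sylow 2 G) : ∀ x ∈ (S : Subgroup G),
      QuotientGroup.mk' (pPrimeCore 2 (G ⧸ pCore 2 G)) (QuotientGroup.mk' (pCore 2 G) x) ^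
          2 ^ (e - 1) ∈ pCore 2 ((G ⧸ pCore 2 G) ⧸ pPrimeCore 2 (G ⧸ pCore 2 G)) := by
  classical
  haveI : Fact (Nat.Prime 2) := ⟨Nat.prime_two⟩
  haveI : (pCore 2 G).Normal := Basics.pCore_normal 2
  set H := G ⧸ pCore 2 G
  haveI : (pPrimeCore 2 H).Normal := Basics.pPrimeCore_normal 2
  set G2 := H ⧸ pPrimeCore 2 H
  haveI : (pCore 2 G2).Normal := Basics.pCore_normal 2
  set f1 := QuotientGroup.mk' (pCore 2 G)
  set f2 := QuotientGroup.mk' (pPrimeCore 2 H)
  have hf1 := QuotientGroup.mk'_surjective (pCore 2 G)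
  have hf2 := QuotientGroup.mk'_surjective (pPrimeCore 2 H)
  haveI : Group.IsSolvable H := Group.isSolvable_of_surjective hf1
  haveI : Group.IsSolvable G2 := Group.isSolvable_of_surjective hf2
  set L := G2 ⧸ pCore 2 G2
  set f3 := QuotientGroup.mk' (pCore 2 G2)
  have hf3 := QuotientGroup.mk'_surjective (pCore 2 G2)
  haveI : Group.IsSolvable L := Group.isSolvable_of_surjective hf3
  have hOH : pCore 2 H = ⊥ := Basics.pCore_quotient_eq_bot 2
  have hO2 : pPrimeCore 2 G2 = ⊥ := Basics.pPrimeCore_quotient_eq_bot 2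
  have hcX : centralizer (pCore 2 G : Set G) ≤ pCore 2 G := Basics.centralizer_pCore_le hO
  have hcX2 : centralizer (pCore 2 G2 : Set G2) ≤ pCore 2 G2 := Basics.centralizer_pCore_le hO2
  -- representations
  let k := AlgebraicClosure (ZMod 2)
  haveI : CharP k 2 := charP_of_injective_algebraMap (algebraMap (ZMod 2) k).injective 2
  haveI : FiniteDimensional (ZMod 2) (Additive ↥(coreModule 2 G)) := Module.Finite.of_finite
  haveI : FiniteDimensional (ZMod 2) (Additive ↥(coreModule 2 G2)) := Module.Finite.of_finite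
  let ρ0 : H →* Module.End (ZMod 2) (Additive ↥(coreModule 2 G)) :=
    QuotientGroup.lift (pCore 2 G) (coreRep 2 G) fun g hg =>
      MonoidHom.mem_ker.mpr ((coreRep_eq_one_iff hcX g).mpr hg)
  have hρ0 : Function.Injective ρ0 := by
    refine (injective_iff_map_eq_one ρ0).mpr fun g hg => ?_
    induction g using QuotientGroup.induction_on with
    | H g => exact (QuotientGroup.eq_one_iff g).mpr ((coreRep_eq_one_iff hcX g).mp hg)
  let ρ := bcHom k ρ0
  have hρ : Function.Injective ρ := fun a b h => hρ0 (bcHom_injective k ρ0 h)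
  have hall : ∀ h : H, (∃ i, orderOf h = 2 ^ i) →
      h ^ 2 ^ e = 1 ∧ (ρ h - 1) ^ (2 ^ e - 1) = 0 := by
    intro h hh
    obtain ⟨T, x, hx, rfl⟩ := exists_sylow_lift hf1 h hh
    refine ⟨by rw [← map_pow, hexp T x hx, map_one], bcHom_pow_eq_zero k ρ0 _ _ ?_⟩
    by_contra hne
    obtain ⟨g, hg, hg1⟩ := exists_pow_ne_one_of_degree (x := x) hne T hx
    exact hg1 (hexp T g hg)
  let ψ : H →* Module.End k (k ⊗[ZMod 2] Additive ↥(coreModule 2 G2)) :=
    bcHom k ((coreRep 2 G2).comp f2)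
  set f := f3.comp f2 with hf
  have hfs : Function.Surjective f := hf3.comp hf2
  have hψ1 : ∀ h, ψ h = 1 ↔ f2 h ∈ pCore 2 G2 := fun h => by
    rw [← coreRep_eq_one_iff hcX2]
    constructor
    · exact fun e1 => (bcHom_injective k _ (e1.trans (map_one _).symm)).trans (map_one _)
    · intro e1
      show LinearMap.baseChange k (coreRep 2 G2 (f2 h)) = 1
      rw [e1, Module.End.one_eq_id, LinearMap.baseChange_id]
      rfl
  have hψf : ∀ h, ψ h = 1 ↔ f h = 1 := fun h =>
    (hψ1 h).trans (QuotientGroup.eq_one_iff (N := pCore 2 G2) (f2 h)).symm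
  have hψbad : ∀ h : H, (∃ i, orderOf h = 2 ^ i) → (ψ h - 1) ^ (2 ^ e - 1) = 0 := by
    intro h hh
    obtain ⟨T, x, hx, rfl⟩ := exists_sylow_lift hf1 h hh
    refine bcHom_pow_eq_zero k _ _ _ ?_
    by_contra hne
    obtain ⟨g, hg, hg1⟩ := exists_pow_ne_one_of_degree (x := f2 (f1 x)) hne
      ((T.mapSurjective hf1).mapSurjective hf2) ⟨_, ⟨x, hx, rfl⟩, rfl⟩
    obtain ⟨_, ⟨g', hg', rfl⟩, rfl⟩ := hg
    exact hg1 (by rw [← map_pow, ← map_pow, hexp T g' hg', map_one, map_one])
  intro x hx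
  by_contra hxe
  set y := f1 x
  have hy2 : ∃ i, orderOf y = 2 ^ i := by
    obtain ⟨i, -, hi⟩ := (Nat.dvd_prime_pow Nat.prime_two).mp
      (orderOf_dvd_of_pow_eq_one (show y ^ 2 ^ e = 1 by rw [← map_pow, hexp S x hx, map_one]))
    exact ⟨i, hi⟩
  set zb := f y ^ 2 ^ (e - 1) with hzb
  have hzb1 : zb ≠ 1 := by
    intro h
    apply hxe
    rw [hzb, ← map_pow] at h
    have h' := (QuotientGroup.eq_one_iff (N := pCore 2 G2) (f2 (y ^ 2 ^ (e - 1)))).mp h
    rwa [map_pow] at h'
  set A := zpowers (f y)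
  have hA2 : IsPGroup 2 A := by
    obtain ⟨i, hi⟩ := hy2
    exact (IsPGroup.of_card (n := i) (by rw [Nat.card_zpowers, hi]) :
      IsPGroup 2 (zpowers y)).map f |>.to_le (by rw [MonoidHom.map_zpowers])
  set Q := pPrimeCore 2 L
  haveI : Q.Normal := Basics.pPrimeCore_normal 2
  have hQ : (Nat.card Q).Coprime 2 := Basics.pPrimeCore_coprime (G := L) 2
  have hcopA : (Nat.card A).Coprime (Nat.card Q) := by
    obtain ⟨i, hi⟩ := hA2.exists_card_eq
    rw [hi]
    exact hQ.symm.pow_left i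
  have hzA : zb ∈ A := pow_mem (mem_zpowers _) _
  have hzQ : ¬ Q ≤ centralizer ({zb} : Set L) := by
    intro hle
    have h1 : zb ∈ Q := Components.centralizer_pPrimeCore_le
      (Components.isPSolvable_of_isSolvable (Nat.card L) L le_rfl inferInstance)
      (Basics.pCore_quotient_eq_bot 2) (mem_centralizer_iff.mpr fun q hq =>
        mem_centralizer_singleton_iff.mp (hle hq))
    exact hzb1 (mem_bot.mp ((inf_eq_bot_of_coprime hcopA).le ⟨hzA, h1⟩))
  obtain ⟨r, SL, hr, hr2, hSL, hASL, hne⟩ : ∃ (r : ℕ) (SL : Subgroup L), r.Prime ∧ r ≠ 2 ∧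
      IsPGroup r SL ∧ A ≤ normalizer (SL : Set L) ∧ ¬ SL ≤ centralizer ({zb} : Set L) := by
    by_contra hcon
    push Not at hcon
    set D := Q ⊓ centralizer ({zb} : Set L)
    apply hzQ
    suffices hc : Nat.card Q ∣ Nat.card D from
      (eq_of_le_of_card_ge inf_le_left (Nat.le_of_dvd Nat.card_pos hc)).ge.trans inf_le_right
    refine (Nat.factorization_prime_le_iff_dvd Nat.card_pos.ne' Nat.card_pos.ne').mp fun q hq => ?_
    haveI := Fact.mk hq
    by_cases hqQ : q ∣ Nat.card Q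
    · obtain ⟨T, hT, hTn⟩ := Basics.exists_invariant_isSylowIn A Q
        (fun g _ => by rw [normalizer_eq_top]; trivial) hcopA
        (Or.inl (haveI := hA2.isNilpotent; inferInstance)) q
      have hqp : q ≠ 2 := by
        rintro rfl
        exact Nat.prime_two.one_lt.ne' (Nat.eq_one_of_dvd_coprimes hQ hqQ dvd_rfl)
      have hle : T ≤ D := le_inf hT.1 (hcon q T hq hqp hT.isPGroup hTn)
      refine (hq.pow_dvd_iff_le_factorization Nat.card_pos.ne').mp ?_
      rw [← hT.2]
      exact card_dvd_of_le hle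
    · rw [Nat.factorization_eq_zero_of_not_dvd hqQ]
      exact Nat.zero_le _
  haveI := Fact.mk hr
  -- the invariant two-group
  set K2 := f.ker
  haveI : K2.Normal := inferInstance
  have hy2g : IsPGroup 2 (zpowers y) := by
    obtain ⟨i, hi⟩ := hy2
    exact IsPGroup.of_card (n := i) (by rw [Nat.card_zpowers, hi])
  obtain ⟨S2, hS2⟩ := hy2g.exists_le_sylow
  set E0 := (S2 : Subgroup H) ⊓ K2 with hE0
  have hE02 : IsPGroup 2 E0 := S2.2.to_le inf_le_left
  obtain ⟨P, hP⟩ : ∃ P : Sylow 2 K2, (P : Subgroup K2).map K2.subtype = E0 := by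
    obtain ⟨P, hP⟩ := (hE02.comap_subtype (K := K2)).exists_le_sylow
    refine ⟨P, (eq_of_le_of_card_ge ?_ ?_).symm⟩
    · intro g hg
      exact ⟨⟨g, (mem_inf.mp hg).2⟩, hP (mem_subgroupOf.mpr hg), rfl⟩
    · obtain ⟨S3, hS3⟩ := (P.2.map K2.subtype).exists_le_sylow
      obtain ⟨c, rfl⟩ := MulAction.exists_smul_eq H S2 S3
      refine le_of_le_of_eq (Nat.le_of_dvd Nat.card_pos (card_dvd_of_le (le_inf hS3 (map_subtype_le _))))
        (?_ : _ = Nat.card E0)
      have hK : K2.map (MulAut.conj c : H →* H) = K2 :=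
        mem_normalizer_iff_map_conj_eq.mp (by rw [normalizer_eq_top]; trivial)
      have e1 : ((c • S2 : Sylow 2 H) : Subgroup H) ⊓ K2 =
          ((S2 : Subgroup H) ⊓ K2).map (MulAut.conj c : H →* H) := by
        rw [map_inf _ _ _ (MulAut.conj c).injective, hK]
        rfl
      rw [e1, hE0, card_map_of_injective (MulAut.conj c).injective]
  set Nn := normalizer (E0 : Set H) with hNn
  have hNK : Nn ⊔ K2 = ⊤ := by
    rw [hNn, ← hP]; exact Sylow.normalizer_sup_eq_top P
  have hyE : y ∈ Nn := inf_normalizer_le_normalizer_inf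
    ⟨le_normalizer (hS2 (mem_zpowers y)), by rw [normalizer_eq_top]; trivial⟩
  -- lifting the odd group
  set U := Nn ⊓ SL.comap f with hU
  have hUs : ∀ s ∈ SL, ∃ n ∈ U, f n = s := by
    intro s hs
    obtain ⟨h, rfl⟩ := hfs s
    have hh : h ∈ Nn ⊔ K2 := by rw [hNK]; trivial
    rw [← SetLike.mem_coe, Subgroup.mul_normal] at hh
    obtain ⟨n, hn, κ, hκ, rfl⟩ := hh
    have e1 : f n = f (n * κ) := by rw [map_mul, MonoidHom.mem_ker.mp hκ, mul_one]
    exact ⟨n, ⟨hn, show f n ∈ SL by rw [e1]; exact hs⟩, e1⟩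
  let fU : U →* SL := (f.comp U.subtype).codRestrict SL fun n => (mem_inf.mp n.2).2
  have hfU : Function.Surjective fU := fun s => by
    obtain ⟨n, hn, e1⟩ := hUs s s.2
    exact ⟨⟨n, hn⟩, Subtype.ext e1⟩
  obtain ⟨Rs⟩ : Nonempty (Sylow r U) := inferInstance
  set R := (Rs : Subgroup U).map U.subtype with hR
  have hRr : IsPGroup r R := Rs.2.map U.subtype
  have hRU : R ≤ U := map_subtype_le _
  have hRtop : (Rs : Subgroup U).map fU = ⊤ := map_pGroup_eq_top hfU Rs hSL
  have hRsurj : ∀ s ∈ SL, ∃ g ∈ R, f g = s := by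
    intro s hs
    obtain ⟨g, hg, e1⟩ := (hRtop.ge (mem_top (⟨s, hs⟩ : SL)))
    exact ⟨g, mem_map_of_mem _ hg, congrArg Subtype.val e1⟩
  have hyU : y ∈ normalizer (U : Set H) := by
    refine inf_normalizer_le_normalizer_inf ⟨le_normalizer hyE, ?_⟩
    refine mem_normalizer_iff.mpr fun g => ?_
    simp only [mem_comap, map_mul, map_inv]
    exact mem_normalizer_iff.mp (hASL (mem_zpowers _)) (f g)
  obtain ⟨y1, hy1N, hy1R, hy1f⟩ : ∃ y1 ∈ Nn, y1 ∈ normalizer (R : Set H) ∧ f y1 = f y := by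
    set R' := R.map (MulAut.conj y : H →* H) with hR'
    have hR'U : R' ≤ U := by
      rintro _ ⟨g, hg, rfl⟩
      exact (mem_normalizer_iff.mp hyU g).mp (hRU hg)
    have hcard : Nat.card (R'.subgroupOf U) = Nat.card (Rs : Subgroup U) := by
      rw [← card_map_of_injective U.subtype_injective, map_subgroupOf_eq_of_le hR'U, hR',
        card_map_of_injective (MulAut.conj y).injective, hR, card_map_of_injective U.subtype_injective]
    obtain ⟨c, hc⟩ := MulAction.exists_smul_eq U Rs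
      (Sylow.ofCard (R'.subgroupOf U) (hcard.trans Rs.card_eq_multiplicity))
    have hc' : R.map (MulAut.conj (c : H) : H →* H) = R' := by
      rw [← map_subgroupOf_eq_of_le hR'U,
        show R'.subgroupOf U = ((c • Rs : Sylow r U) : Subgroup U) by rw [hc]; rfl, hR, map_map]
      show _ = ((Rs : Subgroup U).map (MulAut.conj c : U →* U)).map U.subtype
      rw [map_map]
      rfl
    obtain ⟨ρ', hρ', eρ⟩ := hRsurj (f c) (mem_inf.mp c.2).2
    refine ⟨(ρ' * (c : H)⁻¹) * y, ?_, ?_, ?_⟩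
    · exact mul_mem (mul_mem (mem_inf.mp (hRU hρ')).1 (inv_mem (mem_inf.mp c.2).1)) hyE
    · rw [mul_assoc]
      refine mul_mem (le_normalizer hρ') (mem_normalizer_iff_map_conj_eq.mpr ?_)
      have e1 : (MulAut.conj ((c : H)⁻¹ * y) : H →* H) =
          (MulAut.conj ((c : H)⁻¹) : H →* H).comp (MulAut.conj y : H →* H) := by
        rw [map_mul]; rfl
      rw [e1, ← map_map, ← hR', ← hc', map_map]
      rw [show (MulAut.conj ((c : H)⁻¹) : H →* H).comp (MulAut.conj (c : H) : H →* H) = MonoidHom.id H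
        from MonoidHom.ext fun g => by simp [mul_assoc], map_id]
    · rw [map_mul, map_mul, map_inv, eρ, mul_inv_cancel, one_mul]
  obtain ⟨n, hy22, hy2f⟩ := exists_two_lift f y1 (by
    rw [hy1f]
    obtain ⟨i, hi⟩ := hy2
    obtain ⟨j, -, hj⟩ := (Nat.dvd_prime_pow Nat.prime_two).mp (hi ▸ orderOf_map_dvd f y)
    exact ⟨j, hj⟩)
  set y2 := y1 ^ n
  have hfy2 : f y2 = f y := hy2f.trans hy1f
  obtain ⟨sl, hsl, hslz⟩ := SetLike.not_le_iff_exists.mp hne
  obtain ⟨g0, hg0, eg0⟩ := hRsurj sl hsl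
  have hne' : ∃ g ∈ R, ¬ Commute (ψ g) (ψ (y2 ^ 2 ^ (e - 1))) := by
    refine ⟨g0, hg0, fun hcm => hslz (mem_centralizer_singleton_iff.mpr ?_)⟩
    have h1 : ψ ⁅g0, y2 ^ 2 ^ (e - 1)⁆ = 1 := congrArg Units.val
      (show ψ.toHomUnits ⁅g0, y2 ^ 2 ^ (e - 1)⁆ = 1 by
        rw [map_commutatorElement, commutatorElement_eq_one_iff_commute]; exact Units.ext hcm)
    rw [hψf, map_commutatorElement, map_pow, hfy2, eg0, commutatorElement_eq_one_iff_commute] at h1
    exact h1.eq
  obtain ⟨he2, R', hR'R, hy2R', hR'z, hD, hDz, a, ha, hai, hca⟩ :=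
    inverted_data ψ y2 he (hall y2 hy22).1 (hψbad y2 hy22) hr2 R hRr (pow_mem hy1R n) hne'
  -- trivial action means centralizing the two-group
  have hK2E : E0 ≤ K2 := inf_le_right
  let f2K : K2 →* pCore 2 G2 := (f2.comp K2.subtype).codRestrict _ fun g =>
    (QuotientGroup.eq_one_iff (N := pCore 2 G2) (f2 g)).mp g.2
  have hf2K : Function.Surjective f2K := fun o => by
    obtain ⟨h, hh⟩ := hf2 o
    exact ⟨⟨h, MonoidHom.mem_ker.mpr ((QuotientGroup.eq_one_iff (N := pCore 2 G2) (f2 h)).mpr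
      (hh ▸ o.2))⟩, Subtype.ext hh⟩
  have hPtop := map_pGroup_eq_top hf2K P (Basics.pCore_isPGroup 2)
  have hiff : ∀ g ∈ R, (ψ g = 1 ↔ g ∈ centralizer (E0 : Set H)) := by
    intro g hg
    rw [hψ1]
    constructor
    · intro h1
      have h2 : f2 g = 1 := by
        obtain ⟨i, hi⟩ := (IsPGroup.iff_orderOf.mp hRr ⟨g, hg⟩)
        rw [Subgroup.orderOf_mk] at hi
        obtain ⟨j, hj⟩ := IsPGroup.iff_orderOf.mp (Basics.pCore_isPGroup 2) (⟨_, h1⟩ : pCore 2 G2)
        rw [Subgroup.orderOf_mk] at hj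
        exact orderOf_eq_one_iff.mp (Nat.eq_one_of_dvd_coprimes
          (Nat.Coprime.pow i j ((Nat.coprime_primes hr Nat.prime_two).mpr hr2))
          (hi ▸ orderOf_map_dvd f2 g) (hj ▸ dvd_rfl))
      refine mem_centralizer_iff.mpr fun w hw => (commutatorElement_eq_one_iff_commute.mp ?_).eq
      rw [← mem_bot]
      have hgN : g ∈ Nn := (mem_inf.mp (hRU hg)).1
      refine (inf_eq_bot_of_coprime (H := E0) (K := pPrimeCore 2 H) ?_).le ⟨?_, ?_⟩
      · obtain ⟨i, hi⟩ := hE02.exists_card_eq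
        rw [hi]
        exact (Basics.pPrimeCore_coprime (G := H) 2).symm.pow_left i
      · rw [commutatorElement_def, show w * g * w⁻¹ * g⁻¹ = w * (g * w⁻¹ * g⁻¹) by group]
        exact mul_mem hw ((mem_normalizer_iff.mp hgN _).mp (inv_mem hw))
      · refine (QuotientGroup.eq_one_iff (N := pPrimeCore 2 H) _).mp ?_
        show f2 ⁅w, g⁆ = 1
        rw [map_commutatorElement, h2, commutatorElement_one_right]
    · intro h1
      refine hcX2 (mem_centralizer_iff.mpr fun o ho => ?_)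
      obtain ⟨w, hw, ew⟩ := hPtop.ge (mem_top (⟨o, ho⟩ : pCore 2 G2))
      have e1 : f2 (w : H) = o := congrArg Subtype.val ew
      rw [← e1, ← map_mul, ← map_mul,
        mem_centralizer_iff.mp h1 (w : H) (hP ▸ mem_map_of_mem K2.subtype hw)]
  have hRE : R' ≤ normalizer (E0 : Set H) := fun g hg => (mem_inf.mp (hRU (hR'R hg))).1
  have hcomm' : ∀ g ∈ R', ∀ h ∈ R', ⁅g, h⁆ ∈ R' := fun g hg h hh =>
    commutator_le_self R' (commutator_mem_commutator hg hh)
  have hc := commute_core ρ hρ hOH he2 hall hr2 R' E0 (hRr.to_le hR'R) hE02 y2 hy22 hy2R'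
    (pow_mem hy1N n) hRE hR'z
    (fun g hg h hh l hl => (hiff _ (hR'R (hcomm' _ (hcomm' g hg h hh) l hl))).mp (hD g hg h hh l hl))
    (fun g hg h hh => (hiff _ (hR'R (by
      rw [← hR'z]
      exact commutator_mem_commutator (hcomm' g hg h hh) (mem_zpowers _)))).mp (hDz g hg h hh))
    a ha hai
  apply hca
  refine (hiff _ (hR'R (hcomm' a ha _ ?_))).mpr hc
  exact (mem_normalizer_iff.mp (pow_mem hy2R' _) a).mp ha

/-- Gross's bound. -/
theorem pLengthLE_gross : ∀ (N : ℕ) {G : Type u} [Group G] [Finite G] [Group.IsSolvable G],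
    Nat.card G = N → ∀ (e : ℕ), (∀ (T : Sylow 2 G), ∀ x ∈ (T : Subgroup G), x ^ 2 ^ e = 1) →
      PLengthLE 2 (2 * e - 1) G := by
  haveI : Fact (Nat.Prime 2) := ⟨Nat.prime_two⟩
  intro N
  induction N using Nat.strong_induction_on with
  | _ N ih =>
  intro G _ _ _ hN e hexp
  rcases subsingleton_or_nontrivial G with hs | hnt
  · exact Subsingleton.elim _ _
  have hsol : IsPSolvable 2 G := Components.isPSolvable_of_isSolvable (Nat.card G) G le_rfl inferInstance
  have hmap : ∀ {B : Type u} [Group B] (f : G →* B) (hf : Function.Surjective f),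
      ∀ (T : Sylow 2 B), ∀ x ∈ (T : Subgroup B), x ^ 2 ^ e = 1 := by
    intro B _ f hf T x hx
    haveI : Finite B := Finite.of_surjective f hf
    obtain ⟨T', rfl⟩ := Sylow.mapSurjective_surjective hf 2 T
    obtain ⟨g, hg, rfl⟩ := hx
    rw [← map_pow, hexp T' g hg, map_one]
  by_cases hO : pPrimeCore 2 G = ⊥
  swap
  · haveI : (pPrimeCore 2 G).Normal := Basics.pPrimeCore_normal 2
    have hsurj := QuotientGroup.mk'_surjective (pPrimeCore 2 G)
    haveI : Group.IsSolvable (G ⧸ pPrimeCore 2 G) := Group.isSolvable_of_surjective hsurj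
    exact Coprime23.pLengthLE_of_quotient_coprime (Basics.pPrimeCore_coprime 2)
      (ih _ (hN ▸ Basics.card_quotient_lt hO) rfl e (hmap _ hsurj))
  haveI : (pCore 2 G).Normal := Basics.pCore_normal 2
  have hne : pCore 2 G ≠ ⊥ := (Coprime23.exists_core_ne_bot hsol).resolve_right (not_not.mpr hO)
  obtain ⟨S⟩ : Nonempty (Sylow 2 G) := inferInstance
  rcases Nat.eq_zero_or_pos e with rfl | he
  · refine absurd (le_bot_iff.mp ((Basics.pCore_le_sylow 2 S).trans fun x hx => ?_)) hne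
    simpa using hexp S x hx
  rcases (show e = 1 ∨ 2 ≤ e by omega) with rfl | he2
  · -- elementary abelian Sylow subgroups
    have htop : pPrimeCore 2 (G ⧸ pCore 2 G) = ⊤ := by
      haveI := Basics.pPrimeCore_normal (G := G ⧸ pCore 2 G) 2
      haveI : Group.IsSolvable (G ⧸ pCore 2 G) :=
        Group.isSolvable_of_surjective (QuotientGroup.mk'_surjective _)
      have hS : ∀ x ∈ (S : Subgroup G), x ∈ pCore 2 G := by
        intro x hx
        refine Basics.centralizer_pCore_le hO (mem_centralizer_iff.mpr fun w hw => ?_)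
        have hwS := Basics.pCore_le_sylow 2 S hw
        have h1 : ∀ g ∈ (S : Subgroup G), g * g = 1 := fun g hg => by
          simpa [pow_two] using hexp S g hg
        have h3 : ∀ g ∈ (S : Subgroup G), g⁻¹ = g := fun g hg => inv_eq_of_mul_eq_one_right (h1 g hg)
        have h2 := h3 _ (mul_mem hwS hx)
        rw [mul_inv_rev, h3 x hx, h3 w hwS] at h2
        exact h2.symm
      rw [eq_top_iff]
      haveI : (⊤ : Subgroup (G ⧸ pCore 2 G)).Normal := inferInstance
      refine Basics.le_pPrimeCore ?_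
      rw [card_top, Nat.coprime_comm, Nat.prime_two.coprime_iff_not_dvd]
      intro hd
      have h4 := S.not_dvd_index
      rw [← Subgroup.index_eq_card] at hd
      exact h4 (hd.trans (Subgroup.index_dvd_of_le hS))
    have h0 : PLengthLE 2 0 (G ⧸ pCore 2 G) := by
      haveI := Basics.pPrimeCore_normal (G := G ⧸ pCore 2 G) 2
      haveI : Subsingleton ((G ⧸ pCore 2 G) ⧸ pPrimeCore 2 (G ⧸ pCore 2 G)) := by
        rw [htop]; exact QuotientGroup.subsingleton_quotient_top
      exact Coprime23.pLengthLE_of_quotient_coprime (Basics.pPrimeCore_coprime 2) (Subsingleton.elim _ _)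
    exact Coprime23.pLengthLE_succ_of_quotient_pCore hO h0
  haveI : (pPrimeCore 2 (G ⧸ pCore 2 G)).Normal := Basics.pPrimeCore_normal 2
  haveI : (pCore 2 ((G ⧸ pCore 2 G) ⧸ pPrimeCore 2 (G ⧸ pCore 2 G))).Normal :=
    Basics.pCore_normal 2
  have hdrop := fun T => exponent_drop_gross hO (by omega) hexp T
  obtain ⟨e', rfl⟩ : ∃ e', e = e' + 1 := ⟨e - 1, by omega⟩
  have hsurj1 := QuotientGroup.mk'_surjective (pCore 2 G)
  have hsurj2 := QuotientGroup.mk'_surjective (pPrimeCore 2 (G ⧸ pCore 2 G))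
  have hsurj3 := QuotientGroup.mk'_surjective
    (pCore 2 ((G ⧸ pCore 2 G) ⧸ pPrimeCore 2 (G ⧸ pCore 2 G)))
  haveI : Group.IsSolvable (G ⧸ pCore 2 G) := Group.isSolvable_of_surjective hsurj1
  haveI : Group.IsSolvable ((G ⧸ pCore 2 G) ⧸ pPrimeCore 2 (G ⧸ pCore 2 G)) :=
    Group.isSolvable_of_surjective hsurj2
  haveI : Group.IsSolvable (((G ⧸ pCore 2 G) ⧸ pPrimeCore 2 (G ⧸ pCore 2 G)) ⧸
      pCore 2 ((G ⧸ pCore 2 G) ⧸ pPrimeCore 2 (G ⧸ pCore 2 G))) :=
    Group.isSolvable_of_surjective hsurj3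
  rw [show 2 * (e' + 1) - 1 = (2 * e' - 1 + 1) + 1 by omega]
  refine Coprime23.pLengthLE_succ_of_quotient_pCore hO
    (Coprime23.pLengthLE_of_quotient_coprime (Basics.pPrimeCore_coprime 2)
      (Coprime23.pLengthLE_succ_of_quotient_pCore (Basics.pPrimeCore_quotient_eq_bot 2)
        (ih _ (hN ▸ ?_) rfl e' ?_)))
  · intro T x hx
    obtain ⟨T2, rfl⟩ := Sylow.mapSurjective_surjective hsurj3 2 T
    obtain ⟨T1, rfl⟩ := Sylow.mapSurjective_surjective hsurj2 2 T2
    obtain ⟨T0, rfl⟩ := Sylow.mapSurjective_surjective hsurj1 2 T1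
    obtain ⟨_, ⟨_, ⟨g, hg, rfl⟩, rfl⟩, rfl⟩ := hx
    rw [← map_pow]
    exact (QuotientGroup.eq_one_iff _).mpr (by simpa using hdrop T0 g hg)
  · exact lt_of_le_of_lt (((Nat.card_le_card_of_surjective _ hsurj3)).trans
      (Nat.card_le_card_of_surjective _ hsurj2)) (Basics.card_quotient_lt hne)

end Cfsg.Agent.HallHigman
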