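import Cfsg.Agent.Lib.HallHigman.GrossTwo

/-!
# A section moved little by a top power, for the prime two
-/

set_option autoImplicit false
set_option linter.unusedSectionVars false
set_option linter.style.haveILetI false
set_option maxHeartbeats 1000000

namespace Cfsg.Agent.HallHigman

open Module Subgroup
open scoped commutatorElement IsMulCommutative

universe u v

theorem comm_mul_central {U : Type*} [Group U] {a b c d : U} (hc : ∀ w, Commute c w)
    (hd : ∀ w, Commute d w) : ⁅a * c, b * d⁆ = ⁅a, b⁆ := by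
  simp only [commutatorElement_def, mul_inv_rev]
  calc a * c * (b * d) * (c⁻¹ * a⁻¹) * (d⁻¹ * b⁻¹)
      = a * (c * (b * d) * c⁻¹) * a⁻¹ * (d⁻¹ * b⁻¹) := by group
    _ = a * (b * d) * a⁻¹ * (d⁻¹ * b⁻¹) := by rw [(hc _).eq, mul_inv_cancel_right]
    _ = a * b * (d * a⁻¹ * d⁻¹) * b⁻¹ := by group
    _ = a * b * a⁻¹ * b⁻¹ := by rw [(hd _).eq, mul_inv_cancel_right]

/-- Automorphisms of an abelian group of prime exponent as linear maps. -/
noncomputable def autEnd (q : ℕ) (A : Type u) [CommGroup A] [Module (ZMod q) (Additive A)] :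
    MulAut A →* Module.End (ZMod q) (Additive A) where
  toFun σ := (MonoidHom.toAdditive σ.toMonoidHom).toZModLinearMap q
  map_one' := rfl
  map_mul' _ _ := rfl

theorem section_small_aux {k : Type*} [Field k] [IsAlgClosed k] [CharP k 2] {q : ℕ} [hq : Fact q.Prime]
    (hq2 : q ≠ 2) {Γ : Type u} [Group Γ] [Finite Γ] {W : Type v} [AddCommGroup W] [Module k W]
    [FiniteDimensional k W] (ρ : Γ →* Module.End k W) (T N : Subgroup Γ) [T.Normal] [N.Normal]
    (hT : IsPGroup q T) (hNT : N ≤ T) (hN : ∀ t ∈ T, t ∈ N ↔ ∃ a : k, ρ t = a • 1)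
    (hcomm : ∀ s ∈ T, ∀ t ∈ T, ⁅s, t⁆ ∈ N) (hpow : ∀ t ∈ T, t ^ q ∈ N)
    (hexact : ∀ s ∈ T, ∀ t ∈ T, ρ ⁅s, t⁆ ^ q = 1)
    [IsMulCommutative ↥(T.map (QuotientGroup.mk' N))] [Module (ZMod q) (Additive ↥(T.map (QuotientGroup.mk' N)))]
    (y : Γ) {f : ℕ} (hf : 1 ≤ f) (hy : y ^ 2 ^ f = 1) (hbad : (ρ y - 1) ^ (2 ^ f - 1) = 0) :
    ∃ φ : Γ →* Module.End (ZMod q) (Additive ↥(T.map (QuotientGroup.mk' N))),
      (∀ g, φ g = 1 ↔ ∀ t ∈ T, ⁅g, t⁆ ∈ N) ∧
      (φ (y ^ 2 ^ (f - 1)) = 1 ∨ 2 ≤ f ∧ q % 4 = 3 ∧ q + 1 = 2 ^ f ∧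
        finrank (ZMod q) (LinearMap.range (φ (y ^ 2 ^ (f - 1)) - 1)) ≤ 2 ∧
        ∀ g, (∀ s ∈ T, ∀ t ∈ T, ρ (g * ⁅s, t⁆ * g⁻¹) = ρ ⁅s, t⁆) → ∀ γ : ZMod q,
          φ g * (φ (y ^ 2 ^ (f - 1)) - 1) = γ • (φ (y ^ 2 ^ (f - 1)) - 1) → γ ^ 2 = 1) := by
  classical
  haveI : Fact (Nat.Prime 2) := ⟨Nat.prime_two⟩
  haveI : (T.map (QuotientGroup.mk' N)).Normal :=
    Subgroup.Normal.map inferInstance _ (QuotientGroup.mk'_surjective N)
  haveI : Module.Finite (ZMod q) (Additive ↥(T.map (QuotientGroup.mk' N))) := Module.Finite.of_finite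
  let φ : Γ →* Module.End (ZMod q) (Additive ↥(T.map (QuotientGroup.mk' N))) :=
    (autEnd q ↥(T.map (QuotientGroup.mk' N))).comp (MulAut.conjNormal.comp (QuotientGroup.mk' N))
  let ι : ↥T → Additive ↥(T.map (QuotientGroup.mk' N)) := fun t =>
    Additive.ofMul ⟨QuotientGroup.mk' N t, mem_map_of_mem _ t.2⟩
  have hι1 : ι 1 = 0 := rfl
  have hιmul : ∀ a b, ι (a * b) = ι a + ι b := fun a b => rfl
  have hιinv : ∀ a, ι a⁻¹ = - ι a := fun a => rfl
  have hιsurj : Function.Surjective ι := by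
    intro v
    obtain ⟨a, ha, e⟩ := v.toMul.2
    exact ⟨⟨a, ha⟩, Additive.toMul.injective (Subtype.ext e)⟩
  have hι0 : ∀ t : ↥T, ι t = 0 ↔ (t : Γ) ∈ N := fun t => by
    rw [← QuotientGroup.eq_one_iff]
    exact ⟨fun h => congrArg (fun v : Additive ↥(T.map (QuotientGroup.mk' N)) => ((v.toMul : ↥(T.map (QuotientGroup.mk' N))) : Γ ⧸ N)) h,
      fun h => Additive.toMul.injective (Subtype.ext h)⟩
  have hφι : ∀ g (t : ↥T), φ g (ι t) =
      ι ⟨g * t * g⁻¹, Subgroup.Normal.conj_mem inferInstance _ t.2 g⟩ := fun g t =>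
    Additive.toMul.injective (Subtype.ext (by
      show QuotientGroup.mk' N g * QuotientGroup.mk' N t * (QuotientGroup.mk' N g)⁻¹ =
        QuotientGroup.mk' N (g * t * g⁻¹)
      simp only [map_mul, map_inv]))
  have hker : ∀ g, φ g = 1 ↔ ∀ t ∈ T, ⁅g, t⁆ ∈ N := by
    intro g
    have key : ∀ t : ↥T, φ g (ι t) = ι t ↔ ⁅g, (t : Γ)⁆ ∈ N := fun t => by
      rw [hφι, ← sub_eq_zero, sub_eq_add_neg, ← hιinv, ← hιmul, hι0, commutatorElement_def]
      rfl
    constructor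
    · exact fun h t ht => (key ⟨t, ht⟩).mp (by rw [h]; rfl)
    · intro h
      refine LinearMap.ext fun v => ?_
      obtain ⟨t, rfl⟩ := hιsurj v
      exact (key t).mpr (h t t.2)
  refine ⟨φ, hker, ?_⟩
  set z := y ^ 2 ^ (f - 1) with hz
  by_cases htriv : φ z = 1
  · exact Or.inl htriv
  right
  set D := φ z - 1 with hD
  have hzz : φ z * φ z = 1 := by
    rw [← map_mul, hz, ← pow_two, ← pow_mul, ← pow_succ, Nat.sub_add_cancel hf, hy, map_one]
  have hfixD : ∀ v ∈ LinearMap.range D, φ z v = v → v = 0 := by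
    rintro _ ⟨w, rfl⟩ hv
    have h1 : φ z (D w) = - D w := by
      rw [hD, LinearMap.sub_apply, map_sub, Module.End.one_apply, ← Module.End.mul_apply, hzz,
        Module.End.one_apply, neg_sub]
    rw [hv, eq_neg_iff_add_eq_zero, ← two_smul (ZMod q)] at h1
    refine (smul_eq_zero.mp h1).resolve_left fun h2 => hq2 ?_
    have h3 : ((2 : ℕ) : ZMod q) = 0 := by simpa using h2
    exact (Nat.prime_dvd_prime_iff_eq hq.out Nat.prime_two).mp
      ((CharP.cast_eq_zero_iff (ZMod q) q 2).mp h3)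
  let S1 : Subgroup Γ :=
    { carrier := {t | ∃ h : t ∈ T, ι ⟨t, h⟩ ∈ LinearMap.range D}
      one_mem' := ⟨one_mem T, by
        rw [show (⟨1, one_mem T⟩ : ↥T) = 1 from rfl, hι1]; exact zero_mem _⟩
      mul_mem' := fun {a b} ha hb => by
        obtain ⟨ha', ha⟩ := ha
        obtain ⟨hb', hb⟩ := hb
        exact ⟨mul_mem ha' hb', by
          rw [show (⟨a * b, mul_mem ha' hb'⟩ : ↥T) = ⟨a, ha'⟩ * ⟨b, hb'⟩ from rfl, hιmul]
          exact add_mem ha hb⟩
      inv_mem' := fun {a} ha => by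
        obtain ⟨ha', ha⟩ := ha
        exact ⟨inv_mem ha', by
          rw [show (⟨a⁻¹, inv_mem ha'⟩ : ↥T) = (⟨a, ha'⟩)⁻¹ from rfl, hιinv]
          exact neg_mem ha⟩ }
  have hS1T : S1 ≤ T := fun _ h => h.1
  have hyS1 : y ∈ normalizer (S1 : Set Γ) := by
    refine mem_normalizer_iff_map_conj_eq.mpr (eq_of_le_of_card_ge ?_
      (card_map_of_injective (MulAut.conj y).injective).ge)
    rintro _ ⟨t, ⟨ht, w, hw⟩, rfl⟩
    refine ⟨Subgroup.Normal.conj_mem inferInstance _ ht y, φ y w, ?_⟩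
    refine Eq.trans ?_ (hφι y ⟨t, ht⟩)
    rw [← hw, ← Module.End.mul_apply, ← Module.End.mul_apply, hD, mul_sub, sub_mul, ← map_mul,
      ← map_mul, hz, (Commute.self_pow y _).eq, mul_one, one_mul]
  have hscal : ∀ t ∈ N, ∃ a : k, ρ t = a • 1 := fun t ht => (hN t (hNT ht)).mp ht
  obtain ⟨w1, hw1⟩ : ∃ w, D w ≠ 0 := by
    by_contra hall
    push Not at hall
    exact htriv (sub_eq_zero.mp (LinearMap.ext hall))
  have hne : ∃ s ∈ S1, ∃ t ∈ S1, ρ (s * t * s⁻¹ * t⁻¹) ≠ 1 := by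
    by_contra hall
    push Not at hall
    obtain ⟨a, ha⟩ := hιsurj (D w1)
    have haS : (a : Γ) ∈ S1 := ⟨a.2, w1, ha.symm⟩
    refine full_degree_of_abelian (p := 2) ρ S1 y hyS1 hy (fun s hs t ht => ?_) (fun s hs => ?_)
      ⟨a, haS, fun heq => ?_⟩ hbad
    · have h := congrArg (fun X => X * (ρ t * ρ s)) (hall s hs t ht)
      simp only [← map_mul, one_mul] at h
      rw [show s * t * s⁻¹ * t⁻¹ * (t * s) = s * t by group, map_mul, map_mul] at h
      exact h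
    · obtain ⟨i, hi⟩ := IsPGroup.iff_orderOf.mp hT ⟨s, hS1T hs⟩
      rw [Subgroup.orderOf_mk] at hi
      rw [hi, Ne, CharP.cast_eq_zero_iff k 2]
      exact fun h => hq2 ((Nat.prime_dvd_prime_iff_eq Nat.prime_two hq.out).mp
        (Nat.prime_two.dvd_of_dvd_pow h)).symm
    · apply hw1
      rw [← ha]
      refine hfixD _ ⟨w1, ha.symm⟩ ?_
      rw [hφι, ← sub_eq_zero, sub_eq_add_neg, ← hιinv, ← hιmul, hι0]
      show z * (a : Γ) * z⁻¹ * (a : Γ)⁻¹ ∈ N
      refine (hN _ (mul_mem (Subgroup.Normal.conj_mem inferInstance _ a.2 z) (inv_mem a.2))).mpr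
        ⟨1, ?_⟩
      rw [one_smul, map_mul ρ (z * a * z⁻¹), heq, ← map_mul, mul_inv_cancel, map_one]
  rcases degree_of_symplectic (q := q) (p := 2) ρ S1 hq2 (hT.to_le hS1T) y hyS1 hf hy
      (fun s hs t ht => hscal _ (hcomm s (hS1T hs) t (hS1T ht))) hne
      (fun s hs hfixs => by
        obtain ⟨hsT, hsD⟩ := hs
        refine hscal _ ((hι0 ⟨s, hsT⟩).mp (hfixD _ hsD ?_))
        rw [hφι]
        exact congrArg ι (Subtype.ext hfixs)) with hfull | ⟨-, m, hm, hqm, R, hRS1, hR, hRcard⟩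
  · exact absurd hbad hfull
  obtain ⟨rfl, hf2, hqf, hq4⟩ := mersenne_pow hq.out hm hqm
  refine ⟨hf2, hq4, hqf, ?_, ?_⟩
  · let ψ : ↥S1 →* Multiplicative (LinearMap.range D) :=
      { toFun := fun s => Multiplicative.ofAdd ⟨ι ⟨s, hS1T s.2⟩, s.2.2⟩
        map_one' := rfl
        map_mul' := fun _ _ => rfl }
    have hψs : Function.Surjective ψ := by
      intro v
      obtain ⟨t, ht⟩ := hιsurj (v.toAdd : Additive ↥(T.map (QuotientGroup.mk' N)))
      exact ⟨⟨t, t.2, ht ▸ v.toAdd.2⟩, Multiplicative.toAdd.injective (Subtype.ext ht)⟩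
    have hψk : ψ.ker = N.subgroupOf S1 := by
      ext s
      rw [MonoidHom.mem_ker, mem_subgroupOf, ← hι0 ⟨s, hS1T s.2⟩]
      exact ⟨fun h => congrArg (fun v => ((Multiplicative.toAdd v : LinearMap.range D) : Additive ↥(T.map (QuotientGroup.mk' N)))) h,
        fun h => Multiplicative.toAdd.injective (Subtype.ext h)⟩
    have h1 : Nat.card (LinearMap.range D) = N.relIndex S1 := by
      rw [relIndex, ← hψk, Subgroup.index_ker, MonoidHom.range_eq_top.mpr hψs, card_top,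
        Nat.card_congr Multiplicative.toAdd]
    have h2 : N.relIndex S1 ∣ q ^ 2 := by
      rw [pow_two, ← pow_one q, ← hqm, ← hRcard]
      exact relIndex_dvd_of_le_left S1 fun r hr => (hN r (hS1T (hRS1 hr))).mpr (hR r hr)
    rw [← h1, Module.natCard_eq_pow_finrank (K := ZMod q), Nat.card_zmod] at h2
    exact (Nat.pow_le_pow_iff_right hq.out.one_lt).mp (Nat.le_of_dvd (pow_pos hq.out.pos 2) h2)
  · intro g hg γ hγ
    obtain ⟨s, hs, t, ht, hst⟩ := hne
    set π := ρ.toHomUnits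
    have hcen : ∀ x ∈ N, ∀ w : (Module.End k W)ˣ, Commute (π x) w := fun x hx w => by
      obtain ⟨a, ha⟩ := hscal x hx
      refine Units.ext ?_
      show ρ x * (w : Module.End k W) = (w : Module.End k W) * ρ x
      rw [ha, smul_mul_assoc, one_mul, mul_smul_comm, mul_one]
    have hscalpow : ∀ s' ∈ S1, ∃ ν ∈ N, g * s' * g⁻¹ = s' ^ γ.val * ν := by
      intro s' hs'
      obtain ⟨hsT, w, hw⟩ := hs'
      refine ⟨(s' ^ γ.val)⁻¹ * (g * s' * g⁻¹), ?_, by group⟩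
      have e : φ g (ι ⟨s', hsT⟩) = γ.val • ι ⟨s', hsT⟩ := by
        rw [← hw, ← Module.End.mul_apply, hγ, LinearMap.smul_apply, ← Nat.cast_smul_eq_nsmul (ZMod q),
          ZMod.natCast_zmod_val]
      have hn : ∀ n : ℕ, n • ι ⟨s', hsT⟩ = ι (⟨s', hsT⟩ ^ n) := by
        intro n
        induction n with
        | zero => rw [zero_smul, pow_zero, hι1]
        | succ n ih => rw [succ_nsmul, ih, pow_succ, hιmul]
      rw [hφι, hn, ← sub_eq_zero, sub_eq_neg_add, ← hιinv, ← hιmul, hι0] at e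
      exact e
    obtain ⟨ν, hν, es⟩ := hscalpow s hs
    obtain ⟨ν', hν', et⟩ := hscalpow t ht
    have hδN := hcomm s (hS1T hs) t (hS1T ht)
    have h1 : π (g * ⁅s, t⁆ * g⁻¹) = π ⁅s, t⁆ := Units.ext (hg s (hS1T hs) t (hS1T ht))
    rw [show g * ⁅s, t⁆ * g⁻¹ = ⁅g * s * g⁻¹, g * t * g⁻¹⁆ by
      simp only [commutatorElement_def]; group, es, et, map_commutatorElement, map_mul, map_mul,
      comm_mul_central (hcen ν hν) (hcen ν' hν'), map_pow, map_pow, map_commutatorElement π s t,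
      comm_pow_pow (fun w => by rw [← map_commutatorElement]; exact hcen _ hδN w)] at h1
    have h2 : orderOf ⁅π s, π t⁆ = q := by
      refine orderOf_eq_prime ?_ ?_
      · rw [← map_commutatorElement]
        exact Units.ext (hexact s (hS1T hs) t (hS1T ht))
      · rw [← map_commutatorElement, commutatorElement_def]
        exact fun h => hst (congrArg Units.val h)
    nth_rewrite 2 [← pow_one ⁅π s, π t⁆] at h1
    rw [pow_eq_pow_iff_modEq, h2, ← ZMod.natCast_eq_natCast_iff, Nat.cast_mul, Nat.cast_one,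
      ZMod.natCast_zmod_val, ← pow_two] at h1
    exact h1


/-- The section `T / N` of scalars, as a module, and what a top power does on it. -/
theorem section_small {k : Type*} [Field k] [IsAlgClosed k] [CharP k 2] {q : ℕ} [hq : Fact q.Prime]
    (hq2 : q ≠ 2) {Γ : Type u} [Group Γ] [Finite Γ] {W : Type v} [AddCommGroup W] [Module k W]
    [FiniteDimensional k W] (ρ : Γ →* Module.End k W) (T N : Subgroup Γ) [T.Normal] [N.Normal]
    (hT : IsPGroup q T) (hNT : N ≤ T) (hN : ∀ t ∈ T, t ∈ N ↔ ∃ a : k, ρ t = a • 1)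
    (hcomm : ∀ s ∈ T, ∀ t ∈ T, ⁅s, t⁆ ∈ N) (hpow : ∀ t ∈ T, t ^ q ∈ N)
    (hexact : ∀ s ∈ T, ∀ t ∈ T, ρ ⁅s, t⁆ ^ q = 1)
    (y : Γ) {f : ℕ} (hf : 1 ≤ f) (hy : y ^ 2 ^ f = 1) (hbad : (ρ y - 1) ^ (2 ^ f - 1) = 0) :
    ∃ (M : Type u) (_ : AddCommGroup M) (_ : Module (ZMod q) M) (_ : FiniteDimensional (ZMod q) M)
      (φ : Γ →* Module.End (ZMod q) M), (∀ g, φ g = 1 ↔ ∀ t ∈ T, ⁅g, t⁆ ∈ N) ∧
      (φ (y ^ 2 ^ (f - 1)) = 1 ∨ 2 ≤ f ∧ q % 4 = 3 ∧ q + 1 = 2 ^ f ∧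
        finrank (ZMod q) (LinearMap.range (φ (y ^ 2 ^ (f - 1)) - 1)) ≤ 2 ∧
        ∀ g, (∀ s ∈ T, ∀ t ∈ T, ρ (g * ⁅s, t⁆ * g⁻¹) = ρ ⁅s, t⁆) → ∀ γ : ZMod q,
          φ g * (φ (y ^ 2 ^ (f - 1)) - 1) = γ • (φ (y ^ 2 ^ (f - 1)) - 1) → γ ^ 2 = 1) := by
  classical
  haveI : Fact (Nat.Prime 2) := ⟨Nat.prime_two⟩
  haveI : (T.map (QuotientGroup.mk' N)).Normal := Subgroup.Normal.map inferInstance _ (QuotientGroup.mk'_surjective N)
  haveI : IsMulCommutative ↥(T.map (QuotientGroup.mk' N)) := ⟨⟨by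
        rintro ⟨_, a, ha, rfl⟩ ⟨_, b, hb, rfl⟩
        refine Subtype.ext ?_
        show QuotientGroup.mk' N a * QuotientGroup.mk' N b = QuotientGroup.mk' N b * QuotientGroup.mk' N a
        rw [← commutatorElement_eq_one_iff_mul_comm, ← map_commutatorElement]
        exact (QuotientGroup.eq_one_iff _).mpr (hcomm a ha b hb)⟩⟩
  have hMq : ∀ m : ↥(T.map (QuotientGroup.mk' N)), m ^ q = 1 := by
    rintro ⟨_, a, ha, rfl⟩
    refine Subtype.ext ?_
    rw [SubgroupClass.coe_pow, ← map_pow, OneMemClass.coe_one]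
    exact (QuotientGroup.eq_one_iff _).mpr (hpow a ha)
  letI : Module (ZMod q) (Additive ↥(T.map (QuotientGroup.mk' N))) := AddCommGroup.zmodModule fun x => hMq x.toMul
  obtain ⟨φ, h⟩ := section_small_aux (q := q) hq2 ρ T N hT hNT hN hcomm hpow hexact y hf hy hbad
  exact ⟨Additive ↥(T.map (QuotientGroup.mk' N)), inferInstance, inferInstance, Module.Finite.of_finite, φ, h⟩

end Cfsg.Agent.HallHigman
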