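import Cfsg.Agent.Lib.HallHigman.Plane
import Cfsg.Agent.Lib.HallHigman.ExponentTwo
import Cfsg.Agent.Lib.Components.FFThompson

/-!
# Two steps of the upper series lower the exponent for the prime two
-/

set_option autoImplicit false
set_option linter.unusedSectionVars false
set_option linter.style.haveILetI false
set_option maxHeartbeats 1000000

namespace Cfsg.Agent.HallHigman

open Module Subgroup
open scoped commutatorElement IsMulCommutative TensorProduct

universe u v

theorem invertedGen {H : Type*} [Group H] {z : H} (hzz : z * z = 1) (g : H) :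
    z * ⁅g, z⁆ * z⁻¹ = ⁅g, z⁆⁻¹ := by
  have hzi : z⁻¹ = z := inv_eq_of_mul_eq_one_right hzz
  simp only [commutatorElement_def, mul_inv_rev, inv_inv]
  simp only [hzi, mul_assoc, hzz, mul_one]

/-- A Mersenne prime power is a prime. -/
theorem mersenne_pow {q m f : ℕ} (hq : q.Prime) (hm : 1 ≤ m) (h : 2 ^ f - 1 = q ^ m) :
    m = 1 ∧ 2 ≤ f ∧ q + 1 = 2 ^ f ∧ q % 4 = 3 := by
  have hq1 := hq.two_le
  have hqm : q ≤ q ^ m := Nat.le_self_pow (by omega) q
  have hf2 : 2 ≤ f := by
    by_contra hlt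
    have : 2 ^ f ≤ 2 ^ 1 := Nat.pow_le_pow_right (by norm_num) (by omega)
    omega
  have h4 : q ^ m % 4 = 3 := by
    obtain ⟨f', rfl⟩ : ∃ f', f = f' + 2 := ⟨f - 2, by omega⟩
    have : 2 ^ (f' + 2) = 4 * 2 ^ f' := by ring
    omega
  have hmodd : Odd m := by
    by_contra hne
    obtain ⟨l, rfl⟩ := Nat.not_odd_iff_even.mp hne
    rw [← two_mul, pow_mul', pow_two, Nat.mul_mod] at h4
    have h5 : q ^ l % 4 < 4 := Nat.mod_lt _ (by norm_num)
    rcases (by omega : q ^ l % 4 = 0 ∨ q ^ l % 4 = 1 ∨ q ^ l % 4 = 2 ∨ q ^ l % 4 = 3) with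
      h6 | h6 | h6 | h6 <;> rw [h6] at h4 <;> norm_num at h4
  set S : ℤ := ∑ i ∈ Finset.range m, (-(q : ℤ)) ^ i with hS
  have hSeq : S * ((q : ℤ) + 1) = (q : ℤ) ^ m + 1 := by
    have h1 := geom_sum_mul (-(q : ℤ)) m
    rw [hmodd.neg_pow] at h1
    linear_combination (-1 : ℤ) * h1
  have hqodd : Odd (q : ℤ) := by
    rw [Int.odd_coe_nat, Nat.odd_iff]
    rcases hq.eq_two_or_odd with rfl | h'
    · exfalso
      obtain ⟨m', rfl⟩ : ∃ m', m = m' + 1 := ⟨m - 1, by omega⟩
      rw [pow_succ] at h4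
      omega
    · exact h'
  have hSodd : Odd S := by
    have key : ∀ n : ℕ, Odd (∑ i ∈ Finset.range n, (-(q : ℤ)) ^ i) ↔ Odd n := by
      intro n
      induction n with
      | zero => simp
      | succ n ih =>
        rw [Finset.sum_range_succ, Int.odd_add, ih, Nat.odd_add_one]
        have : ¬ Even ((-(q : ℤ)) ^ n) := Int.not_even_iff_odd.mpr (hqodd.neg.pow)
        tauto
    exact (key m).mpr hmodd
  have hdvd : S.natAbs ∣ 2 ^ f := by
    have h7 : (q : ℤ) ^ m + 1 = ((2 ^ f : ℕ) : ℤ) := by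
      have : q ^ m + 1 = 2 ^ f := by omega
      exact_mod_cast this
    rw [← Int.natAbs_natCast (2 ^ f), ← h7, ← hSeq, Int.natAbs_mul]
    exact dvd_mul_right _ _
  have hS1 : S.natAbs = 1 :=
    Nat.Coprime.eq_one_of_dvd
      ((Nat.coprime_two_right.mpr (Int.natAbs_odd.mpr hSodd)).pow_right f) hdvd
  have h8 : (q : ℤ) ^ m + 1 = (q : ℤ) + 1 := by
    rcases Int.natAbs_eq S with h9 | h9 <;> rw [hS1] at h9 <;> push_cast at h9 <;> rw [h9] at hSeq
    · linarith
    · nlinarith [pow_nonneg (Int.natCast_nonneg q) m]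
  have h10 : q ^ m = q ^ 1 := by
    rw [pow_one]
    have : (q : ℤ) ^ m = (q : ℤ) := by linarith
    exact_mod_cast this
  have hm1 := Nat.pow_right_injective hq1 h10
  subst hm1
  rw [pow_one] at h h4
  exact ⟨rfl, hf2, by omega, h4⟩

theorem pow_in_commutator {U : Type*} [Group U] {s t : U} (h : ∀ g : U, Commute ⁅s, t⁆ g) (n : ℕ) :
    ⁅s ^ n, t⁆ = ⁅s, t⁆ ^ n := by
  induction n with
  | zero => simp
  | succ n ih =>
    rw [pow_succ', comm_mul_left (by rw [ih]; exact (h s).pow_left n)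
      (by rw [ih]; exact (Commute.refl _).pow_right n), ih, pow_succ']

theorem comm_pow_pow {U : Type*} [Group U] {s t : U} (h : ∀ g : U, Commute ⁅s, t⁆ g) (n n' : ℕ) :
    ⁅s ^ n, t ^ n'⁆ = ⁅s, t⁆ ^ (n * n') := by
  have h2 : ∀ g : U, Commute ⁅t, s ^ n⁆ g := fun g => by
    rw [← commutatorElement_inv, pow_in_commutator h n]
    exact ((h g).pow_left n).inv_left
  rw [← commutatorElement_inv (t ^ n') (s ^ n), pow_in_commutator h2 n', ← inv_pow,
    commutatorElement_inv, pow_in_commutator h n, ← pow_mul]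

/-- Data for a top power moving an odd subgroup. -/
theorem inverted_data {k : Type*} [Field k] [IsAlgClosed k] [CharP k 2] {H : Type*} [Group H]
    [Finite H] {V : Type*} [AddCommGroup V] [Module k V] [FiniteDimensional k V]
    (σ : H →* Module.End k V) (y : H) {e : ℕ} (he : 1 ≤ e) (hy : y ^ 2 ^ e = 1)
    (hbad : (σ y - 1) ^ (2 ^ e - 1) = 0) {r : ℕ} [hr : Fact r.Prime] (hr2 : r ≠ 2) (R0 : Subgroup H)
    (hR0 : IsPGroup r R0) (hyR0 : y ∈ normalizer (R0 : Set H))
    (hne : ∃ x ∈ R0, ¬ Commute (σ x) (σ (y ^ 2 ^ (e - 1)))) :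
    2 ≤ e ∧ ∃ R : Subgroup H, R ≤ R0 ∧ y ∈ normalizer (R : Set H) ∧
      ⁅R, zpowers (y ^ 2 ^ (e - 1))⁆ = R ∧
      (∀ g ∈ R, ∀ h ∈ R, ∀ l ∈ R, σ ⁅⁅g, h⁆, l⁆ = 1) ∧
      (∀ g ∈ R, ∀ h ∈ R, σ ⁅⁅g, h⁆, y ^ 2 ^ (e - 1)⁆ = 1) ∧
      ∃ a ∈ R, y ^ 2 ^ (e - 1) * a * (y ^ 2 ^ (e - 1))⁻¹ = a⁻¹ ∧
        σ ⁅a, y ^ 2 ^ (e - 2) * a * (y ^ 2 ^ (e - 2))⁻¹⁆ ≠ 1 := by
  classical
  haveI : Fact (Nat.Prime 2) := ⟨Nat.prime_two⟩
  have he2 : 2 ≤ e := by
    by_contra hlt
    obtain rfl : e = 1 := by omega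
    obtain ⟨x, -, hx⟩ := hne
    simp only [pow_one, show (2 : ℕ) - 1 = 1 from rfl, sub_eq_zero] at hbad
    apply hx
    simp only [Nat.sub_self, pow_zero, pow_one, hbad]
    exact Commute.one_right _
  refine ⟨he2, ?_⟩
  set z := y ^ 2 ^ (e - 1) with hz
  set u := y ^ 2 ^ (e - 2) with hu
  have huu : u * u = z := by
    rw [hu, hz, ← pow_two, ← pow_mul, ← pow_succ]; congr 2; omega
  have hzz : z * z = 1 := by
    rw [hz, ← pow_two, ← pow_mul, ← pow_succ, show e - 1 + 1 = e by omega, hy]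
  set π := σ.toHomUnits with hπ
  have hval : ∀ g h, Commute (σ g) (σ h) ↔ Commute (π g) (π h) := fun g h =>
    ⟨fun e => Units.ext e, fun e => congrArg Units.val e⟩
  have hone : ∀ g, π g = 1 → σ g = 1 := fun g h => congrArg Units.val h
  have hone' : ∀ g, σ g = 1 → π g = 1 := fun g h => Units.ext h
  obtain ⟨R, hRR0, ⟨-, hyR, hRne⟩, hmin⟩ := Finite.exists_le_minimal
    (p := fun R : Subgroup H => R ≤ R0 ∧ y ∈ normalizer (R : Set H) ∧
      ∃ x ∈ R, ¬ Commute (σ x) (σ z)) (a := R0) ⟨le_rfl, hyR0, hne⟩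
  have hR : IsPGroup r R := hR0.to_le hRR0
  have hlt : ∀ T : Subgroup H, T ≤ R → T ≠ R → y ∈ normalizer (T : Set H) →
      ∀ x ∈ T, Commute (π x) (π z) := by
    intro T hT hne' hyT x hx
    by_contra h
    exact hne' (le_antisymm hT (hmin ⟨hT.trans hRR0, hyT, x, hx, fun h' => h ((hval _ _).mp h')⟩ hT))
  have hzR : z ∈ normalizer (R : Set H) := pow_mem hyR _
  have huR : u ∈ normalizer (R : Set H) := pow_mem hyR _
  have hcopR : (Nat.card (zpowers z)).Coprime (Nat.card R) := by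
    obtain ⟨i, hi⟩ := hR.exists_card_eq
    rw [hi, Nat.card_zpowers]
    refine (((Nat.coprime_primes Nat.prime_two hr.out).mpr hr2.symm).coprime_dvd_left
      (orderOf_dvd_of_pow_eq_one (by rw [pow_two, hzz]))).pow_right i
  haveI : Group.IsNilpotent R := hR.isNilpotent
  have hRz : ⁅R, zpowers z⁆ = R := by
    by_contra hne'
    have hle : ⁅R, zpowers z⁆ ≤ R := le_normalizer_iff_commutator_le_left.mp (zpowers_le.mpr hzR)
    have hyn : y ∈ normalizer ((⁅R, zpowers z⁆ : Subgroup H) : Set H) := by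
      refine mem_normalizer_iff_map_conj_eq.mpr ?_
      rw [map_commutator]
      congr 1
      · exact mem_normalizer_iff_map_conj_eq.mp hyR
      · rw [MonoidHom.map_zpowers]
        congr 1
        show y * z * y⁻¹ = z
        rw [hz, (Commute.self_pow y _).eq, mul_inv_cancel_right]
    have h1 := hlt _ hle hne' hyn
    obtain ⟨x, hx, hxz⟩ := hRne
    apply hxz
    have h2 : (⁅⁅R, zpowers z⁆, zpowers z⁆).map π = ⊥ := by
      rw [map_commutator, commutator_eq_bot_iff_le_centralizer]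
      rintro _ ⟨w', hw', rfl⟩
      rw [mem_centralizer_iff]
      rintro _ ⟨w, hw, rfl⟩
      obtain ⟨i, rfl⟩ := mem_zpowers_iff.mp hw
      rw [map_zpow]
      exact (((h1 w' hw').symm).zpow_left i).eq
    rw [Basics.commutator_commutator_eq (zpowers z) R (zpowers_le.mpr hzR) hcopR
      (Or.inr inferInstance)] at h2
    have h3 : π ⁅x, z⁆ ∈ (⊥ : Subgroup _) := by
      rw [← h2]; exact mem_map_of_mem π (commutator_mem_commutator hx (mem_zpowers z))
    rw [mem_bot, map_commutatorElement, commutatorElement_eq_one_iff_commute] at h3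
    exact (hval _ _).mpr h3
  set D := ⁅R, R⁆
  have hDR : D ≤ R := commutator_le_self R
  have hDne : D ≠ R := by
    intro h
    haveI : Nontrivial R := by
      rw [nontrivial_iff_ne_bot]
      rintro rfl
      obtain ⟨x, hx, hxz⟩ := hRne
      rw [mem_bot.mp hx, map_one] at hxz
      exact hxz (Commute.one_left _)
    refine (Group.IsSolvable.commutator_lt_top_of_nontrivial R).ne ?_
    refine map_injective R.subtype_injective ?_
    rw [map_subtype_commutator, ← MonoidHom.range_eq_map, range_subtype]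
    exact h
  have hnD : ∀ g ∈ normalizer (R : Set H), g ∈ normalizer (D : Set H) := fun g hg =>
    mem_normalizer_iff_map_conj_eq.mpr (by
      rw [map_commutator]; congr 1 <;> exact mem_normalizer_iff_map_conj_eq.mp hg)
  have hDz := hlt D hDR hDne (hnD y hyR)
  have hDcomm : ∀ x ∈ D, ∀ g ∈ R, Commute (π x) (π g) := by
    intro x hx
    have hle : R ≤ (centralizer ({π x} : Set _)).comap π := by
      conv_lhs => rw [← hRz]
      rw [commutator_le]
      intro g hg w hw
      rw [mem_comap, mem_centralizer_singleton_iff]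
      have hgx : g⁻¹ * x * g ∈ D := by
        have := (mem_normalizer_iff.mp (hnD _ (le_normalizer (inv_mem hg))) x).mp hx
        rwa [inv_inv] at this
      obtain ⟨i, rfl⟩ := mem_zpowers_iff.mp hw
      have e1 : Commute (π x) (π z ^ i) := (hDz x hx).zpow_right i
      have e3 : Commute (π (g⁻¹ * x * g)) (π z ^ i) := (hDz _ hgx).zpow_right i
      rw [map_mul, map_mul, map_inv] at e3
      have e2 : Commute (π x) (π g * π z ^ i * (π g)⁻¹) := by
        have h := congrArg (fun w => π g * w * (π g)⁻¹) e3.eq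
        simp only [← mul_assoc, mul_inv_cancel, one_mul] at h
        show π x * (π g * π z ^ i * (π g)⁻¹) = π g * π z ^ i * (π g)⁻¹ * π x
        simpa [mul_assoc] using h
      rw [map_commutatorElement, map_zpow, commutatorElement_def]
      exact (e2.mul_right e1.inv_right).eq.symm
    intro g hg
    exact (mem_centralizer_singleton_iff.mp (hle hg)).symm
  refine ⟨R, hRR0, hyR, hRz, fun g hg h hh l hl => hone _ (by
    rw [map_commutatorElement, commutatorElement_eq_one_iff_commute]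
    exact hDcomm _ (commutator_mem_commutator hg hh) l hl), fun g hg h hh => hone _ (by
    rw [map_commutatorElement, commutatorElement_eq_one_iff_commute]
    exact hDz _ (commutator_mem_commutator hg hh)), ?_⟩
  have hcast : ∀ x ∈ R, (orderOf x : k) ≠ 0 := by
    intro x hx
    obtain ⟨i, hi⟩ := IsPGroup.iff_orderOf.mp hR ⟨x, hx⟩
    rw [Subgroup.orderOf_mk] at hi
    rw [hi, Ne, CharP.cast_eq_zero_iff k 2]
    exact fun h2 => hr2 ((Nat.prime_dvd_prime_iff_eq Nat.prime_two hr.out).mp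
      (Nat.prime_two.dvd_of_dvd_pow h2)).symm
  have hodd : ∀ x ∈ R, Odd (orderOf x) := fun x hx => odd_orderOf_pGroup hr2 hR hx
  by_cases habel : ∀ x ∈ R, ∀ w ∈ R, Commute (π x) (π w)
  · exfalso
    obtain ⟨x, hx, hxz⟩ := hRne
    refine full_degree_of_abelian (p := 2) σ R y hyR hy
      (fun a ha b hb => (hval _ _).mpr (habel a ha b hb)) hcast ⟨x, hx, fun h => hxz ?_⟩ hbad
    show σ x * σ z = σ z * σ x
    rw [← map_mul σ z x, show z * x = z * x * z⁻¹ * z by group, map_mul σ (z * x * z⁻¹), h]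
  push Not at habel
  obtain ⟨x0, hx0, w0, hw0, hxw⟩ := habel
  obtain ⟨s, hs, t, ht, hsi, hti, hst⟩ := exists_inverted_noncomm π hzz R hRz ⟨x0, hx0, w0, hw0,
    fun h => hxw (by rwa [map_commutatorElement, commutatorElement_eq_one_iff_commute] at h)⟩
  by_contra hall
  push Not at hall
  have hinv : π u * ⁅π s, π t⁆ * (π u)⁻¹ = ⁅π s, π t⁆⁻¹ := by
    refine inverts_commutator (π u) (R.map π) ?_ ?_ ?_ ?_ (mem_map_of_mem π hs) (mem_map_of_mem π ht)
      ?_ ?_
    · rintro _ ⟨x, hx, rfl⟩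
      exact ⟨u * x * u⁻¹, (mem_normalizer_iff.mp huR x).mp hx, by simp⟩
    · rintro _ ⟨x, hx, rfl⟩ _ ⟨w, hw, rfl⟩ _ ⟨l, hl, rfl⟩
      rw [← map_commutatorElement]
      exact hDcomm _ (commutator_mem_commutator hx hw) l hl
    · rintro _ ⟨x, hx, rfl⟩
      exact (hodd x hx).of_dvd_nat (orderOf_map_dvd π x)
    · rintro _ ⟨x, hx, rfl⟩ hxi
      obtain ⟨m, hm⟩ := (hodd x hx).of_dvd_nat (orderOf_map_dvd π x)
      set a := ⁅x, z⁆ ^ (m + 1) with ha
      have hxzR : ⁅x, z⁆ ∈ R := by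
        rw [show ⁅x, z⁆ = x * (z * x⁻¹ * z⁻¹) by rw [commutatorElement_def]; group]
        exact mul_mem hx ((mem_normalizer_iff.mp hzR _).mp (inv_mem hx))
      have hai : z * a * z⁻¹ = a⁻¹ := by rw [ha, ← conj_pow, invertedGen hzz, inv_pow]
      have hπa : π a = π x := by
        have hi : π z * (π x)⁻¹ * (π z)⁻¹ = π x := by
          have := congrArg (fun w => w⁻¹) hxi
          simp only [inv_inv, mul_inv_rev] at this
          rw [← huu, map_mul]
          simpa [mul_assoc] using this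
        rw [ha, map_pow, map_commutatorElement, commutatorElement_def, mul_assoc (π x), mul_assoc (π x),
          hi, ← pow_two, ← pow_mul, show 2 * (m + 1) = (2 * m + 1) + 1 by ring, pow_succ, ← hm,
          pow_orderOf_eq_one, one_mul]
      have h := hone' _ (hall a (pow_mem hxzR _) hai)
      rw [map_commutatorElement, map_mul, map_mul, map_inv, hπa] at h
      exact h
    · rw [← map_mul, huu, ← map_inv, ← map_inv, ← map_mul, ← map_mul, hsi]
    · rw [← map_mul, huu, ← map_inv, ← map_inv, ← map_mul, ← map_mul, hti]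
  -- a character
  set Z1 := R ⊓ (centralizer (π '' (R : Set H) : Set _)).comap π with hZ1
  set δ := ⁅s, t⁆
  have hZmem : ∀ x, x ∈ Z1 ↔ x ∈ R ∧ ∀ w ∈ R, Commute (π x) (π w) := by
    intro x
    simp only [hZ1, mem_inf, mem_comap, mem_centralizer_iff, Set.forall_mem_image, SetLike.mem_coe]
    exact and_congr_right fun _ => forall₂_congr fun w _ => eq_comm
  have hyZ : y ∈ normalizer (Z1 : Set H) := by
    refine mem_normalizer_iff_map_conj_eq.mpr (eq_of_le_of_card_ge ?_
      (card_map_of_injective (MulAut.conj y).injective).ge)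
    rintro _ ⟨x, hx, rfl⟩
    obtain ⟨hxR, hxc⟩ := (hZmem x).mp hx
    show y * x * y⁻¹ ∈ Z1
    refine (hZmem _).mpr ⟨(mem_normalizer_iff.mp hyR x).mp hxR, fun w hw => ?_⟩
    have h := hxc (y⁻¹ * w * y) (by
      have := (mem_normalizer_iff.mp (inv_mem hyR) w).mp hw
      rwa [inv_inv] at this)
    have h' := h.map (MulAut.conj (π y))
    simpa [mul_assoc] using h'
  have hδD : δ ∈ D := commutator_mem_commutator hs ht
  have hδZ : δ ∈ Z1 := (hZmem δ).mpr ⟨hDR hδD, hDcomm δ hδD⟩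
  have hZab : ∀ a ∈ Z1, ∀ b ∈ Z1, Commute (σ a) (σ b) := fun a ha b hb =>
    (hval _ _).mpr (((hZmem a).mp ha).2 b ((hZmem b).mp hb).1)
  obtain ⟨χ, -, ⟨v, hv, hv0⟩, hχ1⟩ := exists_char_ne σ Z1 hZab hδZ
    (fun h => hst (hone' _ h)) (hcast _ (hDR hδD))
  have hχeq : ∀ a ∈ Z1, ∀ b ∈ Z1, π a = π b → χ a = χ b := fun a ha b hb h => by
    have h' : σ a = σ b := congrArg Units.val h
    have e := hv a ha
    rw [h', hv b hb] at e
    exact (smul_left_injective k hv0 e).symm
  have hzfix : ∀ a ∈ Z1, χ (z * a * z⁻¹) = χ a := by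
    intro a ha
    refine hχeq _ ((mem_normalizer_iff.mp (pow_mem hyZ _) a).mp ha) a ha ?_
    have hc : Commute (π a) (π z) := by
      by_cases hZR : Z1 = R
      · exact absurd (fun x hx w hw => ((hZmem x).mp (hZR.ge hx)).2 w hw) (fun h =>
          hxw (h x0 hx0 w0 hw0))
      · exact hlt Z1 inf_le_left hZR hyZ a ha
    rw [map_mul, map_mul, map_inv, hc.symm.eq, mul_inv_cancel_right]
  obtain ⟨j, hj, hχy, hbadW⟩ := descend (p := 2) σ Z1 χ y he hyZ hy hbad hzfix
  have hord : ∀ (g : H) (w : V), Odd (orderOf g) → σ (g * g) w = w → σ g w = w := by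
    intro g w hg h
    obtain ⟨m, hm⟩ := hg
    have h2 : ∀ n : ℕ, σ ((g * g) ^ n) w = w := by
      intro n
      induction n with
      | zero => simp
      | succ n ih => rw [pow_succ, map_mul, Module.End.mul_apply, h, ih]
    have h3 := h2 (m + 1)
    rwa [← pow_two, ← pow_mul, show 2 * (m + 1) = (2 * m + 1) + 1 by ring, pow_succ, ← hm,
      pow_orderOf_eq_one, one_mul] at h3
  rcases (show j = e - 1 ∨ j ≤ e - 2 by omega) with rfl | hj2
  · -- `z` is trivial on the eigenspace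
    have hzW : ∀ w ∈ eigW σ Z1 χ, σ z w = w := fun w hw => by
      have h := hbadW w hw
      rw [show e - (e - 1) = 1 by omega, pow_one, show (2 : ℕ) - 1 = 1 from rfl, pow_one,
        LinearMap.sub_apply, Module.End.one_apply, sub_eq_zero] at h
      exact h
    have hpres : ∀ g ∈ R, ∀ w ∈ eigW σ Z1 χ, σ g w ∈ eigW σ Z1 χ := fun g hg w hw b hb => by
      rw [← Module.End.mul_apply, ((hval _ _).mpr (((hZmem b).mp hb).2 g hg)).eq,
        Module.End.mul_apply, hw b hb, map_smul]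
    have hfix : ∀ g ∈ R, z * g * z⁻¹ = g⁻¹ → ∀ w ∈ eigW σ Z1 χ, σ g w = w := by
      intro g hg hgi w hw
      refine hord g w (hodd g hg) ?_
      have e1 : σ (z * g) w = σ (g⁻¹ * z) w :=
        congrArg (fun x => σ x w) (mul_inv_eq_iff_eq_mul.mp hgi)
      rw [map_mul σ z g, map_mul σ g⁻¹ z, Module.End.mul_apply, Module.End.mul_apply,
        hzW _ (hpres g hg w hw), hzW w hw] at e1
      rw [map_mul, Module.End.mul_apply, e1, ← Module.End.mul_apply, ← map_mul, mul_inv_cancel,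
        map_one, Module.End.one_apply]
    apply hχ1
    have e1 : σ δ v = v := by
      have e2 : σ (s * t) v = v := by
        rw [map_mul, Module.End.mul_apply, hfix t ht hti v hv, hfix s hs hsi v hv]
      have e3 : σ (t * s) v = v := by
        rw [map_mul, Module.End.mul_apply, hfix s hs hsi v hv, hfix t ht hti v hv]
      conv_lhs => rw [← e3]
      rw [← Module.End.mul_apply, ← map_mul,
        show δ * (t * s) = s * t by simp only [δ, commutatorElement_def]; group, e2]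
    rw [hv δ hδZ] at e1
    exact smul_left_injective k hv0 (e1.trans (one_smul k v).symm)
  · have hiter : ∀ n : ℕ, ∀ a ∈ Z1,
        χ ((y ^ 2 ^ j) ^ n * a * ((y ^ 2 ^ j) ^ n)⁻¹) = χ a := by
      intro n
      induction n with
      | zero => intro a _; simp
      | succ n ih =>
        intro a ha
        rw [show (y ^ 2 ^ j) ^ (n + 1) * a * ((y ^ 2 ^ j) ^ (n + 1))⁻¹ =
          (y ^ 2 ^ j) ^ n * ((y ^ 2 ^ j) * a * (y ^ 2 ^ j)⁻¹) * ((y ^ 2 ^ j) ^ n)⁻¹ by
            rw [pow_succ]; group, ih _ ((mem_normalizer_iff.mp (pow_mem hyZ _) a).mp ha), hχy a ha]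
    have h1 := hiter (2 ^ (e - 2 - j)) δ hδZ
    rw [← pow_mul, ← pow_add, show j + (e - 2 - j) = e - 2 by omega, ← hu] at h1
    have hδu : u * δ * u⁻¹ ∈ Z1 := (mem_normalizer_iff.mp (pow_mem hyZ _) δ).mp hδZ
    have h2 := hχeq _ hδu δ⁻¹ (inv_mem hδZ) (by
      rw [map_mul, map_mul, map_inv, map_inv, map_commutatorElement]; exact hinv)
    rw [h1] at h2
    have h3 : χ δ * χ δ = 1 := by
      have e := congrArg (fun w => χ δ • w) (hv _ (inv_mem hδZ))
      simp only [smul_smul] at e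
      rw [← map_smul, ← hv δ hδZ, ← Module.End.mul_apply, ← map_mul, inv_mul_cancel, map_one,
        Module.End.one_apply, ← h2] at e
      exact smul_left_injective k hv0 (e.symm.trans (one_smul k v).symm)
    obtain ⟨m, hm⟩ := hodd δ (hDR hδD)
    have hp : ∀ n : ℕ, (σ δ ^ n) v = χ δ ^ n • v := by
      intro n
      induction n with
      | zero => simp
      | succ n ih =>
        rw [pow_succ', Module.End.mul_apply, ih, map_smul, hv δ hδZ, smul_smul, pow_succ]
    have h4 := hp (orderOf δ)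
    rw [← map_pow, pow_orderOf_eq_one, map_one, Module.End.one_apply, hm, pow_succ, pow_mul,
      pow_two, h3, one_pow, one_mul] at h4
    exact hχ1 (smul_left_injective k hv0 (h4.symm.trans (one_smul k v).symm))

/-- The assumptions pass to a subgroup containing them. -/
theorem PlaneData.comap {q r : ℕ} [Fact q.Prime] [Fact r.Prime] {Γ : Type u} [Group Γ]
    [Finite Γ] {M : Type*} [AddCommGroup M] [Module (ZMod q) M] [FiniteDimensional (ZMod q) M]
    {φ : Γ →* Module.End (ZMod q) M} {R C' : Subgroup Γ} {u a : Γ}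
    (d : PlaneData φ r R C' u a) (G1 : Subgroup Γ) (hR : R ≤ G1) (hu : u ∈ G1) :
    PlaneData (φ.comp G1.subtype) r (R.subgroupOf G1) (C'.subgroupOf G1) ⟨u, hu⟩ ⟨a, hR d.aR⟩ where
  q3 := d.q3
  qf := d.qf
  r2 := d.r2
  hR := d.hR.comap_subtype
  aR := mem_subgroupOf.mpr d.aR
  u4 := Subtype.ext d.u4
  uR := mem_normalizer_iff.mpr fun g => by
    simp only [mem_subgroupOf, Subgroup.coe_mul, Subgroup.coe_inv]
    exact mem_normalizer_iff.mp d.uR g
  cR := fun x hx => mem_subgroupOf.mpr (d.cR (mem_subgroupOf.mp hx))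
  rc := fun x hx => mem_normalizer_iff.mpr fun g => by
    simp only [mem_subgroupOf, Subgroup.coe_mul, Subgroup.coe_inv]
    exact mem_normalizer_iff.mp (d.rc (mem_subgroupOf.mp hx)) g
  uc := mem_normalizer_iff.mpr fun g => by
    simp only [mem_subgroupOf, Subgroup.coe_mul, Subgroup.coe_inv]
    exact mem_normalizer_iff.mp d.uc g
  hD := fun g hg h hh l hl => mem_subgroupOf.mpr (by
    simpa [commutatorElement_def] using d.hD g hg h hh l hl)
  hDz := fun g hg h hh => mem_subgroupOf.mpr (by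
    simpa [commutatorElement_def] using d.hDz g hg h hh)
  ha := Subtype.ext d.ha
  rank := d.rank
  scal := fun hne g hg γ h => d.scal hne g (mem_subgroupOf.mp hg) γ h

/-- The commutator commutes with every invariant `2`-group. -/
theorem PlaneData.commute_invariant {q r : ℕ} [hq : Fact q.Prime] [hr : Fact r.Prime] {Γ : Type u}
    [Group Γ] [Finite Γ] {M : Type*} [AddCommGroup M] [Module (ZMod q) M]
    [FiniteDimensional (ZMod q) M] {φ : Γ →* Module.End (ZMod q) M} {R C' : Subgroup Γ} {u a : Γ}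
    (d : PlaneData φ r R C' u a) (X : Subgroup Γ) (hX : IsPGroup 2 X)
    (hRX : R ≤ normalizer (X : Set Γ)) (huX : u ∈ normalizer (X : Set Γ))
    (hC'X : C' ≤ centralizer (X : Set Γ)) :
    ∀ x ∈ X, Commute (φ ⁅a, u * a * u⁻¹⁆) (φ x) := by
  classical
  haveI : Fact (Nat.Prime 2) := ⟨Nat.prime_two⟩
  set c := ⁅a, u * a * u⁻¹⁆ with hc
  by_contra hbad
  obtain ⟨E, hEX, ⟨-, hRE, huE, hEb⟩, hmin⟩ := Finite.exists_le_minimal
    (p := fun E : Subgroup Γ => E ≤ X ∧ R ≤ normalizer (E : Set Γ) ∧ u ∈ normalizer (E : Set Γ) ∧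
      ¬ ∀ x ∈ E, Commute (φ c) (φ x)) (a := X) ⟨le_rfl, hRX, huX, hbad⟩
  have hlt : ∀ T : Subgroup Γ, T ≤ E → T ≠ E → R ≤ normalizer (T : Set Γ) →
      u ∈ normalizer (T : Set Γ) → ∀ x ∈ T, Commute (φ c) (φ x) := by
    intro T hT hne hRT huT
    by_contra h
    exact hne (le_antisymm hT (hmin ⟨hT.trans hEX, hRT, huT, h⟩ hT))
  have hcR : c ∈ R := d.cmem
  have hcE : c ∈ normalizer (E : Set Γ) := hRE hcR
  have hC'E : C' ≤ centralizer (E : Set Γ) := hC'X.trans (centralizer_le hEX)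
  have hE : IsPGroup 2 E := hX.to_le hEX
  have hcopc : (Nat.card (zpowers c)).Coprime (Nat.card E) := by
    obtain ⟨i, hi⟩ := hE.exists_card_eq
    obtain ⟨j, hj⟩ := IsPGroup.iff_orderOf.mp d.hR ⟨c, hcR⟩
    rw [Subgroup.orderOf_mk] at hj
    rw [hi, Nat.card_zpowers, hj]
    exact Nat.Coprime.pow j i ((Nat.coprime_primes hr.out Nat.prime_two).mpr d.r2)
  haveI : Group.IsNilpotent E := hE.isNilpotent
  have hconjc : ∀ g, ⁅g, c⁆ ∈ C' → g ∈ normalizer (E : Set Γ) →
      g ∈ normalizer ((⁅E, zpowers c⁆ : Subgroup Γ) : Set Γ) := by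
    intro g hgc hgE
    refine mem_normalizer_iff_map_conj_eq.mpr (eq_of_le_of_card_ge ?_
      (card_map_of_injective (MulAut.conj g).injective).ge)
    rw [map_le_iff_le_comap, commutator_le]
    intro x hx w hw
    obtain ⟨n, rfl⟩ := (IsOfFinOrder.mem_powers_iff_mem_zpowers (isOfFinOrder_of_finite c)).mpr hw
    rw [mem_comap]
    show g * ⁅x, c ^ n⁆ * g⁻¹ ∈ ⁅E, zpowers c⁆
    rw [show g * ⁅x, c ^ n⁆ * g⁻¹ = ⁅g * x * g⁻¹, g * c ^ n * g⁻¹⁆ by
      simp only [commutatorElement_def]; group]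
    have hx' : g * x * g⁻¹ ∈ E := (mem_normalizer_iff.mp hgE x).mp hx
    rw [← conj_pow, show g * c * g⁻¹ = ⁅g, c⁆ * c by rw [commutatorElement_def]; group]
    have hκ : ∀ m : ℕ, ∃ κ ∈ C', (⁅g, c⁆ * c) ^ m = κ * c ^ m := by
      intro m
      induction m with
      | zero => exact ⟨1, one_mem _, by simp⟩
      | succ m ih =>
        obtain ⟨κ, hκ, e⟩ := ih
        refine ⟨κ * (c ^ m * ⁅g, c⁆ * (c ^ m)⁻¹),
          mul_mem hκ ((mem_normalizer_iff.mp (pow_mem (d.rc hcR) m) _).mp hgc), ?_⟩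
        rw [pow_succ, e, pow_succ]
        group
    obtain ⟨κ, hκ, e⟩ := hκ n
    rw [e]
    have hw' : ⁅g * x * g⁻¹, c ^ n⁆ ∈ ⁅E, zpowers c⁆ :=
      commutator_mem_commutator hx' (pow_mem (mem_zpowers c) n)
    have hcl : ⁅g * x * g⁻¹, c ^ n⁆ ∈ E :=
      le_normalizer_iff_commutator_le_left.mp (zpowers_le.mpr hcE) hw'
    rw [show ⁅g * x * g⁻¹, κ * c ^ n⁆ = ⁅g * x * g⁻¹, κ⁆ * (κ * ⁅g * x * g⁻¹, c ^ n⁆ * κ⁻¹) by
      simp only [commutatorElement_def]; group,
      commutatorElement_eq_one_iff_commute.mpr (mem_centralizer_iff.mp (hC'E hκ) _ hx'), one_mul,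
      ← mem_centralizer_iff.mp (hC'E hκ) _ hcl, mul_inv_cancel_right]
    exact hw'
  have huc : ⁅u, c⁆ ∈ C' := by
    have hconj : u * c * u⁻¹ = a⁻¹ * c * a := by
      rw [hc, show u * ⁅a, u * a * u⁻¹⁆ * u⁻¹ = ⁅u * a * u⁻¹, u * u * a * (u * u)⁻¹⁆ by
        simp only [commutatorElement_def]; group, d.ha]
      simp only [commutatorElement_def]; group
    rw [commutatorElement_def, hconj, show a⁻¹ * c * a * c⁻¹ = ⁅c, a⁻¹⁆⁻¹ by
      simp only [commutatorElement_def]; group]
    exact inv_mem (d.hD a d.aR _ (d.conj_mem d.aR) _ (inv_mem d.aR))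
  have hgR : ∀ g ∈ R, ⁅g, c⁆ ∈ C' := fun g hg => by
    rw [← commutatorElement_inv]
    exact inv_mem (d.hD a d.aR _ (d.conj_mem d.aR) g hg)
  have hEc : ⁅E, zpowers c⁆ = E := by
    by_contra hne
    have hle : ⁅E, zpowers c⁆ ≤ E := le_normalizer_iff_commutator_le_left.mp (zpowers_le.mpr hcE)
    have h1 := hlt _ hle hne (fun g hg => hconjc g (hgR g hg) (hRE hg)) (hconjc u huc huE)
    apply hEb
    intro x hx
    set π := φ.toHomUnits
    have h2 : (⁅⁅E, zpowers c⁆, zpowers c⁆).map π = ⊥ := by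
      rw [map_commutator, commutator_eq_bot_iff_le_centralizer]
      rintro _ ⟨w', hw', rfl⟩
      rw [mem_centralizer_iff]
      rintro _ ⟨w, hw, rfl⟩
      obtain ⟨i, rfl⟩ := mem_zpowers_iff.mp hw
      rw [map_zpow]
      exact ((show Commute (π c) (π w') from Units.ext (h1 w' hw')).zpow_left i).eq
    rw [Basics.commutator_commutator_eq (zpowers c) E (zpowers_le.mpr hcE) hcopc
      (Or.inr inferInstance)] at h2
    have h3 : π ⁅x, c⁆ ∈ (⊥ : Subgroup _) := by
      rw [← h2]; exact mem_map_of_mem π (commutator_mem_commutator hx (mem_zpowers c))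
    rw [mem_bot, map_commutatorElement, commutatorElement_eq_one_iff_commute] at h3
    exact congrArg Units.val h3.symm.eq
  have hnEE : ∀ g ∈ normalizer (E : Set Γ), g ∈ normalizer ((⁅E, E⁆ : Subgroup Γ) : Set Γ) :=
    fun g hg => mem_normalizer_iff_map_conj_eq.mpr (by
      rw [map_commutator]; congr 1 <;> exact mem_normalizer_iff_map_conj_eq.mp hg)
  have hEne : ⁅E, E⁆ ≠ E := by
    intro h
    haveI : Nontrivial E := by
      rw [nontrivial_iff_ne_bot]
      rintro rfl
      exact hEb fun x hx => by rw [mem_bot.mp hx, map_one]; exact Commute.one_right _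
    refine (Group.IsSolvable.commutator_lt_top_of_nontrivial E).ne ?_
    refine map_injective E.subtype_injective ?_
    rw [map_subtype_commutator, ← MonoidHom.range_eq_map, range_subtype]
    exact h
  have hDc := hlt _ (commutator_le_self E) hEne (fun g hg => hnEE g (hRE hg)) (hnEE u huE)
  set G1 := normalizer (E : Set Γ) ⊓ normalizer (C' : Set Γ)
  have hEG : E ≤ G1 := le_inf le_normalizer fun x hx => mem_normalizer_iff.mpr fun g => by
    constructor
    · intro hg
      rwa [(mem_centralizer_iff.mp (hC'E hg)) x hx, mul_inv_cancel_right]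
    · intro hg
      have e := (mem_centralizer_iff.mp (hC'E hg)) x⁻¹ (inv_mem hx)
      have : g = x * g * x⁻¹ := by
        calc g = x⁻¹ * (x * g * x⁻¹) * x := by group
          _ = (x * g * x⁻¹) * x⁻¹ * x := by rw [e]
          _ = x * g * x⁻¹ := by group
      rwa [this]
  have hRG : R ≤ G1 := le_inf hRE d.rc
  have huG : u ∈ G1 := ⟨huE, d.uc⟩
  have d1 := d.comap G1 hRG huG
  haveI : (E.subgroupOf G1).Normal := ⟨fun x hx g => mem_subgroupOf.mpr (by
    push_cast
    exact (mem_normalizer_iff.mp (mem_inf.mp g.2).1 _).mp (mem_subgroupOf.mp hx))⟩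
  haveI : (C'.subgroupOf G1).Normal := ⟨fun x hx g => mem_subgroupOf.mpr (by
    push_cast
    exact (mem_normalizer_iff.mp (mem_inf.mp g.2).2 _).mp (mem_subgroupOf.mp hx))⟩
  have hcoe : ((⁅(⟨a, hRG d.aR⟩ : G1), ⟨u, huG⟩ * ⟨a, hRG d.aR⟩ * ⟨u, huG⟩⁻¹⁆ : G1) : Γ) = c := by
    rw [hc, commutatorElement_def, commutatorElement_def]; rfl
  have h := d1.commute (E.subgroupOf G1) hE.comap_subtype
    (fun x hx => mem_centralizer_iff.mpr fun g hg => Subtype.ext
      (mem_centralizer_iff.mp (hC'E (mem_subgroupOf.mp hx)) _ (mem_subgroupOf.mp hg)))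
    (map_injective G1.subtype_injective (by
      rw [map_commutator, MonoidHom.map_zpowers, map_subgroupOf_eq_of_le hEG, Subgroup.coe_subtype,
        hcoe, hEc]))
    (fun x hx => by
      have hx' : (x : Γ) ∈ ⁅E, E⁆ := by
        have := mem_map_of_mem G1.subtype hx
        rwa [map_commutator, map_subgroupOf_eq_of_le hEG] at this
      rw [MonoidHom.comp_apply, MonoidHom.comp_apply, Subgroup.coe_subtype, hcoe]
      exact hDc _ hx')
  apply hEb
  intro x hx
  have h2 := h ⟨x, hEG hx⟩ (mem_subgroupOf.mpr hx)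
  rw [MonoidHom.comp_apply, MonoidHom.comp_apply, Subgroup.coe_subtype, hcoe] at h2
  exact h2

end Cfsg.Agent.HallHigman
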