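import Mathlib

/-!
# Linear algebra for the theorem of Hall and Higman on minimal polynomials
-/

set_option autoImplicit false
set_option linter.unusedSectionVars false

namespace Cfsg.Agent.HallHigman

open Polynomial Module

variable {k : Type*} [Field k] {p : ℕ} [hp : Fact p.Prime] [hk : CharP k p]

theorem X_sub_one_pow_pred (e : ℕ) :
    (Polynomial.X - 1 : k[X]) ^ (p ^ e - 1) = ∑ i ∈ Finset.range (p ^ e), Polynomial.X ^ i := by
  have hN : 0 < p ^ e := pow_pos hp.out.pos e
  refine mul_right_cancel₀ (X_sub_C_ne_zero (1 : k)) ?_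
  rw [map_one, ← pow_succ, geom_sum_mul]
  rw [show p ^ e - 1 + 1 = p ^ e by omega, sub_pow_char_pow, one_pow]

theorem sub_one_pow_pred {A : Type*} [Ring A] [Algebra k A] (Y : A) (e : ℕ) :
    (Y - 1) ^ (p ^ e - 1) = ∑ i ∈ Finset.range (p ^ e), Y ^ i := by
  have h := congrArg (aeval Y) (X_sub_one_pow_pred (k := k) (p := p) e)
  simpa using h

theorem sub_one_pow_eq_pow_sub_one {A : Type*} [Ring A] [Algebra k A] (Y : A) (e : ℕ) :
    (Y - 1) ^ (p ^ e) = Y ^ (p ^ e) - 1 := by
  have h := congrArg (aeval Y) (sub_pow_char_pow (R := k[X]) (n := e) (p := p) Polynomial.X 1)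
  simpa using h

theorem exists_sum_natCast_mul_X_pow {e : ℕ} (he : 1 ≤ e) :
    ∑ i ∈ Finset.range (p ^ e), (i : k[X]) * Polynomial.X ^ i =
      -(Polynomial.X * (Polynomial.X - 1) ^ (p ^ e - 2)) := by
  have h := congrArg derivative (X_sub_one_pow_pred (k := k) (p := p) e)
  rw [derivative_sum] at h
  have h2 : ∑ i ∈ Finset.range (p ^ e), (i : k[X]) * Polynomial.X ^ i =
      Polynomial.X * ∑ i ∈ Finset.range (p ^ e), derivative (Polynomial.X ^ i : k[X]) := by
    rw [Finset.mul_sum]
    refine Finset.sum_congr rfl fun i _ => ?_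
    rcases i with _ | i
    · simp
    · rw [derivative_X_pow, map_natCast, Nat.add_sub_cancel, pow_succ]
      ring
  rw [h2, ← h, derivative_pow]
  have hN : 1 ≤ p ^ e := Nat.one_le_pow _ _ hp.out.pos
  have hc : ((p ^ e - 1 : ℕ) : k) = -1 := by
    rw [Nat.cast_sub hN, Nat.cast_pow, CharP.cast_eq_zero, zero_pow (by omega)]
    simp
  rw [hc, derivative_sub, derivative_X, derivative_one, sub_zero, mul_one,
    show p ^ e - 1 - 1 = p ^ e - 2 by omega]
  simp [map_neg, map_one]

theorem exists_sum_natCast_smul_pow {A : Type*} [Ring A] [Algebra k A] (Y : A) {e : ℕ}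
    (he : 1 ≤ e) :
    ∑ i ∈ Finset.range (p ^ e), (i : k) • Y ^ i = -(Y * (Y - 1) ^ (p ^ e - 2)) := by
  have h := congrArg (aeval Y) (exists_sum_natCast_mul_X_pow (k := k) (p := p) he)
  simp only [map_sum, map_mul, map_natCast, map_pow, aeval_X, map_neg, map_sub, map_one] at h
  rw [← h]
  refine Finset.sum_congr rfl fun i _ => ?_
  rw [Algebra.smul_def, map_natCast]

/-- A nontrivial element of order dividing `p ^ e` whose centralizer is the scalars plus traces. -/
theorem commutant_core {M : Type*} [AddCommGroup M] [Module k M] [FiniteDimensional k M]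
    (Y : Module.End k M) {e : ℕ} (he : 1 ≤ e) (hYN : Y ^ p ^ e = 1) (hY1 : Y ≠ 1)
    (hfix : ∀ X : Module.End k M, Commute X Y → ∃ (c : k) (A : Module.End k M),
      X = c • 1 + ∑ i ∈ Finset.range (p ^ e), Y ^ i * A * Y ^ (p ^ e - i)) :
    (Y - 1) ^ (p ^ e - 1) ≠ 0 ∨
      ((Y - 1) ^ (p ^ e - 2) ≠ 0 ∧ finrank k M = p ^ e - 1) := by
  classical
  set N := p ^ e with hNdef
  have hN2 : 2 ≤ N := le_trans hp.out.two_le (Nat.le_self_pow (by omega) p)
  set T : Module.End k M := Y - 1 with hTdef
  have hT0 : T ≠ 0 := sub_ne_zero.mpr hY1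
  by_contra hcon
  push Not at hcon
  obtain ⟨hr, hd⟩ := hcon
  have hYv : ∀ v, Y v = v + T v := fun v => by simp [hTdef]
  -- traces kill the fixed points
  have htr : ∀ (A : Module.End k M) (v : M), T v = 0 →
      (∑ i ∈ Finset.range N, Y ^ i * A * Y ^ (N - i)) v = 0 := by
    intro A v hv
    have hpow : ∀ m : ℕ, (Y ^ m) v = v := by
      intro m
      induction m with
      | zero => rfl
      | succ m ih => rw [pow_succ, Module.End.mul_apply, hYv, hv, add_zero, ih]
    rw [LinearMap.sum_apply]
    simp only [Module.End.mul_apply, hpow]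
    rw [← LinearMap.sum_apply, ← sub_one_pow_pred (k := k) Y e, ← hNdef, ← hTdef, hr]
    rfl
  -- a second kernel
  have hr2 : T ^ (N - 2) ≠ 0 := by
    intro hr2
    have hTc : Commute T Y := (Commute.refl Y).sub_left (Commute.one_left Y)
    obtain ⟨c, A, hA⟩ := hfix T hTc
    have hkill : ∀ v, T (T v) = 0 →
        (∑ i ∈ Finset.range N, Y ^ i * A * Y ^ (N - i)) v = 0 := by
      intro v hv
      have hpow : ∀ m : ℕ, (Y ^ m) v = v + (m : k) • T v := by
        intro m
        induction m with
        | zero => simp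
        | succ m ih =>
          rw [pow_succ', Module.End.mul_apply, ih, map_add, map_smul, hYv v, hYv (T v), hv,
            add_zero, Nat.cast_succ, add_smul, one_smul]
          abel
      have hcast : ∀ i ∈ Finset.range N, ((N - i : ℕ) : k) = -(i : k) := fun i hi => by
        rw [Nat.cast_sub (Finset.mem_range.mp hi).le, hNdef, Nat.cast_pow, CharP.cast_eq_zero,
          zero_pow (by omega), zero_sub]
      rw [LinearMap.sum_apply]
      calc ∑ i ∈ Finset.range N, (Y ^ i * A * Y ^ (N - i)) v
          = ∑ i ∈ Finset.range N, ((Y ^ i) (A v) - ((i : k) • Y ^ i) (A (T v))) := by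
            refine Finset.sum_congr rfl fun i hi => ?_
            simp only [Module.End.mul_apply, hpow, hcast i hi, map_add, map_smul, neg_smul,
              map_neg, LinearMap.smul_apply]
            abel
        _ = (∑ i ∈ Finset.range N, Y ^ i) (A v) -
            (∑ i ∈ Finset.range N, (i : k) • Y ^ i) (A (T v)) := by
            rw [Finset.sum_sub_distrib, LinearMap.sum_apply, LinearMap.sum_apply]
        _ = 0 := by
            rw [← sub_one_pow_pred (k := k) Y e, exists_sum_natCast_smul_pow Y he, ← hNdef,
              ← hTdef, hr, hr2]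
            simp
    obtain ⟨w, hw, hw'⟩ : ∃ w, T (T w) = 0 ∧ T w ≠ 0 := by
      obtain ⟨v, hv⟩ : ∃ v, T v ≠ 0 := by
        by_contra hall
        push Not at hall
        exact hT0 (LinearMap.ext hall)
      have hex : ∃ m, (T ^ m) v = 0 := ⟨N - 2, by rw [hr2]; rfl⟩
      have hm2 : 2 ≤ Nat.find hex := by
        by_contra hlt
        push Not at hlt
        have := Nat.find_spec hex
        interval_cases hf : Nat.find hex
        · exact hv (by simp only [pow_zero, Module.End.one_apply] at this; rw [this, map_zero])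
        · exact hv (by simpa using this)
      refine ⟨(T ^ (Nat.find hex - 2)) v, ?_, ?_⟩
      · have h := Nat.find_spec hex
        rw [show Nat.find hex = (Nat.find hex - 2) + 1 + 1 by omega, pow_succ', pow_succ'] at h
        simpa [Module.End.mul_apply] using h
      · have h := Nat.find_min hex (m := Nat.find hex - 2 + 1) (by omega)
        rwa [pow_succ', Module.End.mul_apply] at h
    have hTTw : T (T w) = 0 := hw
    have h1 := LinearMap.congr_fun hA (T w)
    rw [LinearMap.add_apply, htr A _ hTTw, hTTw, add_zero] at h1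
    have hc : c = 0 := by
      by_contra hc
      exact smul_ne_zero hc hw' (by simpa using h1.symm)
    have h2 := LinearMap.congr_fun hA w
    rw [LinearMap.add_apply, hkill w hw, hc, zero_smul, LinearMap.zero_apply, zero_add] at h2
    exact hw' h2
  refine hd hr2 ?_
  -- the space is cyclic
  obtain ⟨v, hv⟩ : ∃ v, (T ^ (N - 2)) v ≠ 0 := by
    by_contra hall
    push Not at hall
    exact hr2 (LinearMap.ext hall)
  obtain ⟨φ, hφ⟩ := Module.Projective.exists_dual_eq_one k hv
  let π : Module.End k M :=
    ∑ i ∈ Finset.range (N - 1), (φ.comp (T ^ (N - 2 - i))).smulRight ((T ^ i) v)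
  have hπ : ∀ w, π w = ∑ i ∈ Finset.range (N - 1), φ ((T ^ (N - 2 - i)) w) • (T ^ i) v := by
    intro w
    simp [π, LinearMap.sum_apply]
  have hrange : ∀ w, π w ∈ Submodule.span k (Set.range fun i : Fin (N - 1) => (T ^ (i : ℕ)) v) := by
    intro w
    rw [hπ]
    exact Submodule.sum_mem _ fun i hi => Submodule.smul_mem _ _
      (Submodule.subset_span ⟨⟨i, Finset.mem_range.mp hi⟩, rfl⟩)
  have hπT : ∀ w, π (T w) = T (π w) := by
    intro w
    obtain ⟨m, hm⟩ : ∃ m, N - 1 = m + 1 := ⟨N - 2, by omega⟩
    rw [hπ, hπ, map_sum]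
    simp only [map_smul, ← Module.End.mul_apply, ← pow_succ, ← pow_succ']
    rw [hm, Finset.sum_range_succ', Finset.sum_range_succ]
    have e0 : (T ^ (N - 2 - 0 + 1)) = 0 := by rw [show N - 2 - 0 + 1 = N - 1 by omega, hr]
    have e1 : (T ^ (m + 1)) v = 0 := by rw [← hm, hr]; rfl
    rw [e0, e1, smul_zero, add_zero, LinearMap.zero_apply, map_zero, zero_smul, add_zero]
    refine Finset.sum_congr rfl fun i hi => ?_
    rw [show N - 2 - (i + 1) + 1 = N - 2 - i by have := Finset.mem_range.mp hi; omega]
  have hπc : Commute π Y := by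
    refine LinearMap.ext fun w => ?_
    rw [Module.End.mul_apply, Module.End.mul_apply, hYv, hYv, map_add, hπT]
  obtain ⟨c, A, hA⟩ := hfix π hπc
  have hscal : ∀ w, T w = 0 → π w = c • w := fun w hw => by
    rw [hA, LinearMap.add_apply, htr A w hw]
    simp
  have hker : ∀ w, π w = 0 → w = 0 := by
    set u := (T ^ (N - 2)) v
    have hTu : T u = 0 := by
      rw [← Module.End.mul_apply, ← pow_succ', show N - 2 + 1 = N - 1 by omega, hr]
      rfl
    have hπu : π u = u := by
      rw [hπ, Finset.sum_eq_single (N - 2)]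
      · rw [Nat.sub_self, pow_zero, Module.End.one_apply, hφ, one_smul]
      · intro i hi hne
        have : (T ^ (N - 2 - i)) u = 0 := by
          rw [← Module.End.mul_apply, ← pow_add,
            pow_eq_zero_of_le (by have := Finset.mem_range.mp hi; omega) hr]
          rfl
        rw [this, map_zero, zero_smul]
      · intro h
        exact absurd (Finset.mem_range.mpr (by omega)) h
    have hc1 : c = 1 := by
      have h := hscal u hTu
      rw [hπu] at h
      exact smul_left_injective k hv (h.symm.trans (one_smul k u).symm)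
    intro w hw
    by_contra hw0
    have hex : ∃ m, (T ^ m) w = 0 := ⟨N - 1, by rw [hr]; rfl⟩
    have hm1 : 1 ≤ Nat.find hex := by
      by_contra h0
      have := Nat.find_spec hex
      rw [show Nat.find hex = 0 by omega] at this
      exact hw0 (by simpa using this)
    set w' := (T ^ (Nat.find hex - 1)) w
    have hw' : w' ≠ 0 := Nat.find_min hex (by omega)
    have hTw' : T w' = 0 := by
      rw [← Module.End.mul_apply, ← pow_succ', show Nat.find hex - 1 + 1 = Nat.find hex by omega]
      exact Nat.find_spec hex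
    have hcom : ∀ m : ℕ, π ((T ^ m) w) = (T ^ m) (π w) := by
      intro m
      induction m with
      | zero => rfl
      | succ m ih => rw [pow_succ', Module.End.mul_apply, Module.End.mul_apply, hπT, ih]
    have h3 := hscal w' hTw'
    rw [hc1, one_smul, hcom, hw, map_zero] at h3
    exact hw' h3.symm
  have hinj : Function.Injective π := (injective_iff_map_eq_zero π).mpr hker
  have hle : finrank k M ≤ N - 1 := by
    calc finrank k M ≤ finrank k (Submodule.span k
          (Set.range fun i : Fin (N - 1) => (T ^ (i : ℕ)) v)) :=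
        LinearMap.finrank_le_finrank_of_injective (f := π.codRestrict _ hrange)
          (fun a b h => hinj (congrArg Subtype.val h))
      _ ≤ N - 1 := (finrank_range_le_card _).trans (Fintype.card_fin _).le
  have hge : N - 1 ≤ finrank k M := by
    by_contra hlt
    push Not at hlt
    have hnil : IsNilpotent T := ⟨N - 1, hr⟩
    refine hr2 ?_
    have h1 := LinearMap.aeval_self_charpoly T
    rw [IsNilpotent.charpoly_eq_X_pow_finrank hnil, map_pow, aeval_X] at h1
    exact pow_eq_zero_of_le (by omega) h1
  omega

/-- Vectors with distinct systems of eigenvalues are independent. -/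
theorem eq_zero_of_sum_eigen {ι α M : Type*} [AddCommGroup M] [Module k M] (T : α → M →ₗ[k] M)
    (χ : ι → α → k) (hχ : Function.Injective χ) (v : ι → M) (hv : ∀ i a, T a (v i) = χ i a • v i) :
    ∀ (s : Finset ι), ∑ i ∈ s, v i = 0 → ∀ i ∈ s, v i = 0 := by
  classical
  intro s
  induction s using Finset.induction_on generalizing v with
  | empty => simp
  | insert j s hj ih =>
    intro hsum
    rw [Finset.sum_insert hj] at hsum
    have hs : ∀ i ∈ s, v i = 0 := by
      intro i hi
      obtain ⟨a, ha⟩ := Function.ne_iff.mp (hχ.ne (ne_of_mem_of_not_mem hi hj))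
      have h1 : ∑ l ∈ s, (χ l a - χ j a) • v l = 0 := by
        have h2 := congrArg (T a) hsum
        rw [map_add, map_sum, map_zero] at h2
        simp only [hv] at h2
        simp only [sub_smul, Finset.sum_sub_distrib, ← Finset.smul_sum]
        rw [eq_neg_of_add_eq_zero_left hsum, smul_neg, neg_add_eq_zero] at h2
        rw [h2, sub_self]
      have h3 := ih (fun l => (χ l a - χ j a) • v l)
        (fun l b => by rw [map_smul, hv, smul_comm]) h1 i hi
      exact (smul_eq_zero.mp h3).resolve_left (sub_ne_zero.mpr ha)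
    intro i hi
    rcases Finset.mem_insert.mp hi with rfl | hi
    · rwa [Finset.sum_eq_zero hs, add_zero] at hsum
    · exact hs i hi

end Cfsg.Agent.HallHigman
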