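import Cfsg.Agent.Lib.HallHigman.Core
import Cfsg.Agent.Lib.Components.FFThompson
import Cfsg.Agent.Lib.Basics.Carter

/-!
# Theorem B of Hall and Higman over an algebraically closed field
-/

set_option autoImplicit false
set_option linter.unusedSectionVars false
set_option linter.style.haveILetI false

namespace Cfsg.Agent.HallHigman

open Module Subgroup
open scoped commutatorElement

universe u

variable {k : Type*} [Field k] [IsAlgClosed k] {p : ℕ} [hp : Fact p.Prime] [hk : CharP k p]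
variable {H : Type u} [Group H] [Finite H]
variable {V : Type*} [AddCommGroup V] [Module k V] [FiniteDimensional k V]

/-- A power of `p` dividing `d` gives a power of `x` in any submonoid containing `x ^ d`. -/
theorem exists_prime_pow_mem {x : H} {n d : ℕ} (hx : x ^ p ^ n = 1) (hd : 0 < d) (S : Submonoid H)
    (hmem : x ^ d ∈ S) : ∃ i, p ^ i ∣ d ∧ x ^ p ^ i ∈ S := by
  obtain ⟨i, v, hv, rfl⟩ := Nat.exists_eq_pow_mul_and_not_dvd hd.ne' p hp.out.ne_one
  refine ⟨i, dvd_mul_right _ _, ?_⟩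
  rcases Nat.eq_zero_or_pos n with rfl | hn
  · rw [pow_zero, pow_one] at hx
    rw [hx, one_pow]
    exact one_mem S
  have hcop : v.Coprime (p ^ n) := ((hp.out.coprime_iff_not_dvd.mpr hv).pow_left n).symm
  obtain ⟨m, -, hm⟩ := Nat.exists_mul_mod_eq_one_of_coprime hcop
    (Nat.one_lt_pow hn.ne' hp.out.one_lt)
  have h2 := pow_mem hmem m
  rw [← pow_mul, mul_assoc, ← Nat.div_add_mod (v * m) (p ^ n), hm, mul_add, mul_one, pow_add,
    mul_left_comm, pow_mul, hx, one_pow, one_mul] at h2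
  exact h2

/-- Theorem B of Hall and Higman. -/
theorem hall_higman_B (ρ : H →* Module.End k V) (hρ : Function.Injective ρ)
    (hsol : IsPSolvable p H) (hO : pCore p H = ⊥) (x : H) {n : ℕ} (hn : orderOf x = p ^ n)
    (hn1 : 1 ≤ n) :
    (ρ x - 1) ^ (p ^ n - 1) ≠ 0 ∨ ∃ n₀ q m : ℕ, 1 ≤ n₀ ∧ n₀ ≤ n ∧ q.Prime ∧ 1 ≤ m ∧
      p ^ n₀ - 1 = q ^ m ∧ (∀ Q : Sylow q H, ¬ IsMulCommutative Q) ∧
      (ρ x - 1) ^ (p ^ (n - n₀) * (p ^ n₀ - 1) - 1) ≠ 0 := by
  classical
  have hxN : x ^ p ^ n = 1 := hn ▸ pow_orderOf_eq_one x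
  set z := x ^ p ^ (n - 1) with hz
  have hzp : z ^ p = 1 := by rw [hz, ← pow_mul, ← pow_succ, Nat.sub_add_cancel hn1, hxN]
  have hz1 : z ≠ 1 := fun h => by
    have h1 := orderOf_dvd_of_pow_eq_one h
    rw [hn, Nat.pow_dvd_pow_iff_le_right hp.out.one_lt] at h1
    omega
  -- `z` moves the `p'`-core
  set Q := pPrimeCore p H
  have hQ : (Nat.card Q).Coprime p := Basics.pPrimeCore_coprime (G := H) p
  have hzQ : z ∉ centralizer (Q : Set H) := fun h => by
    have h1 : z ∈ Q := Components.centralizer_pPrimeCore_le hsol hO h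
    have h2 : orderOf z ∣ Nat.gcd (Nat.card Q) p :=
      Nat.dvd_gcd ((Subgroup.orderOf_mk z h1) ▸ orderOf_dvd_natCard (⟨z, h1⟩ : Q))
        (orderOf_dvd_of_pow_eq_one hzp)
    rw [hQ, Nat.dvd_one, orderOf_eq_one_iff] at h2
    exact hz1 h2
  have hQn : Q.Normal := inferInstance
  have hXQ : zpowers x ≤ normalizer (Q : Set H) := fun g _ => by
    rw [normalizer_eq_top]; trivial
  have hXcop : (Nat.card (zpowers x)).Coprime (Nat.card Q) := by
    rw [Nat.card_zpowers, hn]
    exact (hQ.symm).pow_left n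
  have hexS : ∃ d, ∃ (q : ℕ) (S : Subgroup H), q.Prime ∧ q ≠ p ∧ IsPGroup q S ∧
      x ∈ normalizer (S : Set H) ∧ ¬ S ≤ centralizer {z} ∧ Nat.card S = d := by
    by_contra hcon
    push Not at hcon
    refine hzQ fun g hg => ?_
    have hall : Q ≤ centralizer ({z} : Set H) := by
      set D := Q ⊓ centralizer ({z} : Set H)
      suffices hc : Nat.card Q ∣ Nat.card D from
        (eq_of_le_of_card_ge inf_le_left (Nat.le_of_dvd Nat.card_pos hc)).ge.trans inf_le_right
      refine (Nat.factorization_prime_le_iff_dvd Nat.card_pos.ne' Nat.card_pos.ne').mp fun q hq => ?_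
      haveI := Fact.mk hq
      by_cases hqQ : q ∣ Nat.card Q
      · obtain ⟨S, hS, hSn⟩ := Basics.exists_invariant_isSylowIn (zpowers x) Q hXQ hXcop
          (Or.inl inferInstance) q
        have hqp : q ≠ p := by
          rintro rfl
          exact hp.out.one_lt.ne' (Nat.eq_one_of_dvd_coprimes hQ hqQ dvd_rfl)
        have hle : S ≤ D := le_inf hS.1 (by
          by_contra hne
          exact hcon (Nat.card S) q S hq hqp hS.isPGroup (hSn (mem_zpowers x)) hne rfl)
        refine (hq.pow_dvd_iff_le_factorization Nat.card_pos.ne').mp ?_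
        rw [← hS.2]
        exact card_dvd_of_le hle
      · rw [Nat.factorization_eq_zero_of_not_dvd hqQ]
        exact Nat.zero_le _
    exact (mem_centralizer_singleton_iff.mp (hall hg))
  obtain ⟨q, S, hq, hqp, hS, hxS, hSz, hSd⟩ := Nat.find_spec hexS
  haveI := Fact.mk hq
  have hmin : ∀ T : Subgroup H, T ≤ S → x ∈ normalizer (T : Set H) → T ≠ S →
      T ≤ centralizer ({z} : Set H) := by
    intro T hT hxT hne
    by_contra hTz
    have := Nat.find_min' hexS (m := Nat.card T)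
      ⟨q, T, hq, hqp, hS.to_le hT, hxT, hTz, rfl⟩
    exact hne (eq_of_le_of_card_ge hT (by omega))
  have hscalar : ∀ a ∈ S, (orderOf a : k) ≠ 0 := by
    intro a ha
    obtain ⟨j, hj⟩ := IsPGroup.iff_orderOf.mp hS ⟨a, ha⟩
    rw [Subgroup.orderOf_mk] at hj
    rw [hj, Ne, CharP.cast_eq_zero_iff k p]
    exact fun h => hqp ((Nat.prime_dvd_prime_iff_eq hp.out hq).mp (hp.out.dvd_of_dvd_pow h)).symm
  have hmemz : ∀ {T : Subgroup H} {a : H}, T ≤ centralizer ({z} : Set H) → a ∈ T →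
      a * z = z * a := fun hT ha => mem_centralizer_singleton_iff.mp (hT ha)
  obtain ⟨s₁, hs₁, hs₁z⟩ := SetLike.not_le_iff_exists.mp hSz
  rw [mem_centralizer_singleton_iff] at hs₁z
  -- the centre
  set Z0 := S ⊓ centralizer (S : Set H) with hZ0
  have hxZ0 : x ∈ normalizer (Z0 : Set H) :=
    inf_normalizer_le_normalizer_inf ⟨hxS, Basics.Carter.normalizer_centralizer hxS⟩
  by_cases hab : IsMulCommutative S
  · refine Or.inl (full_degree_of_abelian ρ S x hxS hxN ?_ hscalar ⟨s₁, hs₁, ?_⟩)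
    · intro a ha b hb
      show ρ a * ρ b = ρ b * ρ a
      rw [← map_mul, ← map_mul, (show a * b = b * a from congrArg Subtype.val (hab.is_comm.comm ⟨a, ha⟩ ⟨b, hb⟩))]
    · intro h
      exact hs₁z (mul_inv_eq_iff_eq_mul.mp (hρ h)).symm
  have hZz : Z0 ≤ centralizer ({z} : Set H) := by
    refine hmin Z0 inf_le_left hxZ0 fun h => hab ?_
    exact ⟨⟨fun a b => Subtype.ext ((h.ge b.2).2 a a.2)⟩⟩
  set D := ⁅S, S⁆ with hD
  have hDS : D ≤ S := (commutator_le_self S)
  have hxD : x ∈ normalizer (D : Set H) :=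
    mem_normalizer_iff_map_conj_eq.mpr (by
      rw [hD, map_commutator]
      congr 1 <;> exact mem_normalizer_iff_map_conj_eq.mp hxS)
  haveI hSnil : Group.IsNilpotent S := hS.isNilpotent
  have hDne : D ≠ S := by
    intro h
    haveI : Nontrivial S := by
      rw [nontrivial_iff_ne_bot]
      rintro rfl
      exact hs₁z (by rw [mem_bot.mp hs₁, one_mul, mul_one])
    haveI : Group.IsSolvable S := inferInstance
    refine (Group.IsSolvable.commutator_lt_top_of_nontrivial S).ne ?_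
    refine map_injective S.subtype_injective ?_
    rw [map_subtype_commutator, ← MonoidHom.range_eq_map, range_subtype, ← hD, h]
  have hDz : D ≤ centralizer ({z} : Set H) := hmin D hDS hxD hDne
  set Zz := zpowers z
  have hzS : z ∈ normalizer (S : Set H) := pow_mem hxS _
  have hcopz : (Nat.card Zz).Coprime (Nat.card S) := by
    obtain ⟨j, hj⟩ := hS.exists_card_eq
    rw [Nat.card_zpowers, hj]
    exact (((Nat.coprime_primes hp.out hq).mpr hqp.symm).coprime_dvd_left
      (orderOf_dvd_of_pow_eq_one hzp)).pow_right j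
  have hSz' : ⁅S, Zz⁆ = S := by
    by_contra hne
    have hle : ⁅S, Zz⁆ ≤ S :=
      le_normalizer_iff_commutator_le_left.mp (Subgroup.zpowers_le.mpr hzS)
    have hxc : x ∈ normalizer ((⁅S, Zz⁆ : Subgroup H) : Set H) := by
      refine mem_normalizer_iff_map_conj_eq.mpr ?_
      rw [map_commutator]
      congr 1
      · exact mem_normalizer_iff_map_conj_eq.mp hxS
      · rw [MonoidHom.map_zpowers]
        congr 1
        show x * z * x⁻¹ = z
        rw [hz, (Commute.self_pow x _).eq, mul_inv_cancel_right]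
    have h1 := hmin _ hle hxc hne
    have h2 : ⁅⁅S, Zz⁆, Zz⁆ = ⊥ := by
      rw [commutator_eq_bot_iff_le_centralizer]
      intro a ha b hb
      obtain ⟨i, rfl⟩ := mem_zpowers_iff.mp hb
      exact (Commute.zpow_right (hmemz h1 ha) i).eq.symm
    rw [Basics.commutator_commutator_eq Zz S (Subgroup.zpowers_le.mpr hzS) hcopz
      (Or.inl inferInstance), commutator_eq_bot_iff_le_centralizer] at h2
    exact hs₁z (h2 hs₁ z (mem_zpowers z)).symm
  have hfixZ : ∀ s ∈ S, s * z = z * s → s ∈ Z0 := by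
    set C := S ⊓ centralizer (Zz : Set H)
    have h1 : ⁅⁅Zz, C⁆, S⁆ = ⊥ := by
      rw [(commutator_eq_bot_iff_le_centralizer (H₁ := Zz) (H₂ := C)).mpr
        (Subgroup.le_centralizer_iff.mp inf_le_right), commutator_bot_left]
    have h2 : ⁅⁅C, S⁆, Zz⁆ = ⊥ := by
      rw [commutator_eq_bot_iff_le_centralizer]
      intro a ha b hb
      obtain ⟨i, rfl⟩ := mem_zpowers_iff.mp hb
      exact (Commute.zpow_right (hmemz hDz (commutator_mono inf_le_left le_rfl ha)) i).eq.symm
    have h3 := commutator_commutator_eq_bot_of_rotate h1 h2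
    rw [hSz', commutator_eq_bot_iff_le_centralizer] at h3
    intro s hs hsz
    refine mem_inf.mpr ⟨hs, fun t ht => ?_⟩
    have hsC : s ∈ C := mem_inf.mpr ⟨hs, fun b hb => by
      obtain ⟨i, rfl⟩ := mem_zpowers_iff.mp hb
      exact (Commute.zpow_right hsz i).eq.symm⟩
    exact (h3 ht s hsC).symm
  have hDZ : D ≤ Z0 := fun d hd => hfixZ d (hDS hd) (hmemz hDz hd)
  have hDbot : D ≠ ⊥ := by
    intro h
    apply hab
    refine ⟨⟨fun a b => Subtype.ext ?_⟩⟩
    have h1 : ⁅(a : H), (b : H)⁆ ∈ D := commutator_mem_commutator a.2 b.2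
    rw [h, mem_bot] at h1
    exact commutatorElement_eq_one_iff_commute.mp h1
  obtain ⟨d₀, hd₀, hd₀1⟩ := (bot_or_exists_ne_one D).resolve_left hDbot
  obtain ⟨v, hv0, χ, hχ, hχ1⟩ := exists_eigen_ne_one (fun a : Z0 => ρ (a : H))
    (fun a b => by
      show ρ (a : H) * ρ (b : H) = ρ (b : H) * ρ (a : H)
      rw [← map_mul, ← map_mul, b.2.2 a a.2.1])
    ⟨d₀, hDZ hd₀⟩ (hscalar d₀ (hDS hd₀))
    (by rw [← map_pow, pow_orderOf_eq_one, map_one])
    (fun h => hd₀1 (hρ (h.trans (map_one ρ).symm)))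
  let χ' : H → k := fun g => if h : g ∈ Z0 then χ ⟨g, h⟩ else 0
  have hχ' : ∀ b ∈ Z0, ρ b v = χ' b • v := fun b hb => by
    simp only [χ', dif_pos hb]; exact hχ ⟨b, hb⟩
  let Stab : Submonoid H :=
    { carrier := {g | ∀ b ∈ Z0, g * b * g⁻¹ ∈ Z0 ∧ χ' (g * b * g⁻¹) = χ' b}
      one_mem' := fun b hb => by simp [hb]
      mul_mem' := fun {g h} hg hh b hb => by
        obtain ⟨h1, h2⟩ := hh b hb
        obtain ⟨g1, g2⟩ := hg _ h1
        rw [show g * h * b * (g * h)⁻¹ = g * (h * b * h⁻¹) * g⁻¹ by group]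
        exact ⟨g1, g2.trans h2⟩ }
  have hzStab : z ∈ Stab := fun b hb => by
    rw [show z * b * z⁻¹ = b by rw [← hmemz hZz hb, mul_inv_cancel_right]]
    exact ⟨hb, rfl⟩
  have hexj : ∃ j, x ^ p ^ j ∈ Stab := ⟨n - 1, hzStab⟩
  set j := Nat.find hexj
  have hjn : j ≤ n - 1 := Nat.find_min' hexj hzStab
  set y := x ^ p ^ j with hy
  have hyStab : y ∈ Stab := Nat.find_spec hexj
  set e := n - j with he
  have he1 : 1 ≤ e := by omega
  have hjn' : p ^ j * p ^ e = p ^ n := by rw [← pow_add]; congr 1; omega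
  have hyN : y ^ p ^ e = 1 := by rw [hy, ← pow_mul, hjn', hxN]
  have hyz : y ^ p ^ (e - 1) = z := by
    rw [hy, hz, ← pow_mul, ← pow_add]; congr 2; omega
  have hdist : ∀ d, 0 < d → d < p ^ j → ∃ b ∈ Z0, χ' (x ^ d * b * (x ^ d)⁻¹) ≠ χ' b := by
    intro d hd0 hd
    by_contra hall
    push Not at hall
    obtain ⟨i, hi, himem⟩ := exists_prime_pow_mem hxN hd0 Stab fun b hb =>
      ⟨(mem_normalizer_iff.mp (pow_mem hxZ0 d) b).mp hb, hall b hb⟩
    have hile := Nat.find_min' hexj himem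
    have h1 : p ^ j ≤ d := (Nat.pow_le_pow_right hp.out.pos hile).trans (Nat.le_of_dvd hd0 hi)
    omega
  -- the eigenspace
  let W : Submodule k V :=
    { carrier := {w | ∀ b ∈ Z0, ρ b w = χ' b • w}
      add_mem' := fun {a c} ha hc b hb => by rw [map_add, ha b hb, hc b hb, smul_add]
      zero_mem' := fun b _ => by rw [map_zero, smul_zero]
      smul_mem' := fun c a ha b hb => by rw [map_smul, ha b hb, smul_comm] }
  haveI : Nontrivial W := nontrivial_of_ne ⟨v, hχ'⟩ 0 fun h => hv0 (congrArg Subtype.val h)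
  let G0 : Subgroup H :=
    { carrier := {g | (∀ w ∈ W, ρ g w ∈ W) ∧ ∀ w ∈ W, ρ g⁻¹ w ∈ W}
      one_mem' := ⟨fun w hw => by simpa using hw, fun w hw => by simpa using hw⟩
      mul_mem' := fun {a b} ha hb => ⟨fun w hw => by
        rw [map_mul]; exact ha.1 _ (hb.1 w hw), fun w hw => by
        rw [mul_inv_rev, map_mul]; exact hb.2 _ (ha.2 w hw)⟩
      inv_mem' := fun {a} ha => ⟨ha.2, by rw [inv_inv]; exact ha.1⟩ }
  have hstabW : ∀ g ∈ Stab, ∀ w ∈ W, ρ g⁻¹ w ∈ W := by
    intro g hg w hw b hb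
    obtain ⟨h1, h2⟩ := hg b hb
    rw [← Module.End.mul_apply, ← map_mul,
      show b * g⁻¹ = g⁻¹ * (g * b * g⁻¹) by group, map_mul, Module.End.mul_apply, hw _ h1,
      map_smul, h2]
  have hStabG0 : ∀ g ∈ Stab, g ∈ G0 := by
    intro g hg
    refine ⟨?_, hstabW g hg⟩
    have h1 : g⁻¹ ∈ Stab := by
      rw [inv_eq_of_mul_eq_one_left (show g ^ (orderOf g - 1) * g = 1 by
        rw [← pow_succ, Nat.sub_add_cancel (orderOf_pos g), pow_orderOf_eq_one])]
      exact pow_mem hg _
    have h2 := hstabW g⁻¹ h1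
    rwa [inv_inv] at h2
  have hSG0 : S ≤ G0 := fun s hs => hStabG0 s fun b hb => by
    rw [show s * b * s⁻¹ = b by rw [hb.2 s hs, mul_inv_cancel_right]]
    exact ⟨hb, rfl⟩
  have hyG0 : y ∈ G0 := hStabG0 y hyStab
  let ρW : G0 →* Module.End k W :=
    { toFun := fun g => (ρ (g : H)).restrict g.2.1
      map_one' := LinearMap.ext fun w => Subtype.ext (by simp)
      map_mul' := fun a b => LinearMap.ext fun w => Subtype.ext (by simp [map_mul]) }
  have hρW : ∀ b ∈ Z0, ∀ (hb : b ∈ G0), ρW ⟨b, hb⟩ = χ' b • 1 := fun b hb hbG =>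
    LinearMap.ext fun w => Subtype.ext (w.2 b hb)
  have hcore := degree_of_symplectic (q := q) (p := p) ρW (S.subgroupOf G0) hqp
    (hS.comap_subtype) ⟨y, hyG0⟩ (mem_normalizer_iff.mpr fun a => by
      simp only [mem_subgroupOf, Subgroup.coe_mul, Subgroup.coe_inv]
      exact mem_normalizer_iff.mp (pow_mem hxS _) (a : H))
    he1 (Subtype.ext (by simpa using hyN)) (fun s hs t ht => by
      have hm : (s : H) * t * (s : H)⁻¹ * (t : H)⁻¹ ∈ D :=
        commutator_mem_commutator (mem_subgroupOf.mp hs) (mem_subgroupOf.mp ht)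
      exact ⟨_, hρW _ (hDZ hm) (hSG0 (hDS hm))⟩)
    (by
      by_contra hall
      push Not at hall
      let Fx : Subgroup H :=
        { carrier := {g | ρ g v = v}
          one_mem' := by simp
          mul_mem' := fun {a b} ha hb => by
            show ρ (a * b) v = v
            rw [map_mul, Module.End.mul_apply, hb, ha]
          inv_mem' := fun {a} ha => by
            show ρ a⁻¹ v = v
            conv_lhs => rw [← ha]
            rw [← Module.End.mul_apply, ← map_mul, inv_mul_cancel, map_one, Module.End.one_apply] }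
      have hDF : D ≤ Fx := by
        rw [hD, commutator_le]
        intro a ha b hb
        have h := hall ⟨a, hSG0 ha⟩ (mem_subgroupOf.mpr ha) ⟨b, hSG0 hb⟩ (mem_subgroupOf.mpr hb)
        exact congrArg Subtype.val (LinearMap.congr_fun h ⟨v, hχ'⟩)
      apply hχ1
      have h1 : χ' d₀ • v = (1 : k) • v := by rw [one_smul, ← hχ' _ (hDZ hd₀)]; exact hDF hd₀
      have h2 := smul_left_injective k hv0 h1
      simpa [χ', dif_pos (hDZ hd₀)] using h2)
    (fun s hs hfix => by
      have hs' := mem_subgroupOf.mp hs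
      have h1 := congrArg Subtype.val hfix
      simp only [Subgroup.coe_mul, Subgroup.coe_inv, SubmonoidClass.coe_pow] at h1
      rw [hyz] at h1
      refine ⟨_, hρW _ (hfixZ s hs' ?_) s.2⟩
      exact (mul_inv_eq_iff_eq_mul.mp h1).symm)
  -- back to `x`
  have hsub : ∀ (m : ℕ) (w : W), (((ρW ⟨y, hyG0⟩ - 1) ^ m) w : V) = ((ρ y - 1) ^ m) (w : V) := by
    intro m
    induction m with
    | zero => intro w; rfl
    | succ m ih =>
      intro w
      rw [pow_succ', pow_succ', Module.End.mul_apply, Module.End.mul_apply, ← ih]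
      rfl
  have hlift : ∀ m, (ρW ⟨y, hyG0⟩ - 1) ^ m ≠ 0 → (ρ x - 1) ^ (p ^ j * m + (p ^ j - 1)) ≠ 0 := by
    intro m hm h0
    obtain ⟨w, hw⟩ : ∃ w, ((ρW ⟨y, hyG0⟩ - 1) ^ m) w ≠ 0 := by
      by_contra hall
      push Not at hall
      exact hm (LinearMap.ext hall)
    refine sum_translates_ne_zero ρ x (pow_pos hp.out.pos j) Z0 hxZ0 χ'
      (fun h => hw (Subtype.ext h)) (((ρW ⟨y, hyG0⟩ - 1) ^ m) w).2 hdist ?_
    rw [hsub, Finset.sum_congr rfl (fun i _ => map_pow ρ x i),
      ← sub_one_pow_pred (k := k) (ρ x) j, ← Module.End.mul_apply]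
    have h1 : (ρ x - 1) ^ (p ^ j - 1) * (ρ y - 1) ^ m = (ρ x - 1) ^ (p ^ j * m + (p ^ j - 1)) := by
      rw [hy, map_pow, ← sub_one_pow_eq_pow_sub_one (k := k), ← pow_mul, ← pow_add, add_comm]
    rw [h1, h0]
    rfl
  have hpj : 1 ≤ p ^ j := Nat.one_le_pow _ _ hp.out.pos
  have hpe : 2 ≤ p ^ e := le_trans hp.out.two_le (Nat.le_self_pow (by omega) p)
  rcases hcore with h | ⟨h, m, hm1, hm, -⟩
  · refine Or.inl ?_
    have h' := hlift _ h
    rwa [show p ^ j * (p ^ e - 1) + (p ^ j - 1) = p ^ n - 1 by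
      rw [Nat.mul_sub_one, hjn']
      have : p ^ j ≤ p ^ n := Nat.pow_le_pow_right hp.out.pos (by omega)
      omega] at h'
  · refine Or.inr ⟨e, q, m, he1, by omega, hq, hm1, hm, ?_, ?_⟩
    · intro P hP
      obtain ⟨P', hP'⟩ := hS.exists_le_sylow
      obtain ⟨g, hg⟩ := MulAction.exists_smul_eq H P' P
      apply hab
      refine ⟨⟨fun a b => Subtype.ext ?_⟩⟩
      have hmem : ∀ c : S, g * (c : H) * g⁻¹ ∈ (P : Subgroup H) := fun c => by
        rw [← hg]; exact ⟨c, hP' c.2, rfl⟩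
      have := congrArg Subtype.val (hP.is_comm.comm ⟨_, hmem a⟩ ⟨_, hmem b⟩)
      simp only [Subgroup.coe_mul] at this ⊢
      rw [← mul_left_cancel_iff (a := g), ← mul_right_cancel_iff (a := g⁻¹)]
      simpa [mul_assoc] using this
    · have h' := hlift _ h
      rwa [show p ^ j * (p ^ e - 2) + (p ^ j - 1) = p ^ (n - e) * (p ^ e - 1) - 1 by
        rw [show n - e = j by omega]
        obtain ⟨N', hN'⟩ : ∃ N', p ^ e = N' + 2 := ⟨p ^ e - 2, by omega⟩
        rw [hN', show N' + 2 - 2 = N' by omega, show N' + 2 - 1 = N' + 1 by omega, Nat.mul_succ]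
        omega] at h'

end Cfsg.Agent.HallHigman
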