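import Cfsg.Agent.Lib.HallHigman.PlaneEigen

/-!
# A fourth root of unity squaring to an element moving a plane commutes out small commutators
-/

set_option autoImplicit false
set_option linter.unusedSectionVars false
set_option linter.style.haveILetI false

namespace Cfsg.Agent.HallHigman

open Module Subgroup
open scoped commutatorElement TensorProduct

universe u

set_option maxHeartbeats 1000000

/-- A representation on an invariant submodule. -/
def restrictRep {F : Type*} [Field F] {G : Type*} [Group G] {M : Type*} [AddCommGroup M]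
    [Module F M] (φ : G →* Module.End F M) (U : Submodule F M) (hU : ∀ g, ∀ v ∈ U, φ g v ∈ U) :
    G →* Module.End F U where
  toFun g := (φ g).restrict (hU g)
  map_one' := LinearMap.ext fun w => Subtype.ext (by simp)
  map_mul' a b := LinearMap.ext fun w => Subtype.ext (by simp [map_mul])

theorem restrictRep_apply {F : Type*} [Field F] {G : Type*} [Group G] {M : Type*} [AddCommGroup M]
    [Module F M] (φ : G →* Module.End F M) (U : Submodule F M) (hU : ∀ g, ∀ v ∈ U, φ g v ∈ U)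
    (g : G) (v : U) : (restrictRep φ U hU g v : M) = φ g v := rfl

theorem odd_orderOf_pGroup {G : Type*} [Group G] {r : ℕ} [hr : Fact r.Prime] (h2 : r ≠ 2)
    {R : Subgroup G} (hR : IsPGroup r R) {x : G} (hx : x ∈ R) : Odd (orderOf x) := by
  obtain ⟨i, hi⟩ := IsPGroup.iff_orderOf.mp hR ⟨x, hx⟩
  rw [Subgroup.orderOf_mk] at hi
  rw [hi]
  exact (hr.out.odd_of_ne_two h2).pow

/-- A quadratic automorphism of a group of symplectic type. -/
theorem no_quadratic_heisenberg {k : Type*} [Field k] [IsAlgClosed k] {q : ℕ} [hq : Fact q.Prime]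
    [CharP k q] (hq2 : q ≠ 2) {G : Type*} [Group G] [Finite G] {V : Type*} [AddCommGroup V]
    [Module k V] [FiniteDimensional k V] [Nontrivial V] (ρ : G →* Module.End k V)
    (hρ : Function.Injective ρ) (S : Subgroup G) (hS : IsPGroup 2 S) (a b : G)
    (haS : a ∈ normalizer (S : Set G)) (hbS : b ∈ normalizer (S : Set G))
    (hca : Commute ⁅a, b⁆ a) (hcb : Commute ⁅a, b⁆ b) (hSc : ⁅S, zpowers ⁅a, b⁆⁆ = S)
    (hscal : ∀ s ∈ S, ∀ t ∈ S, ∃ γ : k, ρ ⁅s, t⁆ = γ • 1)
    (hne : ∃ s ∈ S, ∃ t ∈ S, ⁅s, t⁆ ≠ 1) (hquad : (ρ ⁅a, b⁆ - 1) ^ 2 = 0) : False := by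
  classical
  set c := ⁅a, b⁆ with hcdef
  have hcS : c ∈ normalizer (S : Set G) := by
    rw [hcdef, commutatorElement_def]
    exact mul_mem (mul_mem (mul_mem haS hbS) (inv_mem haS)) (inv_mem hbS)
  have hq3 : 3 ≤ q := by have := hq.out.two_le; omega
  have hcq : c ^ q ^ 1 = 1 := hρ (by
    rw [map_one, map_pow, ← sub_eq_zero, ← sub_one_pow_eq_pow_sub_one (k := k), pow_one]
    exact pow_eq_zero_of_le (by omega) hquad)
  have hfull : (ρ c - 1) ^ (q ^ 1 - 1) = 0 := pow_eq_zero_of_le (by rw [pow_one]; omega) hquad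
  have hcent : ∀ s ∈ S, ∀ t ∈ S, ∀ g : G, Commute ⁅s, t⁆ g := by
    intro s hs t ht g
    obtain ⟨γ, hγ⟩ := hscal s hs t ht
    refine hρ ?_
    rw [map_mul, map_mul, hγ, smul_mul_assoc, one_mul, mul_smul_comm, mul_one]
  -- the centre
  set Z := S ⊓ centralizer (S : Set G) with hZ
  have hZS : Z ≤ S := inf_le_left
  have hNZ : ∀ g ∈ normalizer (S : Set G), g ∈ normalizer (Z : Set G) := fun g hg =>
    inf_normalizer_le_normalizer_inf ⟨hg, Basics.Carter.normalizer_centralizer hg⟩
  have hfixq : ∀ s ∈ S, c * s * c⁻¹ * s⁻¹ ∈ Z → s ∈ Z := by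
    intro s hs hζ
    let K : Subgroup G :=
      { carrier := {g | g ∈ normalizer (S : Set G) ∧ g * s * g⁻¹ * s⁻¹ ∈ Z}
        one_mem' := ⟨one_mem _, by simp⟩
        mul_mem' := fun {g h} hg hh => ⟨mul_mem hg.1 hh.1, by
          rw [show g * h * s * (g * h)⁻¹ * s⁻¹ =
            (g * (h * s * h⁻¹ * s⁻¹) * g⁻¹) * (g * s * g⁻¹ * s⁻¹) by group]
          exact mul_mem ((mem_normalizer_iff.mp (hNZ _ hg.1) _).mp hh.2) hg.2⟩
        inv_mem' := fun {g} hg => ⟨inv_mem hg.1, by
          rw [show g⁻¹ * s * g⁻¹⁻¹ * s⁻¹ = g⁻¹ * (g * s * g⁻¹ * s⁻¹)⁻¹ * g⁻¹⁻¹ by group]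
          exact (mem_normalizer_iff.mp (hNZ _ (inv_mem hg.1)) _).mp (inv_mem hg.2)⟩ }
    have hcK : zpowers c ≤ K := zpowers_le.mpr ⟨hcS, hζ⟩
    have hle : S ≤ centralizer ({s} : Set G) := by
      conv_lhs => rw [← hSc]
      rw [commutator_le]
      intro t ht g hg
      obtain ⟨hgS, hgζ⟩ := hcK hg
      rw [mem_centralizer_singleton_iff]
      set ζ := g * s * g⁻¹ * s⁻¹
      have hζs : g * s * g⁻¹ = ζ * s := by simp only [ζ]; group
      have hζc : ∀ w ∈ S, w * ζ = ζ * w := fun w hw => mem_centralizer_iff.mp (mem_inf.mp hgζ).2 w hw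
      have hw : ⁅t, g⁆ ∈ S := by
        rw [commutatorElement_def, mul_assoc t g, mul_assoc t]
        exact mul_mem ht ((mem_normalizer_iff.mp hgS _).mp (inv_mem ht))
      have h1 : ⁅t, g⁆ * (ζ * s) * ⁅t, g⁆⁻¹ = ζ * s := by
        have hl : Commute ⁅t⁻¹, s⁆ g := hcent _ (inv_mem ht) _ hs g
        calc ⁅t, g⁆ * (ζ * s) * ⁅t, g⁆⁻¹ = ⁅t, g⁆ * (g * s * g⁻¹) * ⁅t, g⁆⁻¹ := by rw [hζs]
          _ = t * (g * ⁅t⁻¹, s⁆ * (s * g⁻¹)) * t⁻¹ := by
            simp only [commutatorElement_def]; group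
          _ = t * (⁅t⁻¹, s⁆ * (g * s * g⁻¹)) * t⁻¹ := by rw [← hl.eq]; group
          _ = t * (⁅t⁻¹, s⁆ * (ζ * s)) * t⁻¹ := by rw [hζs]
          _ = t * (ζ * (⁅t⁻¹, s⁆ * s)) * t⁻¹ := by
            have e : ⁅t⁻¹, s⁆ * ζ = ζ * ⁅t⁻¹, s⁆ := hζc _ (by
              rw [commutatorElement_def]
              exact mul_mem (mul_mem (mul_mem (inv_mem ht) hs) (inv_mem (inv_mem ht))) (inv_mem hs))
            rw [← mul_assoc ⁅t⁻¹, s⁆ ζ s, e, mul_assoc ζ ⁅t⁻¹, s⁆ s]
          _ = (t * ζ) * (t⁻¹ * s * t) * t⁻¹ := by simp only [commutatorElement_def]; group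
          _ = (ζ * t) * (t⁻¹ * s * t) * t⁻¹ := by rw [hζc t ht]
          _ = ζ * s := by group
      have h2 : ⁅t, g⁆ * (ζ * s) = ζ * s * ⁅t, g⁆ := mul_inv_eq_iff_eq_mul.mp h1
      refine mul_left_cancel (a := ζ) ?_
      rw [← mul_assoc, ← hζc _ hw, mul_assoc, h2, mul_assoc]
    exact mem_inf.mpr ⟨hs, mem_centralizer_iff.mpr fun t ht => mem_centralizer_singleton_iff.mp (hle ht)⟩
  have hordS : ∀ s ∈ S, (orderOf s : k) ≠ 0 := by
    intro s hs
    obtain ⟨i, hi⟩ := IsPGroup.iff_orderOf.mp hS ⟨s, hs⟩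
    rw [Subgroup.orderOf_mk] at hi
    rw [hi, Ne, CharP.cast_eq_zero_iff k q]
    exact fun h => hq2 ((Nat.prime_dvd_prime_iff_eq hq.out Nat.prime_two).mp
      (hq.out.dvd_of_dvd_pow h))
  -- `c` centralizes the centre
  have hcZ : ∀ x ∈ Z, c * x = x * c := by
    intro x hx
    by_contra hxc
    refine full_degree_of_abelian ρ Z c (hNZ c hcS) hcq
      (fun a ha b hb => (show Commute a b from mem_centralizer_iff.mp (mem_inf.mp hb).2 a (hZS ha)).map ρ)
      (fun a ha => hordS a (hZS ha)) ⟨x, hx, fun h => hxc ?_⟩ hfull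
    rw [Nat.sub_self, pow_zero, pow_one] at h
    exact mul_inv_eq_iff_eq_mul.mp (hρ h)
  obtain ⟨χ, -, v, hv, hv0⟩ := exists_char ρ Z fun a ha b hb =>
    (show Commute a b from mem_centralizer_iff.mp (mem_inf.mp hb).2 a (hZS ha)).map ρ
  set W := eigW ρ Z χ
  haveI : Nontrivial W := nontrivial_of_ne ⟨v, hv⟩ 0 fun h => hv0 (congrArg Subtype.val h)
  let G4 : Subgroup G := centralizer (Z : Set G)
  have hinv : ∀ g ∈ G4, ∀ w ∈ W, ρ g w ∈ W := by
    intro g hg w hw x hx
    rw [← Module.End.mul_apply, ← map_mul, mem_centralizer_iff.mp hg x hx, map_mul,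
      Module.End.mul_apply, hw x hx, map_smul]
  have hSG4 : S ≤ G4 := fun s hs => mem_centralizer_iff.mpr fun x hx =>
    ((mem_centralizer_iff.mp (mem_inf.mp hx).2) s hs).symm
  have hcG4 : c ∈ G4 := mem_centralizer_iff.mpr fun x hx => (hcZ x hx).symm
  let ρW : G4 →* Module.End k W :=
    { toFun := fun g => (ρ (g : G)).restrict (hinv g g.2)
      map_one' := LinearMap.ext fun w => Subtype.ext (by simp)
      map_mul' := fun a b => LinearMap.ext fun w => Subtype.ext (by simp [map_mul]) }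
  have hscW : ∀ s ∈ S, ∀ t ∈ S, ∀ (γ : k), ρ ⁅s, t⁆ = γ • 1 →
      ∀ (h : ⁅s, t⁆ ∈ G4), ρW ⟨_, h⟩ = γ • 1 := fun s _ t _ γ hγ h =>
    LinearMap.ext fun w => Subtype.ext (by simp [ρW, hγ])
  obtain ⟨s1, hs1, t1, ht1, hst1⟩ := hne
  obtain ⟨γ1, hγ1⟩ := hscal s1 hs1 t1 ht1
  have hγne : γ1 ≠ 1 := fun h => hst1 (hρ (by rw [hγ1, h, one_smul, map_one]))
  have hnorm : (⟨c, hcG4⟩ : G4) ∈ normalizer ((S.subgroupOf G4 : Subgroup G4) : Set G4) :=
    mem_normalizer_iff.mpr fun g => by
      simp only [mem_subgroupOf, Subgroup.coe_mul, Subgroup.coe_inv]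
      exact mem_normalizer_iff.mp hcS (g : G)
  rcases degree_of_symplectic (p := q) (q := 2) ρW (S.subgroupOf G4) (Ne.symm hq2)
      (hS.comap_subtype) ⟨c, hcG4⟩ hnorm le_rfl (Subtype.ext (by simpa using hcq))
      (fun s hs t ht => by
        obtain ⟨γ, hγ⟩ := hscal _ (mem_subgroupOf.mp hs) _ (mem_subgroupOf.mp ht)
        exact ⟨γ, LinearMap.ext fun w => Subtype.ext (by
          have := LinearMap.congr_fun hγ (w : V)
          simpa [ρW, commutatorElement_def] using this)⟩)
      ⟨⟨s1, hSG4 hs1⟩, mem_subgroupOf.mpr hs1, ⟨t1, hSG4 ht1⟩, mem_subgroupOf.mpr ht1, fun h => by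
        have h1 := congrArg Subtype.val (LinearMap.congr_fun h ⟨v, hv⟩)
        have h2 := LinearMap.congr_fun hγ1 v
        simp [ρW, commutatorElement_def] at h1 h2
        rw [h2] at h1
        exact hγne (smul_left_injective k hv0 (h1.trans (one_smul k v).symm))⟩
      (fun s hs hfix => by
        have hs' := mem_subgroupOf.mp hs
        have h1 := congrArg Subtype.val hfix
        simp only [Nat.sub_self, pow_zero, pow_one, Subgroup.coe_mul, Subgroup.coe_inv] at h1
        have hsZ : (s : G) ∈ Z := hfixq _ hs' (by rw [h1, mul_inv_cancel]; exact one_mem _)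
        exact ⟨χ s, LinearMap.ext fun w => Subtype.ext (w.2 _ hsZ)⟩)
    with hdeg | ⟨hdeg, m, hm, hqm, R4, hR4S, hR4, hR4card⟩
  · apply hdeg
    have hsub : ∀ (n : ℕ) (w : W), (((ρW ⟨c, hcG4⟩ - 1) ^ n) w : V) = ((ρ c - 1) ^ n) (w : V) := by
      intro n
      induction n with
      | zero => intro w; rfl
      | succ n ih => intro w; rw [pow_succ', pow_succ', Module.End.mul_apply, Module.End.mul_apply, ← ih]; rfl
    exact LinearMap.ext fun w => Subtype.ext (by rw [hsub, hfull]; rfl)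
  have hq' : q = 3 := by
    by_contra hne3
    apply hdeg
    have hsub : ∀ (n : ℕ) (w : W), (((ρW ⟨c, hcG4⟩ - 1) ^ n) w : V) = ((ρ c - 1) ^ n) (w : V) := by
      intro n
      induction n with
      | zero => intro w; rfl
      | succ n ih => intro w; rw [pow_succ', pow_succ', Module.End.mul_apply, Module.End.mul_apply, ← ih]; rfl
    have h0 : (ρ c - 1) ^ (q ^ 1 - 2) = 0 := pow_eq_zero_of_le (by rw [pow_one]; omega) hquad
    exact LinearMap.ext fun w => Subtype.ext (by rw [hsub, h0]; rfl)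
  subst hq'
  have hcard : Z.relIndex S ∣ 4 := by
    have h2 : (R4.map G4.subtype).relIndex S = 4 := by
      rw [show (4 : ℕ) = (3 ^ 1 - 1) * (3 ^ 1 - 1) by norm_num, ← hR4card,
        ← relIndex_map_map_of_injective R4 (S.subgroupOf G4) G4.subtype_injective,
        map_subgroupOf_eq_of_le hSG4]
    rw [← h2]
    refine relIndex_dvd_of_le_left S ?_
    rintro _ ⟨r, hr, rfl⟩
    have hrS : (r : G) ∈ S := mem_subgroupOf.mp (hR4S hr)
    refine mem_inf.mpr ⟨hrS, mem_centralizer_iff.mpr fun t ht => ?_⟩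
    obtain ⟨γ, hγ⟩ := hscal _ hrS t ht
    obtain ⟨δ, hδ⟩ := hR4 r hr
    have e : ρ ((r : G) * t) v = ρ (t * r) v := by
      have hv' : ρ t v ∈ W := hinv _ (hSG4 ht) v hv
      have e1 := congrArg Subtype.val (LinearMap.congr_fun hδ ⟨v, hv⟩)
      have e2 := congrArg Subtype.val (LinearMap.congr_fun hδ ⟨_, hv'⟩)
      simp [ρW] at e1 e2
      rw [map_mul, map_mul, Module.End.mul_apply, Module.End.mul_apply, e2, e1, map_smul]
    have e3 : ρ ⁅(r : G), t⁆ (ρ (t * r) v) = ρ (t * r) v := by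
      rw [← Module.End.mul_apply, ← map_mul,
        show ⁅(r : G), t⁆ * (t * r) = r * t by rw [commutatorElement_def]; group, e]
    rw [hγ, LinearMap.smul_apply, Module.End.one_apply] at e3
    have hγ1' : γ = 1 :=
      smul_left_injective k (rho_ne_zero ρ _ hv0) (e3.trans (one_smul k _).symm)
    have h3 : ⁅(r : G), t⁆ = 1 := hρ (by rw [hγ, hγ1', one_smul, map_one])
    exact (commutatorElement_eq_one_iff_commute.mp h3).eq.symm
  -- the quotient
  haveI hZn : (Z.subgroupOf S).Normal := ⟨fun x hx g => mem_subgroupOf.mpr (by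
    have h := mem_inf.mp (mem_subgroupOf.mp hx)
    push_cast
    rw [show (g : G) * x * (g : G)⁻¹ = x by
      rw [mem_centralizer_iff.mp h.2 g g.2, mul_inv_cancel_right]]
    exact mem_subgroupOf.mp hx)⟩
  let Q := ↥S ⧸ Z.subgroupOf S
  have hQcard : Nat.card Q ≤ 4 := Nat.le_of_dvd (by norm_num) hcard
  let conj' : (g : G) → g ∈ normalizer (S : Set G) → (↥S →* ↥S) := fun g hg =>
    { toFun := fun x => ⟨g * x * g⁻¹, (mem_normalizer_iff.mp hg _).mp x.2⟩
      map_one' := Subtype.ext (by simp)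
      map_mul' := fun x y => Subtype.ext (by simp [mul_assoc]) }
  let F : (g : G) → g ∈ normalizer (S : Set G) → (Q →* Q) := fun g hg =>
    QuotientGroup.map _ _ (conj' g hg) fun x hx => mem_comap.mpr (mem_subgroupOf.mpr
      ((mem_normalizer_iff.mp (hNZ g hg) _).mp (mem_subgroupOf.mp hx)))
  have hFmul : ∀ g hg h hh (x : Q), F (g * h) (mul_mem hg hh) x = F g hg (F h hh x) := by
    intro g hg h hh x
    induction x using QuotientGroup.induction_on with
    | H x =>
      simp only [F, QuotientGroup.map_mk]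
      exact congrArg _ (Subtype.ext (by simp [conj', mul_assoc]))
  have hFeq : ∀ g hg h hh, g = h → ∀ x : Q, F g hg x = F h hh x := by
    intro g hg h hh e x; subst e; rfl
  have hswap : ∀ g hg h hh, g * h = h * g → ∀ x : Q, F g hg (F h hh x) = F h hh (F g hg x) := by
    intro g hg h hh e x
    rw [← hFmul g hg h hh, ← hFmul h hh g hg]
    exact hFeq _ (mul_mem hg hh) _ (mul_mem hh hg) e x
  have hfpf : ∀ x : Q, F c hcS x = x → x = 1 := by
    intro x hx
    induction x using QuotientGroup.induction_on with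
    | H x =>
      rw [show F c hcS (QuotientGroup.mk x) = QuotientGroup.mk (conj' c hcS x) from rfl,
        QuotientGroup.eq, mem_subgroupOf] at hx
      push_cast at hx
      refine (QuotientGroup.eq_one_iff _).mpr (mem_subgroupOf.mpr (hfixq _ x.2 ?_))
      have h2 := inv_mem ((mem_normalizer_iff.mp (hNZ _ (le_normalizer x.2)) _).mp hx)
      simp only [conj', MonoidHom.coe_mk, OneHom.coe_mk] at h2
      convert h2 using 1
      group
  have hc3 : ∀ x : Q, F c hcS (F c hcS (F c hcS x)) = x := by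
    intro x
    rw [← hFmul c hcS c hcS, ← hFmul (c * c) (mul_mem hcS hcS) c hcS]
    induction x using QuotientGroup.induction_on with
    | H x =>
      simp only [F, QuotientGroup.map_mk]
      refine congrArg _ (Subtype.ext ?_)
      have h3 : c * c * c = 1 := by
        rw [pow_one] at hcq; rw [← hcq, pow_succ, pow_two]
      simp [conj', ← mul_assoc, h3]
  have hSZ : ¬ S ≤ Z := fun h => hst1 (commutatorElement_eq_one_iff_commute.mpr
    (mem_centralizer_iff.mp (mem_inf.mp (h ht1)).2 s1 hs1))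
  obtain ⟨s0, hs0, hs0Z⟩ := SetLike.not_le_iff_exists.mp hSZ
  set x0 : Q := QuotientGroup.mk ⟨s0, hs0⟩
  have hx0 : x0 ≠ 1 := fun h => hs0Z (mem_subgroupOf.mp ((QuotientGroup.eq_one_iff _).mp h))
  have hinj : ∀ g hg, ∀ x : Q, F g hg x = 1 → x = 1 := by
    intro g hg x hx
    have h := congrArg (F g⁻¹ (inv_mem hg)) hx
    rwa [← hFmul g⁻¹ (inv_mem hg) g hg, map_one, hFeq _ (mul_mem (inv_mem hg) hg) 1 (one_mem _) (inv_mul_cancel g), show F 1 (one_mem _) x = x from by
      induction x using QuotientGroup.induction_on with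
      | H x =>
        simp only [F, QuotientGroup.map_mk]
        exact congrArg _ (Subtype.ext (by simp [conj']))] at h
  have horb : ∀ y : Q, y ≠ 1 → y = x0 ∨ y = F c hcS x0 ∨ y = F c hcS (F c hcS x0) := by
    intro y hy
    by_contra hall
    push Not at hall
    have h1 : F c hcS x0 ≠ x0 := fun h => hx0 (hfpf _ h)
    have h2 : F c hcS (F c hcS x0) ≠ F c hcS x0 := fun h => hx0 (hinj c hcS x0 (hfpf (F c hcS x0) h))
    have h3 : F c hcS (F c hcS x0) ≠ x0 := fun h => h1 (by
      conv_rhs => rw [← hc3 x0]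
      rw [h])
    have hx1 : F c hcS x0 ≠ 1 := fun h => hx0 (hinj c hcS x0 h)
    have hx2 : F c hcS (F c hcS x0) ≠ 1 := fun h => hx1 (hinj c hcS (F c hcS x0) h)
    haveI : Fintype Q := Fintype.ofFinite Q
    have h5 : ({1, y, x0, F c hcS x0, F c hcS (F c hcS x0)} : Finset Q).card = 5 := by
      rw [Finset.card_insert_of_notMem, Finset.card_insert_of_notMem, Finset.card_insert_of_notMem,
        Finset.card_insert_of_notMem, Finset.card_singleton]
      · simpa using h2.symm
      · simp [h1.symm, h3.symm]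
      · simp [hall.1, hall.2.1, hall.2.2]
      · simp [hy.symm, hx0.symm, hx1.symm, hx2.symm]
    have h6 := Finset.card_le_univ ({1, y, x0, F c hcS x0, F c hcS (F c hcS x0)} : Finset Q)
    rw [← Nat.card_eq_fintype_card] at h6
    omega
  -- `a` and `b` commute on the quotient
  have hac : ∀ x, F a haS (F c hcS x) = F c hcS (F a haS x) := hswap a haS c hcS hca.eq.symm
  have hbc : ∀ x, F b hbS (F c hcS x) = F c hcS (F b hbS x) := hswap b hbS c hcS hcb.eq.symm
  have hcomm : F a haS (F b hbS x0) = F b hbS (F a haS x0) := by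
    rcases horb _ (fun h => hx0 (hinj b hbS x0 h)) with e | e | e <;> rw [e] <;>
      rcases horb _ (fun h => hx0 (hinj a haS x0 h)) with e' | e' | e' <;>
        simp only [hac, hbc, e, e']
  have hab : a * b = c * (b * a) := by rw [hcdef, commutatorElement_def]; group
  have h7 : F c hcS (F b hbS (F a haS x0)) = F b hbS (F a haS x0) := by
    conv_rhs => rw [← hcomm]
    rw [← hFmul b hbS a haS, ← hFmul a haS b hbS, ← hFmul c hcS (b * a) (mul_mem hbS haS)]
    exact hFeq _ (mul_mem hcS (mul_mem hbS haS)) _ (mul_mem haS hbS) hab.symm x0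
  exact hx0 (hinj a haS x0 (hinj b hbS (F a haS x0) (hfpf _ h7)))

/-- An inverted commutator with its plane gives too large a displacement. -/
theorem no_inverted_plane {k : Type*} [Field k] [IsAlgClosed k] {Γ : Type*} [Group Γ] [Finite Γ]
    {V : Type*} [AddCommGroup V] [Module k V] [FiniteDimensional k V] (ρ : Γ →* Module.End k V)
    (E : Subgroup Γ) (u s t : Γ) (hu : u * u * (u * u) = 1)
    (hrank : finrank k (LinearMap.range (ρ (u * u) - 1)) ≤ 2)
    (hsi : u * u * s * (u * u)⁻¹ = s⁻¹) (hso : Odd (orderOf s)) (hδo : Odd (orderOf ⁅s, t⁆))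
    (hsk : (orderOf s : k) ≠ 0) (hδk : (orderOf ⁅s, t⁆ : k) ≠ 0) (hδne : ρ ⁅s, t⁆ ≠ 1)
    (hδs : Commute (ρ ⁅s, t⁆) (ρ s)) (hδt : Commute (ρ ⁅s, t⁆) (ρ t))
    (hδz : Commute (ρ ⁅s, t⁆) (ρ (u * u))) (hinv : ρ (⁅s, t⁆ * u) = ρ (u * ⁅s, t⁆⁻¹))
    (hEδ : ∀ x ∈ E, Commute (ρ ⁅s, t⁆) (ρ x)) (hEs : ∀ x ∈ E, Commute (ρ s) (ρ x))
    (hfpf : ∀ v : V, (∀ x ∈ ⁅E, E⁆, ρ x v = v) → v = 0) : False := by
  classical
  set δ := ⁅s, t⁆
  set z := u * u with hz
  obtain ⟨v, hv0, χ, hχ, hχ1⟩ := exists_eigen_ne_one (fun _ : Unit => ρ δ)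
    (fun _ _ => Commute.refl _) () hδk
    (by rw [← map_pow, pow_orderOf_eq_one, map_one]) hδne
  set γ := χ ()
  have hW : ρ δ v = γ • v := hχ ()
  let W : Submodule k (V) := LinearMap.ker (ρ δ - γ • 1)
  have hmemW : ∀ w, w ∈ W ↔ ρ δ w = γ • w := fun w => by simp [W, sub_eq_zero]
  have hinvW : ∀ g : Γ, Commute (ρ g) (ρ δ) → ∀ w ∈ W, ρ g w ∈ W := by
    intro g hg w hw
    rw [hmemW] at hw ⊢
    rw [← Module.End.mul_apply, ← hg.eq, Module.End.mul_apply, hw, map_smul]
  have hsW : ∀ w ∈ W, ρ s w ∈ W := hinvW s hδs.symm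
  have htW : ∀ w ∈ W, ρ t w ∈ W := hinvW t hδt.symm
  have hsne : (ρ s).restrict hsW ≠ 1 := by
    intro h
    have hs1 : ∀ w ∈ W, ρ s w = w := fun w hw =>
      congrArg Subtype.val (LinearMap.congr_fun h ⟨w, hw⟩)
    have hvW : v ∈ W := (hmemW v).mpr hW
    apply hχ1
    have e1 : ρ (t * s) v = ρ t v := by rw [map_mul, Module.End.mul_apply, hs1 v hvW]
    have e2 : ρ δ (ρ (t * s) v) = ρ (s * t) v := by
      rw [← Module.End.mul_apply, ← map_mul,
        show δ * (t * s) = s * t by simp only [δ, commutatorElement_def]; group]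
    rw [e1, (hmemW _).mp (htW v hvW), map_mul, Module.End.mul_apply, hs1 _ (htW v hvW)] at e2
    exact smul_left_injective k (rho_ne_zero ρ t hv0) (e2.trans (one_smul k _).symm)
  have hsord : ((ρ s).restrict hsW) ^ orderOf s = 1 := LinearMap.ext fun w => Subtype.ext (by
      have hp : ∀ n, ((((ρ s).restrict hsW) ^ n) w : V) = (ρ s ^ n) w := by
        intro n
        induction n with
        | zero => rfl
        | succ n ih => rw [pow_succ', pow_succ', Module.End.mul_apply, Module.End.mul_apply, ← ih]; rfl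
      rw [hp, ← map_pow, pow_orderOf_eq_one, map_one]; rfl)
  let Sr : Module.End k W := (ρ s).restrict hsW
  obtain ⟨w, hw0, χs, hχs, hlam⟩ := exists_eigen_ne_one (k := k) (V := ↥W) (fun _ : Unit => Sr)
    (fun _ _ => Commute.refl _) () hsk hsord hsne
  set μ := χs ()
  have hsw : ρ s (w : V) = μ • (w : V) := congrArg Subtype.val (hχs ())
  have hμN : μ ^ orderOf s = 1 := by
    have hp : ∀ n, (ρ s ^ n) (w : V) = μ ^ n • (w : V) := by
      intro n
      induction n with
      | zero => simp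
      | succ n ih => rw [pow_succ', Module.End.mul_apply, ih, map_smul, hsw, smul_smul, pow_succ]
    have h := hp (orderOf s)
    rw [← map_pow, pow_orderOf_eq_one, map_one, Module.End.one_apply] at h
    exact smul_left_injective k (fun h0 : (w : V) = 0 => hw0 (Subtype.ext h0))
      (h.symm.trans (one_smul k _).symm)
  let W1 : Submodule k (V) := W ⊓ LinearMap.ker (ρ s - μ • 1)
  have hmemW1 : ∀ x, x ∈ W1 ↔ ρ δ x = γ • x ∧ ρ s x = μ • x := fun x => by
    simp [W1, Submodule.mem_inf, hmemW, sub_eq_zero]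
  have hdim1 : 2 ≤ finrank k W1 := two_le_finrank_of_fpf ρ E W1
    (fun g hg x hx => by
      rw [hmemW1] at hx ⊢
      constructor <;>
        rw [← Module.End.mul_apply]
      · rw [(hEδ g hg).eq, Module.End.mul_apply, hx.1, map_smul]
      · rw [(hEs g hg).eq, Module.End.mul_apply, hx.2, map_smul])
    ((hmemW1 _).mpr ⟨(hmemW _).mp w.2, hsw⟩) (fun h0 => hw0 (Subtype.ext h0)) hfpf
  set T := ρ z - 1
  have hzδ : Commute (ρ z) (ρ δ) := hδz.symm
  have huδ : ∀ x, ρ δ x = γ • x → ρ δ (ρ u x) = γ⁻¹ • ρ u x := by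
    intro x hx
    have e := hinv
    have hγ0 : γ ≠ 0 ∨ x = 0 := by
      by_cases hx0 : x = 0
      · exact Or.inr hx0
      · exact Or.inl fun h0 => rho_ne_zero ρ δ hx0 (by rw [hx, h0, zero_smul])
    rw [← Module.End.mul_apply, ← map_mul, e, map_mul, Module.End.mul_apply]
    rcases hγ0 with hγ0 | rfl
    · have hxi : ρ δ⁻¹ x = γ⁻¹ • x := by
        conv_rhs => rw [← Module.End.one_apply (R := k) x, ← map_one ρ, ← inv_mul_cancel δ, map_mul,
          Module.End.mul_apply, hx, map_smul, smul_smul, inv_mul_cancel₀ hγ0, one_smul]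
      rw [hxi, map_smul]
    · simp
  have hTW : ∀ x ∈ W, T x ∈ W := fun x hx => by
    simp only [T, LinearMap.sub_apply, Module.End.one_apply]
    exact sub_mem (hinvW z hzδ x hx) hx
  have hTinj : ∀ x ∈ W1, T x = 0 → x = 0 := by
    intro x hx h0
    by_contra hx0
    have hzx : ρ z x = x := by simpa [T, sub_eq_zero] using h0
    rw [hmemW1] at hx
    have e : ρ (z * s) x = ρ (s⁻¹ * z) x :=
      congrArg (fun g => ρ g x) (mul_inv_eq_iff_eq_mul.mp hsi)
    rw [map_mul ρ z s, map_mul ρ s⁻¹ z, Module.End.mul_apply, Module.End.mul_apply, hzx, hx.2, map_smul, hzx] at e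
    have e2 := congrArg (ρ s) e
    rw [map_smul, hx.2, smul_smul, ← Module.End.mul_apply, ← map_mul, mul_inv_cancel, map_one,
      Module.End.one_apply] at e2
    have e3 : μ * μ = 1 := smul_left_injective k hx0 (e2.trans (one_smul k x).symm)
    obtain ⟨m, hm⟩ := hso
    rw [hm, pow_succ, pow_mul, pow_two, e3, one_pow, one_mul] at hμN
    exact hlam hμN
  have hγγ : γ⁻¹ ≠ γ := by
    intro h
    have hγ0 : γ ≠ 0 := fun h0 => rho_ne_zero ρ δ hv0 (by rw [hW, h0, zero_smul])
    have e3 : γ * γ = 1 := by conv_lhs => arg 1; rw [← h]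
                              exact inv_mul_cancel₀ hγ0
    obtain ⟨m, hm⟩ := hδo
    have hp : ∀ n, (ρ δ ^ n) v = γ ^ n • v := by
      intro n
      induction n with
      | zero => simp
      | succ n ih => rw [pow_succ', Module.End.mul_apply, ih, map_smul, hW, smul_smul, pow_succ]
    have h1 := hp (orderOf δ)
    rw [← map_pow, pow_orderOf_eq_one, map_one, Module.End.one_apply, hm, pow_succ, pow_mul, pow_two,
      e3, one_pow, one_mul] at h1
    exact hχ1 (smul_left_injective k hv0 (h1.symm.trans (one_smul k v).symm))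
  have hTu : ∀ x, T (ρ u x) = ρ u (T x) := fun x => by
    show ρ z (ρ u x) - ρ u x = ρ u (ρ z x - x)
    rw [map_sub, ← Module.End.mul_apply (ρ z), ← Module.End.mul_apply (ρ u) (ρ z), ← map_mul,
      ← map_mul, show z * u = u * z by rw [hz, mul_assoc]]
  let L : (W1 × W1) →ₗ[k] LinearMap.range T :=
    { toFun := fun p => ⟨T ((p.1 : V) + ρ u p.2), LinearMap.mem_range_self _ _⟩
      map_add' := fun p p' => Subtype.ext (by
        simp only [Prod.fst_add, Prod.snd_add, Submodule.coe_add, map_add]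
        abel)
      map_smul' := fun c p => Subtype.ext (by simp) }
  have hL : Function.Injective L := by
    refine (injective_iff_map_eq_zero L).mpr fun p hp => ?_
    have h : T (p.1 : V) + ρ u (T p.2) = 0 := by
      have := congrArg Subtype.val hp
      simpa [L, hTu] using this
    have h1 := (hmemW _).mp (hTW _ (Submodule.mem_inf.mp p.1.2).1)
    have h2 := huδ _ ((hmemW _).mp (hTW _ (Submodule.mem_inf.mp p.2.2).1))
    have h3 := congrArg (ρ δ) h
    rw [map_add, h1, h2, map_zero, eq_neg_of_add_eq_zero_left h, smul_neg, ← neg_smul, ← add_smul,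
      smul_eq_zero] at h3
    have h4 : T (p.2 : V) = 0 := by
      rcases h3 with h3 | h3
      · exact absurd (by linear_combination h3) hγγ
      · have := congrArg (ρ u⁻¹) h3
        rwa [← Module.End.mul_apply, ← map_mul, inv_mul_cancel, map_one, Module.End.one_apply,
          map_zero] at this
    rw [h4, map_zero, add_zero] at h
    exact Prod.ext (Subtype.ext (hTinj _ p.1.2 h)) (Subtype.ext (hTinj _ p.2.2 h4))
  have hfin := LinearMap.finrank_le_finrank_of_injective hL
  rw [Module.finrank_prod] at hfin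
  have hT : finrank k (LinearMap.range T) ≤ 2 := hrank
  omega

/-- A quadratic commutator on the characters of a derived group. -/
theorem no_quadratic_normal {k : Type*} [Field k] [IsAlgClosed k] {q : ℕ} [hq : Fact q.Prime]
    [CharP k q] (hq2 : q ≠ 2) {Γ : Type*} [Group Γ] [Finite Γ] {V : Type*} [AddCommGroup V]
    [Module k V] [FiniteDimensional k V] [Nontrivial V] (ρ : Γ →* Module.End k V) (E : Subgroup Γ)
    [E.Normal] (hE : IsPGroup 2 E) (u a : Γ) (hu : u * u * (u * u) = 1)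
    (hrank : finrank k (LinearMap.range (ρ (u * u) - 1)) ≤ 2)
    (ha : u * u * a * (u * u)⁻¹ = a⁻¹) (hao : Odd (orderOf a))
    (hbo : Odd (orderOf (u * a * u⁻¹)))
    (hEc : ⁅E, zpowers ⁅a, u * a * u⁻¹⁆⁆ = E)
    (hcent : ∀ x ∈ ⁅E, E⁆, ∀ g ∈ E, Commute (ρ x) (ρ g))
    (hca : Commute (ρ ⁅a, u * a * u⁻¹⁆) (ρ a))
    (hcb : Commute (ρ ⁅a, u * a * u⁻¹⁆) (ρ (u * a * u⁻¹)))
    (hquad : (ρ ⁅a, u * a * u⁻¹⁆ - 1) * (ρ ⁅a, u * a * u⁻¹⁆ - 1) = 0)
    (hfpf : ∀ v : V, (∀ x ∈ ⁅E, E⁆, ρ x v = v) → v = 0) : False := by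
  classical
  set c := ⁅a, u * a * u⁻¹⁆ with hc
  set D := ⁅E, E⁆
  obtain ⟨χ, hχ, v, hv, hv0⟩ := exists_char ρ D fun x hx y hy =>
    hcent x hx y (commutator_le_self E hy)
  have hfixz : ∀ g : Γ, ∀ ψ : Γ → k, (∀ x, x ∉ D → ψ x = 0) →
      (∃ w ∈ eigW ρ D ψ, w ≠ 0) → actC (g * (u * u) * g⁻¹) ψ = ψ := by
    intro g ψ hψ hw
    have hgn : ∀ h : Γ, h ∈ normalizer (D : Set Γ) := fun h => by rw [normalizer_eq_top]; trivial
    obtain ⟨w, hw, hw0⟩ := hw
    have hψ' := actC_supp (hgn g⁻¹) hψ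
    have h1 := actC_sq_eq ρ D (hgn u) hu hrank (actC g⁻¹ ψ) hψ'
      (two_le_finrank_of_fpf ρ E _ (fun x hx y hy b hb => by
          rw [← Module.End.mul_apply, (hcent b hb x hx).eq, Module.End.mul_apply, hy b hb,
            map_smul])
        (actC_mem ρ (hgn g⁻¹) hw) (rho_ne_zero ρ g⁻¹ hw0) hfpf)
    rw [actC_mul, actC_mul, h1, ← actC_mul, mul_inv_cancel, actC_one]
  have hfixs : ∀ g : Γ, u * u * g * (u * u)⁻¹ = g⁻¹ → Odd (orderOf g) → actC g χ = χ := by
    intro g hg hgo
    have hz1 : actC (u * u) χ = χ := by simpa using hfixz 1 χ hχ ⟨v, hv, hv0⟩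
    have h2 := hfixz g χ hχ ⟨v, hv, hv0⟩
    have e : g * g = g * (u * u) * g⁻¹ * (u * u) := by
      rw [show g⁻¹ = (u * u) * g * (u * u) by rw [← hg, inv_eq_of_mul_eq_one_right hu]]
      calc g * g = g * ((u * u) * (u * u)) * g * ((u * u) * (u * u)) := by
            rw [hu, mul_one, mul_one]
        _ = _ := by group
    have h3 : actC (g * g) χ = χ := by rw [e, actC_mul, hz1, h2]
    have h4 : ∀ n : ℕ, actC ((g * g) ^ n) χ = χ := by
      intro n
      induction n with
      | zero => simp [actC_one]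
      | succ n ih => rw [pow_succ, actC_mul, h3, ih]
    obtain ⟨m, hm⟩ := hgo
    rw [show g = (g * g) ^ (m + 1) by
      rw [← pow_two, ← pow_mul, show 2 * (m + 1) = (2 * m + 1) + 1 by ring, pow_succ, ← hm,
        pow_orderOf_eq_one, one_mul]]
    exact h4 _
  set b := u * a * u⁻¹ with hb
  have hbinv : u * u * b * (u * u)⁻¹ = b⁻¹ := by
    rw [hb, show u * u * (u * a * u⁻¹) * (u * u)⁻¹ = u * (u * u * a * (u * u)⁻¹) * u⁻¹ by group,
      ha]
    group
  have hfa := hfixs a ha hao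
  have hfb := hfixs b hbinv hbo
  let G2 : Subgroup Γ :=
    { carrier := {g | actC g χ = χ}
      one_mem' := actC_one χ
      mul_mem' := fun {g h} hg hh => by
        show actC (g * h) χ = χ
        rw [actC_mul, hh, hg]
      inv_mem' := fun {g} hg => by
        show actC g⁻¹ χ = χ
        conv_lhs => rw [← hg]
        rw [← actC_mul, inv_mul_cancel, actC_one] }
  set W := eigW ρ D χ
  haveI : Nontrivial W := nontrivial_of_ne ⟨v, hv⟩ 0 fun h => hv0 (congrArg Subtype.val h)
  have hW : ∀ g ∈ G2, ∀ w ∈ W, ρ g w ∈ W := fun g hg w hw => by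
    have := actC_mem ρ (A := D) (g := g) (by rw [normalizer_eq_top]; trivial) hw
    rwa [show actC g χ = χ from hg] at this
  have hEG2 : E ≤ G2 := by
    intro x hx
    show actC x χ = χ
    funext y
    by_cases hy : y ∈ D
    · have hy' : x⁻¹ * y * x ∈ D := by
        have := (inferInstance : D.Normal).conj_mem y hy x⁻¹
        rwa [inv_inv] at this
      have e : ρ (x⁻¹ * y * x) = ρ y := by
        rw [map_mul, map_mul, mul_assoc, (hcent y hy x hx).eq, ← mul_assoc, ← map_mul,
          inv_mul_cancel, map_one, one_mul]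
      have h1 := hv _ hy'
      rw [e, hv y hy] at h1
      exact (smul_left_injective k hv0 h1).symm
    · rw [hχ y hy]
      exact actC_supp (A := D) (by rw [normalizer_eq_top]; trivial) hχ y hy
  let ρW : G2 →* Module.End k W :=
    { toFun := fun g => (ρ (g : Γ)).restrict (hW g g.2)
      map_one' := LinearMap.ext fun w => Subtype.ext (by simp)
      map_mul' := fun a b => LinearMap.ext fun w => Subtype.ext (by simp [map_mul]) }
  set π3 := ρW.toHomUnits.rangeRestrict with hπ3
  haveI : Finite ↥ρW.toHomUnits.range := Finite.of_surjective π3 ρW.toHomUnits.rangeRestrict_surjective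
  set S3 := (E.subgroupOf G2).map π3
  let a2 : G2 := ⟨a, hfa⟩
  let b2 : G2 := ⟨b, hfb⟩
  have hc2 : ((⁅a2, b2⁆ : G2) : Γ) = c := by rw [hc, commutatorElement_def, commutatorElement_def]; rfl
  have hπeq : ∀ g h : G2, ρ (g : Γ) = ρ (h : Γ) → π3 g = π3 h := fun g h e =>
    Subtype.ext (Units.ext (LinearMap.ext fun w => Subtype.ext (LinearMap.congr_fun e (w : V))))
  have hnorm : ∀ g : G2, π3 g ∈ normalizer (S3 : Set ↥ρW.toHomUnits.range) := fun g => by
    refine mem_normalizer_iff_map_conj_eq.mpr (eq_of_le_of_card_ge ?_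
      (card_map_of_injective (MulAut.conj (π3 g)).injective).ge)
    rintro _ ⟨_, ⟨x, hx, rfl⟩, rfl⟩
    refine ⟨g * x * g⁻¹, mem_subgroupOf.mpr ?_, by simp⟩
    push_cast
    exact (inferInstance : E.Normal).conj_mem _ (mem_subgroupOf.mp hx) _
  haveI : Finite ↥ρW.toHomUnits.range := Finite.of_surjective π3 ρW.toHomUnits.rangeRestrict_surjective
  let ρ3 : ↥ρW.toHomUnits.range →* Module.End k W :=
    (Units.coeHom (Module.End k W)).comp ρW.toHomUnits.range.subtype
  refine no_quadratic_heisenberg (k := k) (V := ↥W) (q := q) hq2 ρ3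
    (fun g h (e : ρ3 g = ρ3 h) => Subtype.ext (Units.ext e)) S3 ?_ (π3 a2) (π3 b2) (hnorm _) (hnorm _) ?_ ?_ ?_ ?_ ?_ ?_
  · exact (hE.comap_subtype).map π3
  · rw [← map_commutatorElement]
    show π3 ⁅a2, b2⁆ * π3 a2 = π3 a2 * π3 ⁅a2, b2⁆
    rw [← map_mul, ← map_mul]
    refine hπeq _ _ ?_
    push_cast
    rw [hc2]
    rw [map_mul, map_mul]
    exact hca.eq
  · rw [← map_commutatorElement]
    show π3 ⁅a2, b2⁆ * π3 b2 = π3 b2 * π3 ⁅a2, b2⁆
    rw [← map_mul, ← map_mul]
    refine hπeq _ _ ?_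
    push_cast
    rw [hc2]
    rw [map_mul ρ c, map_mul ρ _ c]
    exact hcb.eq
  · rw [← map_commutatorElement, ← MonoidHom.map_zpowers, ← map_commutator]
    congr 1
    refine map_injective G2.subtype_injective ?_
    rw [map_commutator, MonoidHom.map_zpowers, map_subgroupOf_eq_of_le hEG2, Subgroup.coe_subtype,
      hc2, hEc]
  · rintro _ ⟨x, hx, rfl⟩ _ ⟨y, hy, rfl⟩
    refine ⟨χ ⁅(x : Γ), (y : Γ)⁆, ?_⟩
    rw [← map_commutatorElement]
    refine LinearMap.ext fun w => Subtype.ext ?_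
    exact w.2 _ (commutator_mem_commutator (mem_subgroupOf.mp hx) (mem_subgroupOf.mp hy))
  · by_contra hall
    push Not at hall
    apply hv0
    refine hfpf v ?_
    let Fix : Subgroup Γ :=
      { carrier := {g | ρ g v = v}
        one_mem' := by simp
        mul_mem' := fun {a b} ha hb => by
          show ρ (a * b) v = v
          rw [map_mul, Module.End.mul_apply, hb, ha]
        inv_mem' := fun {a} ha => by
          show ρ a⁻¹ v = v
          conv_lhs => rw [← ha]
          rw [← Module.End.mul_apply, ← map_mul, inv_mul_cancel, map_one, Module.End.one_apply] }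
    refine fun d hd => (commutator_le.mpr ?_ : D ≤ Fix) hd
    intro x hx y hy
    have h := hall (π3 ⟨x, hEG2 hx⟩) (mem_map_of_mem π3 (mem_subgroupOf.mpr hx))
      (π3 ⟨y, hEG2 hy⟩) (mem_map_of_mem π3 (mem_subgroupOf.mpr hy))
    rw [← map_commutatorElement] at h
    have h2 := congrArg (fun g : ↥ρW.toHomUnits.range =>
      ((((g : (Module.End k W)ˣ) : Module.End k W) ⟨v, hv⟩ : W) : V)) h
    exact h2
  · rw [← map_commutatorElement]
    refine LinearMap.ext fun w => Subtype.ext ?_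
    have h1 := hquad
    have h2 := LinearMap.congr_fun h1 (w : V)
    rw [← hc2] at h2
    rw [pow_two]
    exact h2

section Data

variable {q r : ℕ} [hq : Fact q.Prime] [hr : Fact r.Prime] {Γ : Type u} [Group Γ] [Finite Γ]

/-- The standing assumptions. -/
structure PlaneData {M : Type*} [AddCommGroup M] [Module (ZMod q) M]
    (φ : Γ →* Module.End (ZMod q) M) (r : ℕ) (R C' : Subgroup Γ) (u a : Γ) : Prop where
  q3 : q % 4 = 3
  qf : ∃ f, q + 1 = 2 ^ f
  r2 : r ≠ 2
  hR : IsPGroup r R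
  aR : a ∈ R
  u4 : u * u * (u * u) = 1
  uR : u ∈ normalizer (R : Set Γ)
  cR : C' ≤ R
  rc : R ≤ normalizer (C' : Set Γ)
  uc : u ∈ normalizer (C' : Set Γ)
  hD : ∀ g ∈ R, ∀ h ∈ R, ∀ l ∈ R, ⁅⁅g, h⁆, l⁆ ∈ C'
  hDz : ∀ g ∈ R, ∀ h ∈ R, ⁅⁅g, h⁆, u * u⁆ ∈ C'
  ha : u * u * a * (u * u)⁻¹ = a⁻¹
  rank : finrank (ZMod q) (LinearMap.range (φ (u * u) - 1)) ≤ 2
  scal : φ (u * u) - 1 ≠ 0 → ∀ g ∈ R, ∀ γ : ZMod q,
    φ g * (φ (u * u) - 1) = γ • (φ (u * u) - 1) → γ ^ 2 = 1

variable {M : Type*} [AddCommGroup M] [Module (ZMod q) M] [FiniteDimensional (ZMod q) M]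
variable {φ : Γ →* Module.End (ZMod q) M} {R C' : Subgroup Γ} {u a : Γ}

theorem PlaneData.conj_mem (d : PlaneData φ r R C' u a) {x : Γ} (hx : x ∈ R) :
    u * x * u⁻¹ ∈ R := (mem_normalizer_iff.mp d.uR x).mp hx

theorem PlaneData.cmem (d : PlaneData φ r R C' u a) : ⁅a, u * a * u⁻¹⁆ ∈ R := by
  rw [commutatorElement_def]
  exact mul_mem (mul_mem (mul_mem d.aR (d.conj_mem d.aR)) (inv_mem d.aR)) (inv_mem (d.conj_mem d.aR))

theorem PlaneData.restrict (d : PlaneData φ r R C' u a) (U : Submodule (ZMod q) M)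
    (hU : ∀ g, ∀ v ∈ U, φ g v ∈ U) : PlaneData (restrictRep φ U hU) r R C' u a where
  q3 := d.q3
  qf := d.qf
  r2 := d.r2
  hR := d.hR
  aR := d.aR
  u4 := d.u4
  uR := d.uR
  cR := d.cR
  rc := d.rc
  uc := d.uc
  hD := d.hD
  hDz := d.hDz
  ha := d.ha
  rank := by
    refine le_trans ?_ d.rank
    refine LinearMap.finrank_le_finrank_of_injective
      (f := (U.subtype ∘ₗ (LinearMap.range (restrictRep φ U hU (u * u) - 1)).subtype).codRestrict _ ?_) ?_
    · rintro ⟨_, w, rfl⟩
      exact ⟨w, rfl⟩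
    · intro x y h
      refine Subtype.ext (Subtype.ext ?_)
      have h' := congrArg Subtype.val h
      simpa using h'
  scal := by
    intro hne g hg γ hγ
    have hT0 : φ (u * u) - 1 ≠ 0 := fun h => hne (LinearMap.ext fun w => Subtype.ext
      (LinearMap.congr_fun h (w : M)))
    refine d.scal hT0 g hg γ (LinearMap.ext fun v => ?_)
    set φU := restrictRep φ U hU
    have hUU : φU u * φU u * (φU u * φU u) = 1 := by simp only [← map_mul, d.u4, map_one]
    have hne' : φU u * φU u ≠ 1 := by rw [← map_mul]; exact sub_ne_zero.mp hne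
    have hrk : finrank (ZMod q) (LinearMap.range (φU u * φU u - 1)) ≤ 2 := by
      refine le_trans ?_ d.rank
      refine LinearMap.finrank_le_finrank_of_injective
        (f := (U.subtype ∘ₗ (LinearMap.range (φU u * φU u - 1)).subtype).codRestrict _ ?_) ?_
      · rintro ⟨_, w, rfl⟩
        exact ⟨w, by simp [φU, restrictRep_apply]⟩
      · intro x y h
        refine Subtype.ext (Subtype.ext ?_)
        have h' := congrArg Subtype.val h
        simpa using h'
    obtain ⟨p, hp, hp0, -⟩ := finrank_range_eq_two d.q3 (φU u) hUU hne' hrk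
    obtain ⟨p', hp'⟩ := hp
    have hpM : (p : M) ∈ LinearMap.range (φ (u * u) - 1) := ⟨p', by
      rw [← hp']; simp [φU, restrictRep_apply]⟩
    have hp'' : (p : M) ∈ LinearMap.range (φ u * φ u - 1) := by rwa [← map_mul]
    have hUUM : φ u * φ u * (φ u * φ u) = 1 := by simp only [← map_mul, d.u4, map_one]
    have hind := indep_of_sq d.q3 (φ u) (fun h => hp0 (Subtype.ext h))
      (sq_apply_range (φ u) hUUM hp'')
    have hUp : φ u (p : M) ∈ LinearMap.range (φ (u * u) - 1) := by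
      obtain ⟨x, hx⟩ := hpM
      exact ⟨φ u x, by rw [← hx]; simp [Module.End.mul_apply]⟩
    have hspan : Submodule.span (ZMod q) {(p : M), φ u p} = LinearMap.range (φ (u * u) - 1) := by
      refine Submodule.eq_of_le_of_finrank_le ?_ ?_
      · rw [Submodule.span_le]
        rintro x (rfl | rfl) <;> assumption
      · have h := finrank_span_eq_card hind
        rw [Matrix.range_cons_cons_empty] at h
        simp only [Fintype.card_fin] at h
        have := d.rank
        omega
    have hmem : (φ (u * u) - 1) v ∈ Submodule.span (ZMod q) {(p : M), φ u p} := by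
      rw [hspan]; exact ⟨v, rfl⟩
    obtain ⟨α, β, hαβ⟩ := Submodule.mem_span_pair.mp hmem
    have hact : ∀ w : U, w ∈ LinearMap.range (φU (u * u) - 1) → φ g (w : M) = γ • (w : M) := by
      rintro w ⟨w', rfl⟩
      exact congrArg Subtype.val (LinearMap.congr_fun hγ w')
    have hp1 : p ∈ LinearMap.range (φU (u * u) - 1) := ⟨p', by rw [map_mul]; exact hp'⟩
    have hp2 : φU u p ∈ LinearMap.range (φU (u * u) - 1) := ⟨φU u p', by
      rw [← hp']; simp [Module.End.mul_apply]⟩
    rw [Module.End.mul_apply, LinearMap.smul_apply, ← hαβ, map_add, map_smul, map_smul, hact p hp1,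
      show φ g (φ u (p : M)) = γ • φ u (p : M) from hact _ hp2, smul_add, smul_comm γ, smul_comm γ]

/-- The commutator is quadratic once the kernel part commutes with the involution. -/
theorem PlaneData.quad (d : PlaneData φ r R C' u a)
    (hC'z : ∀ κ ∈ C', Commute (φ κ) (φ (u * u))) :
    (φ ⁅a, u * a * u⁻¹⁆ - 1) * (φ ⁅a, u * a * u⁻¹⁆ - 1) = 0 ∧
      Commute (φ ⁅a, u * a * u⁻¹⁆) (φ a) ∧
      Commute (φ ⁅a, u * a * u⁻¹⁆) (φ (u * a * u⁻¹)) := by
  classical
  set b := u * a * u⁻¹ with hb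
  set π := φ.toHomUnits with hπ
  set z := u * u with hz
  have hval : ∀ g h, Commute (φ g) (φ h) ↔ Commute (π g) (π h) := fun g h =>
    ⟨fun e => Units.ext e, fun e => congrArg Units.val e⟩
  have hodd : ∀ x ∈ R, Odd (orderOf (π x)) := fun x hx =>
    (odd_orderOf_pGroup d.r2 d.hR hx).of_dvd_nat (orderOf_map_dvd π x)
  have hzz : π z * π z = 1 := by rw [← map_mul, d.u4, map_one]
  have hDz : ∀ g ∈ R, ∀ h ∈ R, Commute (π ⁅g, h⁆) (π z) := by
    intro g hg h hh
    have hmem : ⁅g, h⁆ ∈ R := by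
      rw [commutatorElement_def]
      exact mul_mem (mul_mem (mul_mem hg hh) (inv_mem hg)) (inv_mem hh)
    set w := ⁅⁅g, h⁆, z⁆
    have hw := d.hDz g hg h hh
    have h1 : Commute (π w) (π z) := (hval _ _).mp (hC'z _ hw)
    have h2 : π z * π w * (π z)⁻¹ = (π w)⁻¹ := by
      simp only [w, map_commutatorElement]
      have hi : (π z)⁻¹ = π z := inv_eq_of_mul_eq_one_right hzz
      simp only [commutatorElement_def, mul_inv_rev, inv_inv]
      simp only [hi, mul_assoc, hzz, mul_one]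
    rw [h1.symm.eq, mul_inv_cancel_right] at h2
    have h3 : π w = 1 := sq_eq_one_of_odd (hodd w (d.cR hw)) (by
      nth_rewrite 2 [h2]; rw [mul_inv_cancel])
    rw [map_commutatorElement, commutatorElement_eq_one_iff_commute] at h3
    exact h3
  have hDs : ∀ g ∈ R, ∀ h ∈ R, ∀ s ∈ R, z * s * z⁻¹ = s⁻¹ → Commute (π ⁅g, h⁆) (π s) := by
    intro g hg h hh s hs hsi
    refine commute_inverted (hodd s hs) hzz (by rw [← map_inv, ← map_inv, ← map_mul, ← map_mul, hsi])
      (hDz g hg h hh) ?_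
    have hcj : ∀ x ∈ R, s⁻¹ * x * s ∈ R := fun x hx => mul_mem (mul_mem (inv_mem hs) hx) hs
    rw [← map_inv, ← map_mul, ← map_mul, show s⁻¹ * ⁅g, h⁆ * s = ⁅s⁻¹ * g * s, s⁻¹ * h * s⁆ by
      simp only [commutatorElement_def]; group]
    exact hDz _ (hcj g hg) _ (hcj h hh)
  have hbinv : z * b * z⁻¹ = b⁻¹ := by
    rw [hb, hz, show u * u * (u * a * u⁻¹) * (u * u)⁻¹ = u * (u * u * a * (u * u)⁻¹) * u⁻¹ by group,
      d.ha]
    group
  have hca := hDs a d.aR b (d.conj_mem d.aR) a d.aR d.ha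
  have hcb := hDs a d.aR b (d.conj_mem d.aR) b (d.conj_mem d.aR) hbinv
  have hcu : Commute (π ⁅a, b⁆) (π u) := by
    have h1 := inverted_fix (π u) (π a)
      (by rw [← map_mul, ← map_inv, ← map_inv, ← map_mul, ← map_mul, d.ha])
      (by
        have := hca
        rwa [hb, map_commutatorElement, map_mul, map_mul, map_inv] at this)
    rw [← map_inv, ← map_mul, ← map_mul, ← map_commutatorElement] at h1
    refine Commute.symm ?_
    exact mul_inv_eq_iff_eq_mul.mp (by rw [← map_inv]; exact h1)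
  obtain ⟨f, hf⟩ := d.qf
  exact ⟨quadratic_of_plane d.q3 hf φ u a d.u4 d.rank d.ha (odd_orderOf_pGroup d.r2 d.hR d.aR)
    (odd_orderOf_pGroup d.r2 d.hR d.cmem) ((hval _ _).mpr hcu) ((hval _ _).mpr hca)
    (fun hne γ hγ => d.scal hne _ d.cmem γ hγ), (hval _ _).mpr hca, (hval _ _).mpr hcb⟩

/-- A quadratic element of order prime to the characteristic is trivial. -/
theorem eq_one_of_quadratic (hrq : r ≠ q) {R : Subgroup Γ} (hR : IsPGroup r R) {c : Γ} (hc : c ∈ R)
    (h : (φ c - 1) * (φ c - 1) = 0) : φ c = 1 := by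
  set n := φ c - 1
  have hpow : ∀ m : ℕ, φ c ^ m = 1 + (m : ZMod q) • n := by
    intro m
    induction m with
    | zero => simp
    | succ m ih =>
      rw [pow_succ, ih, Nat.cast_succ, add_smul, one_smul, show φ c = 1 + n by simp [n],
        add_mul, one_mul, smul_mul_assoc, mul_add, mul_one, h, add_zero]
      abel
  obtain ⟨i, hi⟩ := IsPGroup.iff_orderOf.mp hR ⟨c, hc⟩
  rw [Subgroup.orderOf_mk] at hi
  have h1 := hpow (orderOf c)
  rw [← map_pow, pow_orderOf_eq_one, map_one, left_eq_add] at h1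
  refine sub_eq_zero.mp ((smul_eq_zero.mp h1).resolve_left ?_)
  rw [hi]
  intro h2
  rw [CharP.cast_eq_zero_iff (ZMod q) q] at h2
  exact hrq ((Nat.prime_dvd_prime_iff_eq hq.out hr.out).mp (hq.out.dvd_of_dvd_pow h2)).symm

/-- The kernel part commutes with the involution when the characteristic is another prime. -/
theorem PlaneData.kill (d : PlaneData φ r R C' u a) (hrq : r ≠ q) (E : Subgroup Γ)
    (hC'E : C' ≤ centralizer (E : Set Γ))
    (hfpf : ∀ v : AlgebraicClosure (ZMod q) ⊗[ZMod q] M,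
      (∀ x ∈ ⁅E, E⁆, bcRep (AlgebraicClosure (ZMod q)) φ x v = v) → v = 0) :
    ∀ κ ∈ C', Commute (φ κ) (φ (u * u)) := by
  classical
  let k := AlgebraicClosure (ZMod q)
  haveI : CharP k q := charP_of_injective_algebraMap (algebraMap (ZMod q) k).injective q
  set ρ := bcRep k φ with hρ
  set z := u * u with hz
  set π := φ.toHomUnits with hπ
  have hval : ∀ g h, Commute (φ g) (φ h) ↔ Commute (π g) (π h) := fun g h =>
    ⟨fun e => Units.ext e, fun e => congrArg Units.val e⟩
  by_contra hbad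
  obtain ⟨A, -, ⟨hAC, huA, hAz⟩, hmin⟩ := Finite.exists_le_minimal
    (p := fun A : Subgroup Γ => A ≤ C' ∧ u ∈ normalizer (A : Set Γ) ∧
      ¬ ∀ x ∈ A, Commute (φ x) (φ z)) (a := C') ⟨le_rfl, d.uc, hbad⟩
  have hAR : A ≤ R := hAC.trans d.cR
  have hA : IsPGroup r A := d.hR.to_le hAR
  have hordk : ∀ x ∈ R, (orderOf x : k) ≠ 0 := by
    intro x hx
    obtain ⟨i, hi⟩ := IsPGroup.iff_orderOf.mp d.hR ⟨x, hx⟩
    rw [Subgroup.orderOf_mk] at hi
    rw [hi, Ne, CharP.cast_eq_zero_iff k q]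
    exact fun h2 => hrq ((Nat.prime_dvd_prime_iff_eq hq.out hr.out).mp (hq.out.dvd_of_dvd_pow h2)).symm
  have hlt : ∀ T : Subgroup Γ, T ≤ A → T ≠ A → u ∈ normalizer (T : Set Γ) →
      ∀ x ∈ T, Commute (φ x) (φ z) := by
    intro T hT hne huT
    by_contra h
    exact hne (le_antisymm hT (hmin ⟨hT.trans hAC, huT, h⟩ hT))
  have hzA : z ∈ normalizer (A : Set Γ) := mul_mem huA huA
  have hzz : z * z = 1 := d.u4
  have hcopA : (Nat.card (zpowers z)).Coprime (Nat.card A) := by
    obtain ⟨i, hi⟩ := hA.exists_card_eq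
    rw [hi, Nat.card_zpowers]
    refine (((Nat.coprime_primes Nat.prime_two hr.out).mpr d.r2.symm).coprime_dvd_left
      (orderOf_dvd_of_pow_eq_one (by rw [pow_two, hzz]))).pow_right i
  haveI : Group.IsNilpotent A := hA.isNilpotent
  have hAz' : ⁅A, zpowers z⁆ = A := by
    by_contra hne
    have hle : ⁅A, zpowers z⁆ ≤ A :=
      le_normalizer_iff_commutator_le_left.mp (zpowers_le.mpr hzA)
    have hu : u ∈ normalizer ((⁅A, zpowers z⁆ : Subgroup Γ) : Set Γ) := by
      refine mem_normalizer_iff_map_conj_eq.mpr ?_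
      rw [map_commutator]
      congr 1
      · exact mem_normalizer_iff_map_conj_eq.mp huA
      · rw [MonoidHom.map_zpowers]
        congr 1
        show u * z * u⁻¹ = z
        rw [hz]; group
    have h1 := hlt _ hle hne hu
    apply hAz
    intro x hx
    have h2 : (⁅⁅A, zpowers z⁆, zpowers z⁆).map π = ⊥ := by
      rw [map_commutator, commutator_eq_bot_iff_le_centralizer]
      rintro _ ⟨y, hy, rfl⟩
      rw [mem_centralizer_iff]
      rintro _ ⟨w, hw, rfl⟩
      obtain ⟨i, rfl⟩ := mem_zpowers_iff.mp hw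
      rw [map_zpow]
      exact ((((hval _ _).mp (h1 y hy)).symm).zpow_left i).eq
    rw [Basics.commutator_commutator_eq (zpowers z) A (zpowers_le.mpr hzA) hcopA
      (Or.inr inferInstance)] at h2
    have h3 : π ⁅x, z⁆ ∈ (⊥ : Subgroup _) := by
      rw [← h2]; exact mem_map_of_mem π (commutator_mem_commutator hx (mem_zpowers z))
    rw [mem_bot, map_commutatorElement, commutatorElement_eq_one_iff_commute] at h3
    exact (hval _ _).mpr h3
  have hzx : ∀ g ∈ A, z * g * z⁻¹ ∈ A := fun g hg => (mem_normalizer_iff.mp hzA g).mp hg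
  have hEinv : ∀ {g : Γ}, g ∈ C' → ∀ x ∈ E, Commute (ρ g) (ρ x) := fun {g} hg x hx =>
    (show Commute g x from ((mem_centralizer_iff.mp (hC'E hg)) x hx).symm).map ρ
  by_cases habel : ∀ x ∈ A, ∀ y ∈ A, Commute (φ x) (φ y)
  · -- abelian
    apply hAz
    intro x hx
    by_contra hne
    set e := z * x * z⁻¹ * x⁻¹
    have he : e ∈ A := mul_mem (hzx x hx) (inv_mem hx)
    have he1 : ρ e ≠ 1 := by
      intro h
      apply hne
      have h1 : φ e = 1 := by
        rw [← map_one φ]; exact bcRep_inj k φ (h.trans (map_one ρ).symm)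
      show φ x * φ z = φ z * φ x
      rw [← map_mul, ← map_mul, show z * x = e * (x * z) by simp only [e]; group, map_mul φ e, h1,
        one_mul]
    have habel' : ∀ x ∈ A, ∀ y ∈ A, Commute (ρ x) (ρ y) := fun x hx y hy => by
      show ρ x * ρ y = ρ y * ρ x
      rw [← map_mul, ← map_mul]
      exact bcRep_congr k φ (by rw [map_mul, map_mul]; exact (habel x hx y hy).eq)
    obtain ⟨χ, hχ, ⟨v, hv, hv0⟩, hχ1⟩ := exists_char_ne ρ A habel' he he1 (hordk e (hAR he))
    have hdim : 2 ≤ finrank k ↥(eigW ρ A χ) := two_le_finrank_of_fpf ρ E _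
      (fun g hg w hw b hb => by
        rw [← Module.End.mul_apply, (hEinv (hAC hb) g hg).eq, Module.End.mul_apply, hw b hb,
          map_smul]) hv hv0 hfpf
    have hfix := actC_sq_eq ρ A huA d.u4 (le_trans (bcRep_rank k φ z) d.rank) χ hχ hdim
    apply hχ1
    have h5 : χ x = χ (z * x * z⁻¹) := by
      have h := congrFun hfix (z * x * z⁻¹)
      simpa [actC, hz, mul_assoc] using h
    have h6 : (χ e * χ x) • v = χ (z * x * z⁻¹) • v := by
      rw [← hv _ (hzx x hx), mul_smul, smul_comm, ← hv _ he, ← map_smul, ← hv _ hx,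
        ← Module.End.mul_apply, ← map_mul]
      congr 2
      simp only [e]; group
    have h7 := smul_left_injective k hv0 h6
    rw [← h5] at h7
    exact (mul_eq_right₀ fun h0 => rho_ne_zero ρ x hv0 (by rw [hv x hx, h0, zero_smul])).mp h7
  -- the commutators are central and commute with `z`
  push Not at habel
  set D := ⁅A, A⁆
  have hDA : D ≤ A := commutator_le_self A
  have hDne : D ≠ A := by
    intro h
    haveI : Nontrivial A := by
      rw [nontrivial_iff_ne_bot]
      rintro rfl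
      exact hAz fun x hx => by rw [mem_bot.mp hx, map_one]; exact Commute.one_left _
    refine (Group.IsSolvable.commutator_lt_top_of_nontrivial A).ne ?_
    refine map_injective A.subtype_injective ?_
    rw [map_subtype_commutator, ← MonoidHom.range_eq_map, range_subtype]
    exact h
  have hDz := hlt D hDA hDne (mem_normalizer_iff_map_conj_eq.mpr (by
    rw [map_commutator]; congr 1 <;> exact mem_normalizer_iff_map_conj_eq.mp huA))
  have hDcomm : ∀ x ∈ D, ∀ g ∈ A, Commute (π x) (π g) := by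
    intro x hx
    have hle : A ≤ (centralizer ({π x} : Set _)).comap π := by
      conv_lhs => rw [← hAz']
      rw [commutator_le]
      intro g hg w hw
      rw [mem_comap, mem_centralizer_singleton_iff]
      have hgx : g⁻¹ * x * g ∈ D := by
        have := (mem_normalizer_iff.mp (show g⁻¹ ∈ normalizer (D : Set Γ) from
          mem_normalizer_iff_map_conj_eq.mpr (by
            rw [map_commutator]; congr 1 <;>
              exact mem_normalizer_iff_map_conj_eq.mp (le_normalizer (inv_mem hg)))) x).mp hx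
        rwa [inv_inv] at this
      obtain ⟨i, rfl⟩ := mem_zpowers_iff.mp hw
      have e1 : Commute (π x) (π z ^ i) := ((hval _ _).mp (hDz x hx)).zpow_right i
      have e2 : Commute (π x) (π g * π z ^ i * (π g)⁻¹) := by
        have e3 : Commute (π (g⁻¹ * x * g)) (π z ^ i) := ((hval _ _).mp (hDz _ hgx)).zpow_right i
        rw [map_mul, map_mul, map_inv] at e3
        have h := congrArg (fun w => π g * w * (π g)⁻¹) e3.eq
        simp only [← mul_assoc, mul_inv_cancel, one_mul] at h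
        show π x * (π g * π z ^ i * (π g)⁻¹) = π g * π z ^ i * (π g)⁻¹ * π x
        simpa [mul_assoc] using h
      rw [map_commutatorElement, map_zpow, commutatorElement_def]
      exact ((e2.mul_right e1.inv_right)).eq.symm
    intro g hg
    exact (mem_centralizer_singleton_iff.mp (hle hg)).symm
  -- the images
  set AU := A.map π
  have hoddU : ∀ x ∈ AU, Odd (orderOf x) := by
    rintro _ ⟨x, hx, rfl⟩
    exact (odd_orderOf_pGroup d.r2 d.hR (hAR hx)).of_dvd_nat (orderOf_map_dvd π x)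
  have hcentU : ∀ x ∈ AU, ∀ y ∈ AU, ∀ w ∈ AU, Commute ⁅x, y⁆ w := by
    rintro _ ⟨x, hx, rfl⟩ _ ⟨y, hy, rfl⟩ _ ⟨w, hw, rfl⟩
    rw [← map_commutatorElement]
    exact hDcomm _ (commutator_mem_commutator hx hy) w hw
  have huU : ∀ x ∈ AU, π u * x * (π u)⁻¹ ∈ AU := by
    rintro _ ⟨x, hx, rfl⟩
    exact ⟨u * x * u⁻¹, (mem_normalizer_iff.mp huA x).mp hx, by simp⟩
  have hallU : ∀ s ∈ AU, π u * π u * s * (π u * π u)⁻¹ = s⁻¹ →
      ⁅s, π u * s * (π u)⁻¹⁆ = 1 := by
    rintro _ ⟨s, hs, rfl⟩ hsi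
    set w := ⁅s, z⁆
    have hwA : w ∈ A := by
      rw [show w = s * (z * s⁻¹ * z⁻¹) by simp only [w, commutatorElement_def]; group]
      exact mul_mem hs (hzx _ (inv_mem hs))
    have hwi : z * w * z⁻¹ = w⁻¹ := by
      have hi : z⁻¹ = z := inv_eq_of_mul_eq_one_right hzz
      simp only [w, commutatorElement_def, mul_inv_rev, inv_inv]
      simp only [hi, mul_assoc, hzz, mul_one]
    have hπw : π w = π s * π s := by
      have h1 : π u * π u * (π s)⁻¹ * (π u * π u)⁻¹ = π s := by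
        have := congrArg (fun x => x⁻¹) hsi
        simp only [inv_inv, mul_inv_rev] at this
        simpa [mul_assoc] using this
      simp only [w, map_commutatorElement, hz, map_mul]
      rw [commutatorElement_def]
      calc π s * (π u * π u) * (π s)⁻¹ * (π u * π u)⁻¹
          = π s * (π u * π u * (π s)⁻¹ * (π u * π u)⁻¹) := by group
        _ = π s * π s := by rw [h1]
    obtain ⟨m, hm⟩ := hoddU (π s) (mem_map_of_mem π hs)
    set a' := w ^ (m + 1)
    have ha'A : a' ∈ A := pow_mem hwA _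
    have ha'i : z * a' * z⁻¹ = a'⁻¹ := by
      simp only [a']
      rw [← conj_pow, hwi, inv_pow]
    have hπa : π a' = π s := by
      simp only [a']
      rw [map_pow, hπw, ← pow_two, ← pow_mul, show 2 * (m + 1) = (2 * m + 1) + 1 by ring, pow_succ,
        ← hm, pow_orderOf_eq_one, one_mul]
    set b' := u * a' * u⁻¹
    have hb'A : b' ∈ A := (mem_normalizer_iff.mp huA _).mp ha'A
    have hcA : ⁅a', b'⁆ ∈ D := commutator_mem_commutator ha'A hb'A
    have hca : Commute (π ⁅a', b'⁆) (π a') := hDcomm _ hcA _ ha'A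
    have hcu : Commute (π ⁅a', b'⁆) (π u) := by
      have h1 := inverted_fix (π u) (π a')
        (by rw [← map_mul, ← map_inv, ← map_inv, ← map_mul, ← map_mul, ha'i])
        (by
          have := hca
          simp only [b'] at this
          rwa [map_commutatorElement, map_mul, map_mul, map_inv] at this)
      rw [← map_inv, ← map_mul, ← map_mul, ← map_commutatorElement] at h1
      exact (mul_inv_eq_iff_eq_mul.mp (by rw [← map_inv]; exact h1) : _).symm
    obtain ⟨f, hf⟩ := d.qf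
    have hcR : ⁅a', b'⁆ ∈ R := hAR (hDA hcA)
    have h2 := quadratic_of_plane d.q3 hf φ u a' d.u4 d.rank ha'i
      (odd_orderOf_pGroup d.r2 d.hR (hAR ha'A)) (odd_orderOf_pGroup d.r2 d.hR hcR)
      ((hval _ _).mpr hcu) ((hval _ _).mpr hca) (fun hne γ hγ => d.scal hne _ hcR γ hγ)
    have h3 := eq_one_of_quadratic hrq d.hR hcR h2
    have h4 : π ⁅a', b'⁆ = 1 := Units.ext h3
    rw [map_commutatorElement] at h4
    simp only [b', map_mul, map_inv, hπa] at h4
    exact h4
  obtain ⟨x, hx, y, hy, hxy⟩ := habel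
  obtain ⟨s, hs, t, ht, hsi, hti, hst⟩ := exists_inverted_noncomm π hzz A hAz'
    ⟨x, hx, y, hy, fun h => hxy ((hval _ _).mpr (by
      rwa [map_commutatorElement, commutatorElement_eq_one_iff_commute] at h))⟩
  have hinvd : π u * ⁅π s, π t⁆ * (π u)⁻¹ = ⁅π s, π t⁆⁻¹ :=
    inverts_commutator (π u) AU huU hcentU hoddU hallU (mem_map_of_mem π hs) (mem_map_of_mem π ht)
      (by rw [← map_mul, ← map_inv, ← map_inv, ← map_mul, ← map_mul, hsi])
      (by rw [← map_mul, ← map_inv, ← map_inv, ← map_mul, ← map_mul, hti])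
  set δ := ⁅s, t⁆
  have hδD : δ ∈ D := commutator_mem_commutator hs ht
  have hδne : ρ δ ≠ 1 := fun h => hst (Units.ext (by
    show φ δ = 1
    rw [← map_one φ]; exact bcRep_inj k φ (h.trans (map_one ρ).symm)))
  have hφ : ∀ {g h : Γ}, π g = π h → ρ g = ρ h := fun {g h} e =>
    bcRep_congr k φ (congrArg Units.val e)
  have hφc : ∀ g h : Γ, Commute (π g) (π h) → Commute (ρ g) (ρ h) := fun g h e => by
    show ρ g * ρ h = ρ h * ρ g
    rw [← map_mul, ← map_mul]
    exact hφ (by rw [map_mul π g h, map_mul π h g]; exact e.eq)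
  exact no_inverted_plane ρ E u s t d.u4 (le_trans (bcRep_rank k φ z) d.rank) hsi
    (odd_orderOf_pGroup d.r2 d.hR (hAR hs)) (odd_orderOf_pGroup d.r2 d.hR (hAR (hDA hδD)))
    (hordk s (hAR hs)) (hordk δ (hAR (hDA hδD))) hδne
    (hφc _ _ (hDcomm δ hδD s hs)) (hφc _ _ (hDcomm δ hδD t ht)) (hφc _ _ ((hval _ _).mp (hDz δ hδD)))
    (hφ (by
      rw [map_mul, map_mul, map_inv, map_commutatorElement]
      have h := congrArg (fun w => w⁻¹ * π u) hinvd
      simp only [mul_inv_rev, inv_inv, inv_mul_cancel_right, mul_assoc, inv_mul_cancel, mul_one] at h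
      exact h.symm))
    (hEinv (hAC (hDA hδD))) (hEinv (hAC hs)) hfpf

/-- The main statement: the commutator of `a` with its conjugate commutes with `E`. -/
theorem PlaneData.commute (d : PlaneData φ r R C' u a) (E : Subgroup Γ) [E.Normal] [C'.Normal]
    (hE : IsPGroup 2 E) (hC'E : C' ≤ centralizer (E : Set Γ))
    (hEc : ⁅E, zpowers ⁅a, u * a * u⁻¹⁆⁆ = E)
    (hDc : ∀ x ∈ ⁅E, E⁆, Commute (φ ⁅a, u * a * u⁻¹⁆) (φ x)) :
    ∀ x ∈ E, Commute (φ ⁅a, u * a * u⁻¹⁆) (φ x) := by
  classical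
  let k := AlgebraicClosure (ZMod q)
  haveI : CharP k q := charP_of_injective_algebraMap (algebraMap (ZMod q) k).injective q
  set c := ⁅a, u * a * u⁻¹⁆ with hc
  have hq2 : q ≠ 2 := fun h => by have := d.q3; omega
  have hord2 : ∀ x ∈ E, (orderOf x : k) ≠ 0 := by
    intro x hx
    obtain ⟨i, hi⟩ := IsPGroup.iff_orderOf.mp hE ⟨x, hx⟩
    rw [Subgroup.orderOf_mk] at hi
    rw [hi, Ne, CharP.cast_eq_zero_iff k q]
    exact fun h2 => hq2 ((Nat.prime_dvd_prime_iff_eq hq.out Nat.prime_two).mp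
      (hq.out.dvd_of_dvd_pow h2))
  set π := φ.toHomUnits with hπ
  have hval : ∀ g h, Commute (φ g) (φ h) ↔ Commute (π g) (π h) := fun g h =>
    ⟨fun e => Units.ext e, fun e => congrArg Units.val e⟩
  have hcent : ∀ x ∈ ⁅E, E⁆, ∀ g ∈ E, Commute (φ x) (φ g) := by
    intro x hx g hg
    rw [hval]
    have hle : E ≤ (centralizer ({π x} : Set _)).comap π := by
      conv_lhs => rw [← hEc]
      rw [commutator_le]
      intro y hy w hw
      rw [mem_comap, mem_centralizer_singleton_iff]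
      obtain ⟨i, rfl⟩ := mem_zpowers_iff.mp hw
      have e1 : Commute (π x) (π c ^ i) := (((hval _ _).mp (hDc x hx)).symm).zpow_right i
      have hyx : y⁻¹ * x * y ∈ ⁅E, E⁆ := by
        have := (inferInstance : (⁅E, E⁆).Normal).conj_mem x hx y⁻¹
        rwa [inv_inv] at this
      have e3 : Commute (π (y⁻¹ * x * y)) (π c ^ i) := (((hval _ _).mp (hDc _ hyx)).symm).zpow_right i
      rw [map_mul, map_mul, map_inv] at e3
      have e2 : Commute (π x) (π y * π c ^ i * (π y)⁻¹) := by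
        have h := congrArg (fun w => π y * w * (π y)⁻¹) e3.eq
        simp only [← mul_assoc, mul_inv_cancel, one_mul] at h
        show π x * (π y * π c ^ i * (π y)⁻¹) = π y * π c ^ i * (π y)⁻¹ * π x
        simpa [mul_assoc] using h
      rw [map_commutatorElement, map_zpow, commutatorElement_def]
      exact (e2.mul_right e1.inv_right).eq.symm
    exact (mem_centralizer_singleton_iff.mp (hle hg)).symm
  have hconj : u * c * u⁻¹ = a⁻¹ * c * a := by
    rw [hc, show u * ⁅a, u * a * u⁻¹⁆ * u⁻¹ = ⁅u * a * u⁻¹, u * u * a * (u * u)⁻¹⁆ by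
      simp only [commutatorElement_def]; group, d.ha]
    simp only [commutatorElement_def]; group
  have hcb : ∀ l ∈ R, ⁅c, l⁆ ∈ C' := fun l hl => d.hD a d.aR _ (d.conj_mem d.aR) l hl
  by_cases habel : ∀ x ∈ E, ∀ y ∈ E, Commute (φ x) (φ y)
  · intro x hx
    have hcu : ⁅c, u⁆ ∈ C' := by
      rw [show ⁅c, u⁆ = ⁅c, a⁻¹⁆ by
        simp only [commutatorElement_def, inv_inv]
        rw [mul_assoc c u, mul_assoc c, show u * c⁻¹ * u⁻¹ = (u * c * u⁻¹)⁻¹ by group, hconj]
        group]
      exact hcb _ (inv_mem d.aR)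
    have h := perm_commute (bcRep k φ) E (fun x hx y hy => by
        show bcRep k φ x * bcRep k φ y = bcRep k φ y * bcRep k φ x
        rw [← map_mul, ← map_mul]
        exact bcRep_congr k φ (by rw [map_mul, map_mul]; exact (habel x hx y hy).eq))
      hord2 C' hC'E u a d.u4 (le_trans (bcRep_rank k φ _) d.rank) d.ha
      (odd_orderOf_pGroup d.r2 d.hR d.aR) (odd_orderOf_pGroup d.r2 d.hR d.cmem) hcu
      (hcb _ d.aR) (hcb _ (d.conj_mem d.aR)) x hx
    show φ c * φ x = φ x * φ c
    rw [← map_mul, ← map_mul]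
    refine bcRep_inj k φ ?_
    rw [map_mul, map_mul]
    exact h.eq
  push Not at habel
  obtain ⟨x0, hx0, y0, hy0, hxy0⟩ := habel
  exfalso
  haveI : Fintype Γ := Fintype.ofFinite Γ
  set s : Finset Γ := Finset.univ.filter fun g => g ∈ ⁅E, E⁆ with hs
  have hmem : ∀ g, g ∈ s ↔ g ∈ ⁅E, E⁆ := fun g => by simp [s]
  set ε := ∑ g ∈ s, φ g with hε
  have hsq : (s.card : ZMod q) ≠ 0 := by
    have h1 : s.card = Nat.card ↥⁅E, E⁆ := by
      rw [Nat.card_eq_fintype_card, Fintype.card_subtype]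
    obtain ⟨i, hi⟩ := IsPGroup.iff_card.mp (hE.to_le (commutator_le_self E))
    rw [h1, hi, Ne, CharP.cast_eq_zero_iff (ZMod q) q]
    exact fun h2 => hq2 ((Nat.prime_dvd_prime_iff_eq hq.out Nat.prime_two).mp
      (hq.out.dvd_of_dvd_pow h2))
  have hεc : ∀ g, Commute (φ g) ε := by
    intro g
    show φ g * ε = ε * φ g
    rw [hε, Finset.mul_sum, Finset.sum_mul]
    refine Finset.sum_bij' (fun x _ => g * x * g⁻¹) (fun x _ => g⁻¹ * x * g)
      (fun x hx => (hmem _).mpr ((inferInstance : (⁅E, E⁆).Normal).conj_mem x ((hmem _).mp hx) g))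
      (fun x hx => (hmem _).mpr (by
        have := (inferInstance : (⁅E, E⁆).Normal).conj_mem x ((hmem _).mp hx) g⁻¹
        rwa [inv_inv] at this))
      (fun x _ => by group) (fun x _ => by group) (fun x _ => by
        rw [← map_mul, ← map_mul]; congr 1; group)
  set M2 := LinearMap.ker ε
  have hM2 : ∀ g, ∀ v ∈ M2, φ g v ∈ M2 := fun g v hv => by
    rw [LinearMap.mem_ker] at hv ⊢
    rw [← Module.End.mul_apply, ← (hεc g).eq, Module.End.mul_apply, hv, map_zero]
  set φ2 := restrictRep φ M2 hM2 with hφ2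
  have hcardk : (s.card : k) ≠ 0 := by
    rw [← map_natCast (algebraMap (ZMod q) k)]
    exact fun h => hsq ((algebraMap (ZMod q) k).injective (by rw [h, map_zero]))
  have hfpfgen : ∀ {N : Type _} [AddCommGroup N] [Module (ZMod q) N] [FiniteDimensional (ZMod q) N]
      (ψ : Γ →* Module.End (ZMod q) N), ∑ g ∈ s, ψ g = 0 →
      ∀ v : k ⊗[ZMod q] N, (∀ x ∈ ⁅E, E⁆, bcRep k ψ x v = v) → v = 0 := fun ψ h v hv =>
    bcRep_eq_zero_of_fixed k ψ s h hcardk fun g hg => hv g ((hmem g).mp hg)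
  have hε2 : ∑ g ∈ s, φ2 g = 0 := by
    refine LinearMap.ext fun v => Subtype.ext ?_
    rw [LinearMap.sum_apply, Submodule.coe_sum, LinearMap.zero_apply, ZeroMemClass.coe_zero]
    have h : ε (v : M) = 0 := v.2
    rw [hε, LinearMap.sum_apply] at h
    exact h
  have hM2ne : M2 ≠ ⊥ := by
    intro h
    have hinj : Function.Injective ε := LinearMap.ker_eq_bot.mp h
    apply hxy0
    have hd : φ ⁅x0, y0⁆ = 1 := by
      refine LinearMap.ext fun v => hinj ?_
      have : ε * φ ⁅x0, y0⁆ = ε := by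
        rw [hε, Finset.sum_mul]
        refine Finset.sum_bij' (fun x _ => x * ⁅x0, y0⁆) (fun x _ => x * ⁅x0, y0⁆⁻¹)
          (fun x hx => (hmem _).mpr (mul_mem ((hmem _).mp hx) (commutator_mem_commutator hx0 hy0)))
          (fun x hx => (hmem _).mpr (mul_mem ((hmem _).mp hx)
            (inv_mem (commutator_mem_commutator hx0 hy0))))
          (fun x _ => by group) (fun x _ => by group) (fun x _ => by rw [map_mul])
      exact LinearMap.congr_fun this v
    show φ x0 * φ y0 = φ y0 * φ x0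
    rw [← map_mul, ← map_mul, show x0 * y0 = ⁅x0, y0⁆ * (y0 * x0) by
      rw [commutatorElement_def]; group, map_mul φ ⁅x0, y0⁆, hd, one_mul]
  have d2 := d.restrict M2 hM2
  -- a module without fixed points on which `c` commutes with `E` is zero
  have hnc : ∀ {N : Type _} [AddCommGroup N] [Module (ZMod q) N] [FiniteDimensional (ZMod q) N]
      (ψ : Γ →* Module.End (ZMod q) N), (∀ x ∈ E, Commute (ψ c) (ψ x)) → ∑ g ∈ s, ψ g = 0 →
      ∀ v : N, v = 0 := by
    intro N _ _ _ ψ hcm hsum v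
    have hker : E ≤ ψ.ker := by
      conv_lhs => rw [← hEc]
      rw [commutator_le]
      intro y hy w hw
      obtain ⟨i, rfl⟩ := mem_zpowers_iff.mp hw
      rw [MonoidHom.mem_ker]
      have h1 : Commute (ψ.toHomUnits c ^ i) (ψ.toHomUnits y) :=
        (show Commute (ψ.toHomUnits c) (ψ.toHomUnits y) from Units.ext (hcm y hy)).zpow_left i
      have h2 : ψ.toHomUnits ⁅y, c ^ i⁆ = 1 := by
        rw [map_commutatorElement, map_zpow, commutatorElement_eq_one_iff_commute]
        exact h1.symm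
      exact congrArg Units.val h2
    have h := LinearMap.congr_fun hsum v
    rw [LinearMap.sum_apply, Finset.sum_congr rfl (fun g hg => by
        rw [MonoidHom.mem_ker.mp (hker (commutator_le_self E ((hmem g).mp hg))), Module.End.one_apply]),
      Finset.sum_const, ← Nat.cast_smul_eq_nsmul (ZMod q), LinearMap.zero_apply] at h
    exact (smul_eq_zero.mp h).resolve_left hsq
  obtain ⟨v2, hv2, hv20⟩ := Submodule.exists_mem_ne_zero_of_ne_bot hM2ne
  by_cases hrq : r = q
  swap
  · have hq' := (d2.quad (d2.kill hrq E hC'E (hfpfgen φ2 hε2))).1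
    have h1 := eq_one_of_quadratic hrq d.hR d.cmem hq'
    exact hv20 (congrArg Subtype.val (hnc φ2 (fun x _ => by
      rw [show φ2 c = 1 from h1]; exact Commute.one_left _) hε2 ⟨v2, hv2⟩))
  subst hrq
  -- the fixed points of the kernel part
  let M1 : Submodule (ZMod r) M2 := ⨅ κ : C', LinearMap.ker (φ2 (κ : Γ) - 1)
  have hmem1 : ∀ v, v ∈ M1 ↔ ∀ κ ∈ C', φ2 κ v = v := fun v => by
    simp [M1, Submodule.mem_iInf, sub_eq_zero]
  have hM1 : ∀ g, ∀ v ∈ M1, φ2 g v ∈ M1 := fun g v hv => by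
    rw [hmem1] at hv ⊢
    intro κ hκ
    rw [← Module.End.mul_apply, ← map_mul, show κ * g = g * (g⁻¹ * κ * g) by group, map_mul,
      Module.End.mul_apply, hv _ (by
        have := (inferInstance : C'.Normal).conj_mem κ hκ g⁻¹
        rwa [inv_inv] at this)]
  obtain ⟨v1, hv1, hv10⟩ : ∃ v ∈ M1, v ≠ 0 := by
    letI : MulAction C' M2 :=
      { smul := fun κ v => φ2 (κ : Γ) v
        one_smul := fun v => by show φ2 (1 : Γ) v = v; rw [map_one]; rfl
        mul_smul := fun a b v => by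
          show φ2 ((a : Γ) * b) v = φ2 (a : Γ) (φ2 (b : Γ) v); rw [map_mul]; rfl }
    haveI : Finite M2 := Module.finite_of_finite (ZMod r)
    have hdvd : r ∣ Nat.card M2 := by
      haveI : Nontrivial M2 := nontrivial_of_ne ⟨v2, hv2⟩ 0 fun h => hv20 (congrArg Subtype.val h)
      rw [Module.natCard_eq_pow_finrank (K := ZMod r), Nat.card_zmod]
      exact dvd_pow_self r (Module.finrank_pos).ne'
    obtain ⟨w, hw, hw0⟩ := (d.hR.to_le d.cR).exists_fixed_point_of_prime_dvd_card_of_fixed_point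
      M2 hdvd (a := 0) (fun κ => by show φ2 (κ : Γ) 0 = 0; rw [map_zero])
    exact ⟨w, (hmem1 w).mpr fun κ hκ => hw ⟨κ, hκ⟩, Ne.symm hw0⟩
  set φ1 := restrictRep φ2 M1 hM1 with hφ1
  have d1 := d2.restrict M1 hM1
  have hC1 : ∀ κ ∈ C', φ1 κ = 1 := fun κ hκ => LinearMap.ext fun v => Subtype.ext
    ((hmem1 _).mp v.2 κ hκ)
  obtain ⟨hsqz, hca1, hcb1⟩ := d1.quad fun κ hκ => by rw [hC1 κ hκ]; exact Commute.one_left _
  have hε1 : ∑ g ∈ s, φ1 g = 0 := by
    refine LinearMap.ext fun v => Subtype.ext ?_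
    rw [LinearMap.sum_apply, Submodule.coe_sum, LinearMap.zero_apply, ZeroMemClass.coe_zero]
    have h := LinearMap.congr_fun hε2 (v : M2)
    rw [LinearMap.sum_apply] at h
    exact h
  set ρ := bcRep k φ1 with hρ
  haveI : Nontrivial M1 := nontrivial_of_ne ⟨v1, hv1⟩ 0 fun h => hv10 (congrArg Subtype.val h)
  haveI : Nontrivial (k ⊗[ZMod r] ↥M1) := by
    apply Module.nontrivial_of_finrank_pos (R := k)
    rw [Module.finrank_baseChange]
    exact Module.finrank_pos
  have hρc : ∀ g h : Γ, Commute (φ1 g) (φ1 h) → Commute (ρ g) (ρ h) := fun g h e => by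
    show ρ g * ρ h = ρ h * ρ g
    rw [← map_mul, ← map_mul]
    exact bcRep_congr k φ1 (by rw [map_mul, map_mul]; exact e.eq)
  have hdown : ∀ g h : Γ, Commute (φ g) (φ h) → Commute (φ1 g) (φ1 h) := fun g h e =>
    LinearMap.ext fun v => Subtype.ext (Subtype.ext (LinearMap.congr_fun e.eq ((v : M2) : M)))
  exact no_quadratic_normal (q := r) hq2 ρ E hE u a d.u4 (le_trans (bcRep_rank k φ1 _) d1.rank) d.ha
    (odd_orderOf_pGroup d.r2 d.hR d.aR) (odd_orderOf_pGroup d.r2 d.hR (d.conj_mem d.aR)) hEc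
    (fun x hx g hg => hρc _ _ (hdown _ _ (hcent x hx g hg))) (hρc _ _ hca1) (hρc _ _ hcb1)
    (by rw [hρ, bcRep_sub_one, Module.End.mul_eq_comp, ← LinearMap.baseChange_comp,
      ← Module.End.mul_eq_comp, hsqz, LinearMap.baseChange_zero])
    (hfpfgen φ1 hε1)

end Data

end Cfsg.Agent.HallHigman
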