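import Cfsg.Agent.Lib.HallHigman.PlaneTools

/-!
# Characters and eigenspaces around a plane
-/

set_option autoImplicit false
set_option linter.unusedSectionVars false
set_option linter.style.haveILetI false

namespace Cfsg.Agent.HallHigman

open Module Subgroup
open scoped commutatorElement TensorProduct

section BaseChange

variable {F : Type*} [Field F] (k : Type*) [Field k] [Algebra F k]
variable {G : Type*} [Group G] {M : Type*} [AddCommGroup M] [Module F M] [FiniteDimensional F M]

theorem baseChange_inj {f g : Module.End F M} (h : f.baseChange k = g.baseChange k) : f = g := by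
  let b := Module.finBasis F M
  refine b.ext fun i => b.repr.injective (Finsupp.ext fun j => ?_)
  have h2 := congrArg (fun T => (b.baseChange k).repr (T (1 ⊗ₜ[F] b i)) j) h
  simp only [LinearMap.baseChange_tmul, Module.Basis.baseChange_repr_tmul, Algebra.smul_def,
    mul_one] at h2
  exact (algebraMap F k).injective h2

/-- Extension of scalars of a representation. -/
noncomputable def bcRep (φ : G →* Module.End F M) : G →* Module.End k (k ⊗[F] M) where
  toFun g := (φ g).baseChange k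
  map_one' := by rw [map_one, Module.End.one_eq_id, LinearMap.baseChange_id]; rfl
  map_mul' a b := by rw [map_mul, Module.End.mul_eq_comp, LinearMap.baseChange_comp]; rfl

theorem bcRep_inj (φ : G →* Module.End F M) {g h : G} (e : bcRep k φ g = bcRep k φ h) :
    φ g = φ h := baseChange_inj k e

theorem bcRep_congr (φ : G →* Module.End F M) {g h : G} (e : φ g = φ h) :
    bcRep k φ g = bcRep k φ h := by
  show (φ g).baseChange k = _
  rw [e]; rfl

theorem bcRep_sub_one (φ : G →* Module.End F M) (g : G) :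
    bcRep k φ g - 1 = (φ g - 1).baseChange k := by
  rw [LinearMap.baseChange_sub, Module.End.one_eq_id, Module.End.one_eq_id, LinearMap.baseChange_id]
  rfl

theorem bcRep_rank (φ : G →* Module.End F M) (g : G) :
    finrank k (LinearMap.range (bcRep k φ g - 1)) ≤ finrank F (LinearMap.range (φ g - 1)) := by
  rw [bcRep_sub_one]
  have h : (φ g - 1).baseChange k =
      ((LinearMap.range (φ g - 1)).subtype.baseChange k).comp
        ((φ g - 1).rangeRestrict.baseChange k) := by
    rw [← LinearMap.baseChange_comp]; rfl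
  rw [h]
  refine (Submodule.finrank_mono (LinearMap.range_comp_le_range _ _)).trans ?_
  refine (LinearMap.finrank_range_le _).trans ?_
  rw [Module.finrank_baseChange]

theorem bcRep_eq_zero_of_fixed (φ : G →* Module.End F M) (s : Finset G)
    (hs : ∑ d ∈ s, φ d = 0) (hcard : (s.card : k) ≠ 0) {v : k ⊗[F] M}
    (hv : ∀ d ∈ s, bcRep k φ d v = v) : v = 0 := by
  have h1 : ∑ d ∈ s, bcRep k φ d = 0 := by
    show ∑ d ∈ s, LinearMap.baseChangeHom F k M M (φ d) = 0
    rw [← map_sum, hs, map_zero]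
  have h2 := LinearMap.congr_fun h1 v
  rw [LinearMap.sum_apply, Finset.sum_congr rfl hv, Finset.sum_const, LinearMap.zero_apply,
    ← Nat.cast_smul_eq_nsmul k] at h2
  exact (smul_eq_zero.mp h2).resolve_left hcard

end BaseChange

section Eigen

variable {k : Type*} [Field k] [IsAlgClosed k] {G : Type*} [Group G] [Finite G]
variable {V : Type*} [AddCommGroup V] [Module k V] [FiniteDimensional k V]

theorem exists_char (ρ : G →* Module.End k V) (A : Subgroup G) [Nontrivial V]
    (habel : ∀ x ∈ A, ∀ y ∈ A, Commute (ρ x) (ρ y)) :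
    ∃ χ : G → k, (∀ x, x ∉ A → χ x = 0) ∧ ∃ v ∈ eigW ρ A χ, v ≠ 0 := by
  classical
  obtain ⟨v, -, hv0, χ, hχ⟩ := exists_common_eigen (fun a : A => ρ (a : G))
    (fun a b => habel a a.2 b b.2) ⊤ top_ne_bot (fun _ _ _ => trivial)
  exact ⟨fun x => if h : x ∈ A then χ ⟨x, h⟩ else 0, fun x hx => dif_neg hx, v,
    fun a ha => by simp only [dif_pos ha]; exact hχ ⟨a, ha⟩, hv0⟩

theorem exists_char_ne (ρ : G →* Module.End k V) (A : Subgroup G)
    (habel : ∀ x ∈ A, ∀ y ∈ A, Commute (ρ x) (ρ y)) {a : G} (ha : a ∈ A) (hne : ρ a ≠ 1)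
    (hcop : (orderOf a : k) ≠ 0) :
    ∃ χ : G → k, (∀ x, x ∉ A → χ x = 0) ∧ (∃ v ∈ eigW ρ A χ, v ≠ 0) ∧ χ a ≠ 1 := by
  classical
  obtain ⟨v, hv0, χ, hχ, hχ1⟩ := exists_eigen_ne_one (fun b : A => ρ (b : G))
    (fun x y => habel x x.2 y y.2) ⟨a, ha⟩ hcop (by rw [← map_pow, pow_orderOf_eq_one, map_one]) hne
  exact ⟨fun x => if h : x ∈ A then χ ⟨x, h⟩ else 0, fun x hx => dif_neg hx, ⟨v,
    fun b hb => by simp only [dif_pos hb]; exact hχ ⟨b, hb⟩, hv0⟩, by simpa [dif_pos ha] using hχ1⟩

/-- A group without fixed points of its derived group has no invariant line. -/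
theorem two_le_finrank_of_fpf (ρ : G →* Module.End k V) (E : Subgroup G) (W : Submodule k V)
    (hinv : ∀ x ∈ E, ∀ w ∈ W, ρ x w ∈ W) {v : V} (hv : v ∈ W) (hv0 : v ≠ 0)
    (hfpf : ∀ w : V, (∀ d ∈ ⁅E, E⁆, ρ d w = w) → w = 0) : 2 ≤ finrank k W := by
  by_contra hlt
  haveI : Nontrivial W := nontrivial_of_ne ⟨v, hv⟩ 0 fun h => hv0 (congrArg Subtype.val h)
  have h1 : finrank k W = 1 := by
    have := Module.finrank_pos (R := k) (M := W)
    omega
  have hsc : ∀ x ∈ E, ∃ c : k, ρ x v = c • v := by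
    intro x hx
    obtain ⟨c, hc⟩ := exists_smul_eq_of_finrank_eq_one h1
      (fun h : (⟨v, hv⟩ : W) = 0 => hv0 (congrArg Subtype.val h)) ⟨ρ x v, hinv x hx v hv⟩
    exact ⟨c, (congrArg Subtype.val hc).symm⟩
  let Fix : Subgroup G :=
    { carrier := {g | ρ g v = v}
      one_mem' := by simp
      mul_mem' := fun {a b} ha hb => by
        show ρ (a * b) v = v
        rw [map_mul, Module.End.mul_apply, hb, ha]
      inv_mem' := fun {a} ha => by
        show ρ a⁻¹ v = v
        conv_lhs => rw [← ha]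
        rw [← Module.End.mul_apply, ← map_mul, inv_mul_cancel, map_one, Module.End.one_apply] }
  have hD : ⁅E, E⁆ ≤ Fix := by
    rw [commutator_le]
    intro x hx y hy
    obtain ⟨cx, hcx⟩ := hsc x hx
    obtain ⟨cy, hcy⟩ := hsc y hy
    have e : ρ (x * y) v = ρ (y * x) v := by
      simp only [map_mul, Module.End.mul_apply, hcx, hcy, map_smul, smul_smul, mul_comm cx]
    show ρ ⁅x, y⁆ v = v
    rw [commutatorElement_def, show x * y * x⁻¹ * y⁻¹ = x * y * (y * x)⁻¹ by group]
    have h2 : v = ρ (y * x) (ρ (y * x)⁻¹ v) := by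
      rw [← Module.End.mul_apply, ← map_mul, mul_inv_cancel, map_one, Module.End.one_apply]
    have e2 : ρ (x * y) (ρ (y * x)⁻¹ v) = ρ (y * x) (ρ (y * x)⁻¹ v) := by
      obtain ⟨c, hc⟩ : ∃ c : k, ρ (y * x)⁻¹ v = c • v := by
        obtain ⟨c, hc⟩ := hsc _ (inv_mem (mul_mem hy hx))
        exact ⟨c, hc⟩
      rw [hc, map_smul, map_smul, e]
    rw [map_mul, Module.End.mul_apply, e2, ← h2]
  exact hv0 (hfpf v hD)

/-- An element commuting with its conjugates is fixed on the characters. -/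
theorem perm_commute (ρ : G →* Module.End k V) (A : Subgroup G) [A.Normal]
    (habel : ∀ x ∈ A, ∀ y ∈ A, Commute (ρ x) (ρ y)) (hcop : ∀ x ∈ A, (orderOf x : k) ≠ 0)
    (C' : Subgroup G) (hC'A : C' ≤ centralizer (A : Set G)) (u a : G) (hu : u * u * (u * u) = 1)
    (hrank : finrank k (LinearMap.range (ρ (u * u) - 1)) ≤ 2)
    (ha : u * u * a * (u * u)⁻¹ = a⁻¹) (hao : Odd (orderOf a))
    (hco : Odd (orderOf ⁅a, u * a * u⁻¹⁆))
    (hcu : ⁅⁅a, u * a * u⁻¹⁆, u⁆ ∈ C') (hca : ⁅⁅a, u * a * u⁻¹⁆, a⁆ ∈ C')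
    (hcb : ⁅⁅a, u * a * u⁻¹⁆, u * a * u⁻¹⁆ ∈ C') :
    ∀ x ∈ A, Commute (ρ ⁅a, u * a * u⁻¹⁆) (ρ x) := by
  classical
  set b := u * a * u⁻¹ with hb
  set c := ⁅a, b⁆ with hcdef
  set z := u * u with hz
  intro x hx
  have hnA : ∀ g : G, g ∈ normalizer (A : Set G) := fun g => by
    rw [normalizer_eq_top]; trivial
  have hd : c * x * c⁻¹ * x⁻¹ ∈ A := mul_mem (Normal.conj_mem inferInstance x hx c) (inv_mem hx)
  by_contra hne
  have hdne : ρ (c * x * c⁻¹ * x⁻¹) ≠ 1 := by
    intro h
    apply hne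
    show ρ c * ρ x = ρ x * ρ c
    rw [← map_mul, ← map_mul, show c * x = (c * x * c⁻¹ * x⁻¹) * (x * c) by group, map_mul, h,
      one_mul]
  obtain ⟨χ, hχ, ⟨v, hv, hv0⟩, hχ1⟩ := exists_char_ne ρ A habel hd hdne (hcop _ hd)
  -- equalities of actions
  have hsub : ∀ {g h : G}, ⁅g, h⁆ ∈ C' → ∀ φ : G → k, (∀ y, y ∉ A → φ y = 0) →
      actC g (actC h φ) = actC h (actC g φ) := by
    intro g h hgh φ hφ
    rw [← actC_mul, ← actC_mul, show g * h = ⁅g, h⁆ * (h * g) by rw [commutatorElement_def]; group,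
      actC_mul ⁅g, h⁆]
    exact actC_eq_of_commute (hnA _) (actC_supp (hnA _) hφ)
      fun y hy => mem_centralizer_iff.mp (hC'A hgh) y hy
  have hsupp : ∀ g, ∀ φ : G → k, (∀ y, y ∉ A → φ y = 0) → ∀ y, y ∉ A → actC g φ y = 0 :=
    fun g φ hφ => actC_supp (hnA g) hφ
  let Occ : (G → k) → Prop := fun φ => (∀ y, y ∉ A → φ y = 0) ∧ ∃ w ∈ eigW ρ A φ, w ≠ 0
  have hocc : ∀ g φ, Occ φ → Occ (actC g φ) := fun g φ ⟨h1, w, hw, hw0⟩ =>
    ⟨hsupp g φ h1, ρ g w, actC_mem ρ (hnA g) hw, rho_ne_zero ρ g hw0⟩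
  have hdim : ∀ φ, Occ φ → 1 ≤ finrank k ↥(eigW ρ A φ) := fun φ ⟨_, w, hw, hw0⟩ => by
    haveI : Nontrivial ↥(eigW ρ A φ) :=
      nontrivial_of_ne ⟨w, hw⟩ 0 fun h => hw0 (congrArg Subtype.val h)
    exact Module.finrank_pos
  have hzz : ∀ φ : G → k, actC z (actC z φ) = φ := fun φ => by rw [← actC_mul, hu, actC_one]
  -- a moved character is fixed
  have hfixmoved : ∀ φ, Occ φ → actC z φ ≠ φ → actC c φ = φ := by
    intro φ hφ hmv
    obtain ⟨h1, h2, h3⟩ := actC_u_move hu hmv
    have hc1 : Occ (actC c φ) := hocc c φ hφ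
    have hcu' : ∀ ψ : G → k, (∀ y, y ∉ A → ψ y = 0) → actC c (actC u ψ) = actC u (actC c ψ) :=
      fun ψ hψ => hsub hcu ψ hψ
    have hcz : actC c (actC z φ) = actC z (actC c φ) := by
      rw [hz, actC_mul, actC_mul, hcu' _ (hsupp _ _ hφ.1), hcu' _ hφ.1]
    have hmv' : actC z (actC c φ) ≠ actC c φ := by
      intro h
      apply hmv
      rw [← hcz] at h
      have := congrArg (actC c⁻¹) h
      rwa [← actC_mul, ← actC_mul c⁻¹ c φ, inv_mul_cancel, actC_one, actC_one] at this
    have hmem : ∃ i : ℕ, i < 4 ∧ actC c φ = actC (u ^ i) φ := by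
      by_contra hnot
      push Not at hnot
      have n0 := hnot 0 (by norm_num)
      have n1 := hnot 1 (by norm_num)
      have n2 := hnot 2 (by norm_num)
      have n3 := hnot 3 (by norm_num)
      rw [pow_zero, actC_one] at n0
      rw [pow_one] at n1
      rw [pow_two] at n2
      rw [show u ^ 3 = (u * u) * u by rw [pow_succ, pow_two], actC_mul] at n3
      have h := move_bound ρ A hu (hnA _) hrank ![φ, actC u φ, actC c φ] (by
        intro l; fin_cases l
        · exact hφ.1
        · exact hsupp _ _ hφ.1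
        · exact hc1.1) (by
        intro l; fin_cases l
        · exact hmv
        · exact h3
        · exact hmv') (by
        intro l l' hll
        fin_cases l <;> fin_cases l'
        · exact absurd rfl hll
        · exact ⟨h1, h2⟩
        · exact ⟨n0, n2⟩
        · exact ⟨h1.symm, fun h => h2 (by
            have := congrArg (actC (u * u)) h
            rwa [hzz, eq_comm] at this)⟩
        · exact absurd rfl hll
        · exact ⟨n1, n3⟩
        · exact ⟨n0.symm, fun h => n2 (by
            have := congrArg (actC (u * u)) h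
            rwa [hzz, eq_comm] at this)⟩
        · exact ⟨n1.symm, fun h => n3 (by
            have := congrArg (actC (u * u)) h
            rwa [hzz, eq_comm] at this)⟩
        · exact absurd rfl hll)
      rw [Fin.sum_univ_three] at h
      have h' : finrank k ↥(eigW ρ A φ) + finrank k ↥(eigW ρ A (actC u φ)) +
          finrank k ↥(eigW ρ A (actC c φ)) ≤ 2 := h
      have := hdim _ hφ
      have := hdim _ (hocc u φ hφ)
      have := hdim _ hc1
      omega
    obtain ⟨i, hi, hci⟩ := hmem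
    have hcui : ∀ j : ℕ, actC c (actC (u ^ j) φ) = actC (u ^ j) (actC c φ) := by
      intro j
      induction j with
      | zero => simp [actC_one]
      | succ j ih => rw [pow_succ', actC_mul, hcu' _ (hsupp _ _ hφ.1), ih, actC_mul]
    have hiter : ∀ n : ℕ, actC (c ^ n) φ = actC (u ^ (i * n)) φ := by
      intro n
      induction n with
      | zero => simp [actC_one]
      | succ n ih =>
        rw [pow_succ', actC_mul, ih, hcui, hci, ← actC_mul, ← pow_add]
        congr 2
    obtain ⟨m, hm⟩ := hco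
    have hfin := hiter (orderOf c * orderOf c)
    rw [pow_mul, pow_orderOf_eq_one, one_pow, actC_one, hm,
      show i * ((2 * m + 1) * (2 * m + 1)) = 4 * (i * (m * m + m)) + i by ring, pow_add, pow_mul,
      show u ^ 4 = 1 by rw [show (4 : ℕ) = 2 + 2 from rfl, pow_add, pow_two]; exact hu, one_pow, one_mul, ← hci] at hfin
    exact hfin.symm
  -- unmoved elements are fixed
  have hfixinv : ∀ s : G, z * s * z⁻¹ = s⁻¹ → Odd (orderOf s) → ∀ φ : G → k, actC z φ = φ →
      actC z (actC s⁻¹ φ) = actC s⁻¹ φ → actC s φ = φ := by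
    intro s hs hso φ h1 h2
    have h3 : actC (s * s) φ = φ := by
      have e : s * s = s * z * s⁻¹ * z := by
        rw [show s⁻¹ = z * s * z by rw [← hs, inv_eq_of_mul_eq_one_right hu]]
        calc s * s = s * (z * z) * s * (z * z) := by rw [hu, mul_one, mul_one]
          _ = _ := by group
      rw [e, actC_mul, h1, actC_mul, actC_mul, h2, ← actC_mul, mul_inv_cancel, actC_one]
    obtain ⟨m, hm⟩ := hso
    have h4 : ∀ n : ℕ, actC ((s * s) ^ n) φ = φ := by
      intro n
      induction n with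
      | zero => simp [actC_one]
      | succ n ih => rw [pow_succ, actC_mul, h3, ih]
    have e : s = (s * s) ^ (m + 1) := by
      rw [← pow_two, ← pow_mul, show 2 * (m + 1) = (2 * m + 1) + 1 by ring, pow_succ, ← hm,
        pow_orderOf_eq_one, one_mul]
    rw [e]
    exact h4 _
  have hbinv : z * b * z⁻¹ = b⁻¹ := by
    rw [hb, hz, show u * u * (u * a * u⁻¹) * (u * u)⁻¹ = u * (u * u * a * (u * u)⁻¹) * u⁻¹ by group,
      ha]
    group
  have hbo : Odd (orderOf b) := by
    rw [hb, show u * a * u⁻¹ = MulAut.conj u a from rfl, MulEquiv.orderOf_eq]; exact hao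
  have hcfix : actC c χ = χ := by
    have hoccχ : Occ χ := ⟨hχ, v, hv, hv0⟩
    by_cases h1 : actC z χ = χ
    swap
    · exact hfixmoved χ hoccχ h1
    by_cases h2 : actC z (actC a⁻¹ χ) = actC a⁻¹ χ
    swap
    · have := congrArg (actC a) (hfixmoved _ (hocc _ _ hoccχ) h2)
      rwa [← hsub hca _ (hsupp _ _ hχ), ← actC_mul a a⁻¹, mul_inv_cancel, actC_one] at this
    by_cases h3 : actC z (actC b⁻¹ χ) = actC b⁻¹ χ
    swap
    · have := congrArg (actC b) (hfixmoved _ (hocc _ _ hoccχ) h3)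
      rwa [← hsub hcb _ (hsupp _ _ hχ), ← actC_mul b b⁻¹, mul_inv_cancel, actC_one] at this
    have ea := hfixinv a ha hao χ h1 h2
    have eb := hfixinv b hbinv hbo χ h1 h3
    have ea' : actC a⁻¹ χ = χ := by
      conv_lhs => rw [← ea]
      rw [← actC_mul, inv_mul_cancel, actC_one]
    have eb' : actC b⁻¹ χ = χ := by
      conv_lhs => rw [← eb]
      rw [← actC_mul, inv_mul_cancel, actC_one]
    rw [hcdef, commutatorElement_def, actC_mul, eb', actC_mul, ea', actC_mul, eb, ea]
  apply hχ1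
  have hcx : c * x * c⁻¹ ∈ A := Normal.conj_mem inferInstance x hx c
  have h5 : χ x = χ (c * x * c⁻¹) := by
    have h := congrFun hcfix (c * x * c⁻¹)
    simpa [actC, mul_assoc] using h
  have h6 : (χ (c * x * c⁻¹ * x⁻¹) * χ x) • v = χ (c * x * c⁻¹) • v := by
    rw [← hv _ hcx, mul_smul, smul_comm, ← hv _ hd, ← map_smul, ← hv _ hx, ← Module.End.mul_apply,
      ← map_mul, inv_mul_cancel_right]
  have h7 := smul_left_injective k hv0 h6
  rw [← h5] at h7
  exact (mul_eq_right₀ fun h0 => rho_ne_zero ρ x hv0 (by rw [hv x hx, h0, zero_smul])).mp h7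

end Eigen

end Cfsg.Agent.HallHigman
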