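import Cfsg.Agent.Lib.HallHigman.Exceptional

/-!
# Tools for a fourth root of unity squaring to an element moving a plane
-/

set_option autoImplicit false
set_option linter.unusedSectionVars false
set_option linter.style.haveILetI false

namespace Cfsg.Agent.HallHigman

open Module Subgroup
open scoped commutatorElement TensorProduct

section Groups

variable {U : Type*} [Group U]

/-- The commutator of an inverted element with its conjugate is fixed. -/
theorem inverted_fix (u s : U) (hs : u * u * s * (u * u)⁻¹ = s⁻¹)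
    (hc : Commute ⁅s, u * s * u⁻¹⁆ s) : u * ⁅s, u * s * u⁻¹⁆ * u⁻¹ = ⁅s, u * s * u⁻¹⁆ := by
  have h1 : u * ⁅s, u * s * u⁻¹⁆ * u⁻¹ = ⁅u * s * u⁻¹, u * u * s * (u * u)⁻¹⁆ := by
    simp only [commutatorElement_def]; group
  rw [h1, hs, show ⁅u * s * u⁻¹, s⁻¹⁆ = s⁻¹ * ⁅s, u * s * u⁻¹⁆ * s by
    simp only [commutatorElement_def]; group]
  rw [mul_assoc, hc.eq, inv_mul_cancel_left]

theorem comm_mul_left {x y w : U} (h : Commute ⁅y, w⁆ x) (h2 : Commute ⁅x, w⁆ ⁅y, w⁆) :
    ⁅x * y, w⁆ = ⁅x, w⁆ * ⁅y, w⁆ := by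
  rw [show ⁅x * y, w⁆ = x * ⁅y, w⁆ * x⁻¹ * ⁅x, w⁆ by simp only [commutatorElement_def]; group,
    ← h.eq, mul_inv_cancel_right, h2.eq]

theorem comm_mul_right {x y w : U} (h : Commute ⁅w, y⁆ x) :
    ⁅w, x * y⁆ = ⁅w, x⁆ * ⁅w, y⁆ := by
  rw [show ⁅w, x * y⁆ = ⁅w, x⁆ * (x * ⁅w, y⁆ * x⁻¹) by simp only [commutatorElement_def]; group,
    ← h.eq, mul_inv_cancel_right]

theorem sq_eq_one_of_odd {x : U} (hodd : Odd (orderOf x)) (h : x * x = 1) : x = 1 := by
  obtain ⟨k, hk⟩ := hodd
  have h1 : x ^ (2 * k + 1) = 1 := hk ▸ pow_orderOf_eq_one x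
  rwa [pow_succ, pow_mul, pow_two, h, one_pow, one_mul] at h1

theorem commute_of_sq {x s : U} (hodd : Odd (orderOf s)) (h : Commute x (s * s)) : Commute x s := by
  obtain ⟨k, hk⟩ := hodd
  have h1 : s ^ (2 * k + 1) = 1 := hk ▸ pow_orderOf_eq_one s
  have h2 : s = (s * s) ^ (k + 1) := by
    rw [← pow_two, ← pow_mul, show 2 * (k + 1) = (2 * k + 1) + 1 by ring, pow_succ, h1, one_mul]
  rw [h2]
  exact h.pow_right _

/-- An element commuting with `z` and whose conjugate does commutes with the inverted element. -/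
theorem commute_inverted {z s x : U} (hodd : Odd (orderOf s)) (hzz : z * z = 1)
    (hs : z * s * z⁻¹ = s⁻¹) (hx : Commute x z) (hx' : Commute (s⁻¹ * x * s) z) : Commute x s := by
  refine commute_of_sq hodd ?_
  have hzi : z⁻¹ = z := inv_eq_of_mul_eq_one_right hzz
  have h1 : Commute x (s * z * s⁻¹) := by
    have h := congrArg (fun w => s * w * s⁻¹) hx'.eq
    simp only [← mul_assoc, mul_inv_cancel, one_mul] at h
    show x * (s * z * s⁻¹) = s * z * s⁻¹ * x
    simpa [mul_assoc] using h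
  have h2 : s * s = s * z * s⁻¹ * z := by
    have : s⁻¹ = z * s * z := by rw [← hs, hzi]
    rw [this]
    calc s * s = s * (z * z) * s * (z * z) := by rw [hzz, mul_one, mul_one]
      _ = _ := by group
  rw [h2]
  exact h1.mul_right hx

/-- If no inverted element fails to commute with its conjugate, the commutators are inverted. -/
theorem inverts_commutator (u : U) (A : Subgroup U) (huA : ∀ x ∈ A, u * x * u⁻¹ ∈ A)
    (hcent : ∀ x ∈ A, ∀ y ∈ A, ∀ w ∈ A, Commute ⁅x, y⁆ w)
    (hodd : ∀ x ∈ A, Odd (orderOf x))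
    (hall : ∀ s ∈ A, u * u * s * (u * u)⁻¹ = s⁻¹ → ⁅s, u * s * u⁻¹⁆ = 1)
    {s t : U} (hs : s ∈ A) (ht : t ∈ A) (hsi : u * u * s * (u * u)⁻¹ = s⁻¹)
    (hti : u * u * t * (u * u)⁻¹ = t⁻¹) : u * ⁅s, t⁆ * u⁻¹ = ⁅s, t⁆⁻¹ := by
  have hcomm : ∀ x ∈ A, ∀ y ∈ A, ⁅x, y⁆ ∈ A := fun x hx y hy => by
    rw [commutatorElement_def]
    exact mul_mem (mul_mem (mul_mem hx hy) (inv_mem hx)) (inv_mem hy)
  have hl : ∀ x ∈ A, ∀ y ∈ A, ∀ w ∈ A, ⁅x * y, w⁆ = ⁅x, w⁆ * ⁅y, w⁆ := fun x hx y hy w hw =>
    comm_mul_left (hcent y hy w hw x hx) (hcent x hx w hw _ (hcomm y hy w hw))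
  have hr : ∀ x ∈ A, ∀ y ∈ A, ∀ w ∈ A, ⁅w, x * y⁆ = ⁅w, x⁆ * ⁅w, y⁆ := fun x hx y hy w hw =>
    comm_mul_right (hcent w hw y hy x hx)
  have hinvt : ∀ x, u * u * x * (u * u)⁻¹ = x⁻¹ →
      u * u * (u * x * u⁻¹) * (u * u)⁻¹ = (u * x * u⁻¹)⁻¹ := fun x hx => by
    rw [show u * u * (u * x * u⁻¹) * (u * u)⁻¹ = u * (u * u * x * (u * u)⁻¹) * u⁻¹ by group, hx]
    group
  set t0 := u * t * u⁻¹
  have ht0 : t0 ∈ A := huA t ht
  set s' := u * s * u⁻¹
  have hs' : s' ∈ A := huA s hs
  set t' := u * t0 * u⁻¹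
  have ht' : t' ∈ A := huA t0 ht0
  have hw : u * (s * t0 * s) * u⁻¹ = s' * t' * s' := by simp only [s', t']; group
  have hwi : u * u * (s * t0 * s) * (u * u)⁻¹ = (s * t0 * s)⁻¹ := by
    rw [show u * u * (s * t0 * s) * (u * u)⁻¹ = (u * u * s * (u * u)⁻¹) *
      (u * u * t0 * (u * u)⁻¹) * (u * u * s * (u * u)⁻¹) by group, hsi, hinvt t hti]
    simp only [t0]; group
  have h0 := hall _ (mul_mem (mul_mem hs ht0) hs) hwi
  have e1 : ⁅s, s' * t' * s'⁆ = ⁅s, t'⁆ := by
    rw [hr _ (mul_mem hs' ht') _ hs' _ hs, hr _ hs' _ ht' _ hs, hall s hs hsi, one_mul, mul_one]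
  have e2 : ⁅t0, s' * t' * s'⁆ = ⁅t0, s'⁆ * ⁅t0, s'⁆ := by
    rw [hr _ (mul_mem hs' ht') _ hs' _ ht0, hr _ hs' _ ht' _ ht0, hall t0 ht0 (hinvt t hti), mul_one]
  rw [hw, hl _ (mul_mem hs ht0) _ hs _ (mul_mem (mul_mem hs' ht') hs'),
    hl _ hs _ ht0 _ (mul_mem (mul_mem hs' ht') hs'), e1, e2] at h0
  set P := ⁅s, t'⁆
  set Q := ⁅t0, s'⁆
  have hPA : P ∈ A := hcomm _ hs _ ht'
  have hPQ : Commute P Q := hcent _ hs _ ht' _ (hcomm _ ht0 _ hs')
  have h2 : (P * Q) * (P * Q) = 1 := by
    calc (P * Q) * (P * Q) = P * (Q * P) * Q := by group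
      _ = P * (P * Q) * Q := by rw [hPQ.eq]
      _ = P * (P * (Q * Q)) := by group
      _ = P * (Q * Q * P) := by rw [((hPQ.mul_right hPQ)).eq]
      _ = P * (Q * Q) * P := by group
      _ = 1 := h0
  have h3 := sq_eq_one_of_odd (hodd _ (mul_mem hPA (hcomm _ ht0 _ hs'))) h2
  have e3 : t' = t⁻¹ := by rw [← hti]; simp only [t', t0]; group
  have e4 : ⁅s, t⁆ * ⁅s, t⁻¹⁆ = 1 := by
    rw [← hr _ ht _ (inv_mem ht) _ hs, mul_inv_cancel, commutatorElement_one_right]
  have e5 : Q = u * ⁅s, t⁆⁻¹ * u⁻¹ := by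
    simp only [Q, t0, s', commutatorElement_def]; group
  have e6 : P = ⁅s, t⁆⁻¹ := by
    simp only [P]; rw [e3]; exact (inv_eq_of_mul_eq_one_right e4).symm
  rw [show ⁅t0, s'⁆ = u * ⁅s, t⁆⁻¹ * u⁻¹ from e5, e6] at h3
  have h4 := congrArg (fun w => (⁅s, t⁆ * w)⁻¹) h3
  simp only [← mul_assoc, mul_inv_cancel, one_mul, mul_one] at h4
  rw [← h4]
  group

/-- A group equal to its commutator with an involution is generated by inverted elements. -/
theorem exists_inverted_noncomm {U' : Type*} [Group U'] (π : U →* U') {z : U} (hzz : z * z = 1)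
    (A : Subgroup U) (hA : ⁅A, zpowers z⁆ = A) (hne : ∃ x ∈ A, ∃ y ∈ A, π ⁅x, y⁆ ≠ 1) :
    ∃ s ∈ A, ∃ t ∈ A, z * s * z⁻¹ = s⁻¹ ∧ z * t * z⁻¹ = t⁻¹ ∧ π ⁅s, t⁆ ≠ 1 := by
  by_contra hall
  push Not at hall
  have hzi : z⁻¹ = z := inv_eq_of_mul_eq_one_right hzz
  set I : Set U := {s | s ∈ A ∧ z * s * z⁻¹ = s⁻¹}
  have hgen : A ≤ closure I := by
    conv_lhs => rw [← hA]
    rw [commutator_le]
    intro g hg w hw
    have hwz : w = 1 ∨ w = z := by
      obtain ⟨i, rfl⟩ := mem_zpowers_iff.mp hw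
      rcases Int.even_or_odd i with ⟨j, rfl⟩ | ⟨j, rfl⟩
      · left; rw [← two_mul, zpow_mul, zpow_two, hzz, one_zpow]
      · right; rw [zpow_add_one, zpow_mul, zpow_two, hzz, one_zpow, one_mul]
    rcases hwz with h | h <;> rw [h]
    · rw [commutatorElement_one_right]; exact one_mem _
    refine subset_closure ⟨?_, ?_⟩
    · have h5 := commutator_mem_commutator hg (mem_zpowers z)
      rwa [hA] at h5
    · simp only [commutatorElement_def, mul_inv_rev, inv_inv]
      simp only [hzi, mul_assoc, hzz, mul_one]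
  have h1 : (closure I).map π ≤ centralizer ((closure I).map π : Set U') := by
    rw [MonoidHom.map_closure, closure_le]
    rintro _ ⟨s, hs, rfl⟩
    have h2 : closure (π '' I) ≤ centralizer ({π s} : Set U') := by
      rw [closure_le]
      rintro _ ⟨t, ht, rfl⟩
      rw [SetLike.mem_coe, mem_centralizer_singleton_iff]
      exact (commutatorElement_eq_one_iff_commute.mp
        (by rw [← map_commutatorElement]; exact hall t ht.1 s hs.1 ht.2 hs.2)).eq
    rw [SetLike.mem_coe, mem_centralizer_iff]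
    exact fun t ht => mem_centralizer_singleton_iff.mp (h2 ht)
  obtain ⟨x, hx, y, hy, hxy⟩ := hne
  refine hxy ?_
  rw [map_commutatorElement, commutatorElement_eq_one_iff_commute]
  exact (mem_centralizer_iff.mp (h1 (mem_map_of_mem π (hgen hy)))) _
    (mem_map_of_mem π (hgen hx))

end Groups

section Linear

variable {k : Type*} [Field k] {G : Type*} [Group G]
variable {V : Type*} [AddCommGroup V] [Module k V] [FiniteDimensional k V]

/-- The conjugate of a character. -/
def actC (g : G) (χ : G → k) : G → k := fun x => χ (g⁻¹ * x * g)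

theorem actC_mul (g h : G) (χ : G → k) : actC (g * h) χ = actC g (actC h χ) := by
  funext x; simp [actC, mul_assoc]

theorem actC_one (χ : G → k) : actC 1 χ = χ := by funext x; simp [actC]

theorem actC_supp {A : Subgroup G} {g : G} (hg : g ∈ normalizer (A : Set G)) {χ : G → k}
    (hχ : ∀ x, x ∉ A → χ x = 0) : ∀ x, x ∉ A → actC g χ x = 0 := fun x hx => hχ _ fun h => by
  refine hx ((mem_normalizer_iff.mp (inv_mem hg) x).mpr ?_)
  rwa [inv_inv]

theorem actC_eq_of_commute {A : Subgroup G} {g : G} (hg : g ∈ normalizer (A : Set G)) {χ : G → k}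
    (hχ : ∀ x, x ∉ A → χ x = 0) (hc : ∀ x ∈ A, x * g = g * x) : actC g χ = χ := by
  funext x
  by_cases hx : x ∈ A
  · simp only [actC, mul_assoc, hc x hx, inv_mul_cancel_left]
  · rw [hχ x hx, actC_supp hg hχ x hx]

theorem actC_mem (ρ : G →* Module.End k V) {A : Subgroup G} {g : G}
    (hg : g ∈ normalizer (A : Set G)) {χ : G → k} {w : V} (hw : w ∈ eigW ρ A χ) :
    ρ g w ∈ eigW ρ A (actC g χ) := by
  intro a ha
  have ha' : g⁻¹ * a * g ∈ A := by
    have := (mem_normalizer_iff.mp (inv_mem hg) a).mp ha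
    rwa [inv_inv] at this
  rw [← Module.End.mul_apply, ← map_mul, show a * g = g * (g⁻¹ * a * g) by group, map_mul,
    Module.End.mul_apply, hw _ ha', map_smul]
  rfl

/-- At most two characters with independent displacements. -/
theorem move_bound (ρ : G →* Module.End k V) (A : Subgroup G) {z : G} (hzz : z * z = 1)
    (hzA : z ∈ normalizer (A : Set G))
    (hrank : finrank k (LinearMap.range (ρ z - 1)) ≤ 2) {n : ℕ} (ψ : Fin n → G → k)
    (hψ : ∀ l x, x ∉ A → ψ l x = 0)
    (hmove : ∀ l, actC z (ψ l) ≠ ψ l)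
    (hdist : ∀ l l', l ≠ l' → ψ l' ≠ ψ l ∧ ψ l' ≠ actC z (ψ l)) :
    ∑ l, finrank k ↥(eigW ρ A (ψ l)) ≤ 2 := by
  classical
  let T : (∀ l, ↥(eigW ρ A (ψ l))) →ₗ[k] LinearMap.range (ρ z - 1) :=
    { toFun := fun f => ∑ l, (⟨(ρ z - 1) (f l : V), LinearMap.mem_range_self _ _⟩ :
        LinearMap.range (ρ z - 1))
      map_add' := fun f g => by
        rw [← Finset.sum_add_distrib]
        refine Finset.sum_congr rfl fun l _ => Subtype.ext ?_
        simp
        abel
      map_smul' := fun c f => by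
        rw [RingHom.id_apply, Finset.smul_sum]
        refine Finset.sum_congr rfl fun l _ => Subtype.ext ?_
        simp [smul_sub] }
  have hcancel : ∀ φ : G → k, actC z (actC z φ) = φ := fun φ => by
    rw [← actC_mul, hzz, actC_one]
  have hinj : Function.Injective T := by
    refine (injective_iff_map_eq_zero T).mpr fun f hf => ?_
    have hf' : ∑ l, ((ρ z (f l : V)) - (f l : V)) = 0 := by
      have := congrArg Subtype.val hf
      simpa [T] using this
    let χ' : Fin n ⊕ Fin n → A → k := Sum.elim (fun l a => ψ l a) (fun l a => actC z (ψ l) a)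
    let v : Fin n ⊕ Fin n → V := Sum.elim (fun l => -(f l : V)) (fun l => ρ z (f l : V))
    have hext : ∀ φ φ' : G → k, (∀ x, x ∉ A → φ x = 0) → (∀ x, x ∉ A → φ' x = 0) →
        ((fun a : A => φ a) = fun a : A => φ' a) → φ = φ' := fun φ φ' h h' he => by
      funext x
      by_cases hx : x ∈ A
      · exact congrFun he ⟨x, hx⟩
      · rw [h x hx, h' x hx]
    have hχi : Function.Injective χ' := by
      rintro (l | l) (l' | l') he
      · by_contra hne
        exact (hdist l l' fun h => hne (by rw [h])).1 (hext _ _ (hψ l') (hψ l) he.symm)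
      · have he' := hext _ _ (hψ l) (actC_supp hzA (hψ l')) he
        rcases eq_or_ne l l' with rfl | hne
        · exact absurd he'.symm (hmove l)
        · exact absurd he' (hdist l' l hne.symm).2
      · have he' := hext _ _ (actC_supp hzA (hψ l)) (hψ l') he
        rcases eq_or_ne l l' with rfl | hne
        · exact absurd he' (hmove l)
        · exact absurd he'.symm (hdist l l' hne).2
      · have he' := hext _ _ (actC_supp hzA (hψ l)) (actC_supp hzA (hψ l')) he
        by_contra hne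
        refine (hdist l l' fun h => hne (by rw [h])).1 ?_
        have := congrArg (actC z) he'
        rwa [hcancel, hcancel, eq_comm] at this
    have h0 := eq_zero_of_sum_eigen (fun a : A => ρ (a : G)) χ' hχi v (by
      rintro (l | l) a
      · simp only [v, χ', Sum.elim_inl, map_neg, smul_neg]
        rw [(f l).2 _ a.2]
      · exact actC_mem ρ hzA (f l).2 _ a.2) Finset.univ (by
      rw [Fintype.sum_sum_type]
      simp only [v, Sum.elim_inl, Sum.elim_inr]
      rw [← Finset.sum_add_distrib, ← hf']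
      exact Finset.sum_congr rfl fun l _ => by abel)
    funext l
    have h1 := h0 (Sum.inl l) (Finset.mem_univ _)
    simp only [v, Sum.elim_inl, neg_eq_zero] at h1
    exact Subtype.ext h1
  have h1 := LinearMap.finrank_le_finrank_of_injective hinj
  rw [Module.finrank_pi_fintype] at h1
  exact h1.trans hrank

theorem actC_u_move {u : G} (hu : u * u * (u * u) = 1) {χ : G → k}
    (hne : actC (u * u) χ ≠ χ) : actC u χ ≠ χ ∧ actC u χ ≠ actC (u * u) χ ∧
      actC (u * u) (actC u χ) ≠ actC u χ := by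
  have h3 : ∀ φ φ' : G → k, actC u φ = actC u φ' → φ = φ' := fun φ φ' h => by
    have := congrArg (actC u⁻¹) h
    rwa [← actC_mul, ← actC_mul, inv_mul_cancel, actC_one, actC_one] at this
  refine ⟨fun h => hne ?_, fun h => hne ?_, fun h => hne (h3 _ _ ?_)⟩
  · rw [actC_mul, h, h]
  · have h' : actC u χ = χ := by
      rw [actC_mul] at h
      exact (h3 _ _ h).symm
    rw [actC_mul, h', h']
  · rw [← actC_mul, show u * (u * u) = u * u * u from (mul_assoc _ _ _).symm, actC_mul]
    exact h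

/-- The square of `u` fixes the characters of multiplicity at least two. -/
theorem actC_sq_eq (ρ : G →* Module.End k V) (A : Subgroup G) {u : G}
    (huA : u ∈ normalizer (A : Set G)) (hu : u * u * (u * u) = 1)
    (hrank : finrank k (LinearMap.range (ρ (u * u) - 1)) ≤ 2) (χ : G → k)
    (hχ : ∀ x, x ∉ A → χ x = 0) (hdim : 2 ≤ finrank k ↥(eigW ρ A χ)) :
    actC (u * u) χ = χ := by
  by_contra hne
  obtain ⟨h1, h2, h3⟩ := actC_u_move hu hne
  have h := move_bound ρ A hu (mul_mem huA huA) hrank ![χ, actC u χ] (by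
    intro l; fin_cases l
    · exact hχ
    · exact actC_supp huA hχ) (by
    intro l; fin_cases l
    · exact hne
    · exact h3) (by
    intro l l' hll
    fin_cases l <;> fin_cases l'
    · exact absurd rfl hll
    · exact ⟨h1, h2⟩
    · refine ⟨h1.symm, fun h => h2 ?_⟩
      have := congrArg (actC (u * u)) h
      rw [← actC_mul (u * u) (u * u), hu, actC_one] at this
      exact this.symm
    · exact absurd rfl hll)
  rw [Fin.sum_univ_two] at h
  have h' : finrank k ↥(eigW ρ A χ) + finrank k ↥(eigW ρ A (actC u χ)) ≤ 2 := h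
  have h4 : finrank k ↥(eigW ρ A χ) ≤ finrank k ↥(eigW ρ A (actC u χ)) := by
    refine LinearMap.finrank_le_finrank_of_injective
      (f := (ρ u).restrict fun w hw => actC_mem ρ huA hw) fun x y hxy => ?_
    refine Subtype.ext ?_
    have := congrArg (fun v : ↥(eigW ρ A (actC u χ)) => ρ u⁻¹ (v : V)) hxy
    simpa [← Module.End.mul_apply, ← map_mul] using this
  omega

end Linear

section Plane

variable {q : ℕ} [hq : Fact q.Prime] {M : Type*} [AddCommGroup M] [Module (ZMod q) M]
  [FiniteDimensional (ZMod q) M]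

theorem no_sqrt_neg_one (h3 : q % 4 = 3) (c : ZMod q) : c * c ≠ -1 := fun h =>
  (ZMod.exists_sq_eq_neg_one_iff.mp ⟨c, h.symm⟩) h3

theorem sq_apply_range (U : Module.End (ZMod q) M) (hU : U * U * (U * U) = 1) {p : M}
    (hp : p ∈ LinearMap.range (U * U - 1)) : U (U p) = -p := by
  obtain ⟨v, rfl⟩ := hp
  have h := LinearMap.congr_fun hU v
  simp only [Module.End.mul_apply, Module.End.one_apply] at h
  simp [h]

theorem indep_of_sq (h3 : q % 4 = 3) (U : Module.End (ZMod q) M) {p : M} (hp0 : p ≠ 0)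
    (hp : U (U p) = -p) : LinearIndependent (ZMod q) ![p, U p] := by
  refine LinearIndependent.pair_iff.mpr fun α β h => ?_
  have h2 := congrArg U h
  rw [map_add, map_smul, map_smul, hp, map_zero, smul_neg] at h2
  have h4 : (α * α + β * β) • p = 0 := by
    have e : α • (α • p + β • U p) - β • (α • U p + -(β • p)) = 0 := by
      rw [h, h2, smul_zero, smul_zero, sub_zero]
    rw [← e]
    simp only [smul_add, smul_neg, smul_smul, add_smul, mul_comm β α]
    abel
  have h5 : α * α + β * β = 0 := (smul_eq_zero.mp h4).resolve_right hp0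
  by_cases hβ : β = 0
  · subst hβ
    simp only [mul_zero, add_zero, mul_self_eq_zero] at h5
    exact ⟨h5, rfl⟩
  · refine absurd ?_ (no_sqrt_neg_one h3 (α * β⁻¹))
    field_simp
    linear_combination h5

theorem finrank_range_eq_two (h3 : q % 4 = 3) (U : Module.End (ZMod q) M)
    (hU : U * U * (U * U) = 1) (hne : U * U ≠ 1)
    (hrank : finrank (ZMod q) (LinearMap.range (U * U - 1)) ≤ 2) :
    ∃ p ∈ LinearMap.range (U * U - 1), p ≠ 0 ∧
      LinearMap.range (U * U - 1) ≤ Submodule.span (ZMod q) {p, U p} := by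
  obtain ⟨v, hv⟩ : ∃ v, (U * U - 1) v ≠ 0 := by
    by_contra hall
    push Not at hall
    exact hne (sub_eq_zero.mp (LinearMap.ext hall))
  set p := (U * U - 1) v
  have hpP : p ∈ LinearMap.range (U * U - 1) := ⟨v, rfl⟩
  have hUp : U p ∈ LinearMap.range (U * U - 1) := ⟨U v, by
    simp [p, Module.End.mul_apply, map_sub]⟩
  refine ⟨p, hpP, hv, le_of_eq (Submodule.eq_of_le_of_finrank_le ?_ ?_).symm⟩
  · rw [Submodule.span_le]
    rintro x (rfl | rfl) <;> assumption
  · have h := finrank_span_eq_card (indep_of_sq h3 U hv (sq_apply_range U hU hpP))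
    rw [Matrix.range_cons_cons_empty] at h
    simp only [Fintype.card_fin] at h
    omega

/-- An element of odd order commuting with `U` is a scalar on the plane moved by the square of `U`. -/
theorem scalar_on_plane (h3 : q % 4 = 3) {f : ℕ} (hf : q + 1 = 2 ^ f) (U C : Module.End (ZMod q) M)
    (hU : U * U * (U * U) = 1) (hrank : finrank (ZMod q) (LinearMap.range (U * U - 1)) ≤ 2)
    (hC : Commute C U) {N : ℕ} (hN : Odd N) (hCN : C ^ N = 1) :
    ∃ γ : ZMod q, C * (U * U - 1) = γ • (U * U - 1) ∧ γ ^ N = 1 := by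
  classical
  by_cases hne : U * U = 1
  · exact ⟨1, by rw [hne, sub_self, mul_zero, smul_zero], one_pow N⟩
  obtain ⟨p, hpP, hp0, hspan⟩ := finrank_range_eq_two h3 U hU hne hrank
  set P := LinearMap.range (U * U - 1)
  have hpre : ∀ X : Module.End (ZMod q) M, Commute X U → ∀ x ∈ P, X x ∈ P := by
    rintro X hX _ ⟨v, rfl⟩
    exact ⟨X v, LinearMap.congr_fun
      (((hX.mul_right hX).sub_right (Commute.one_right X)).eq).symm v⟩
  have hext : ∀ X : Module.End (ZMod q) M, Commute X U → X p = 0 → ∀ x ∈ P, X x = 0 := by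
    intro X hX hXp x hx
    obtain ⟨α, β, rfl⟩ := Submodule.mem_span_pair.mp (hspan hx)
    rw [map_add, map_smul, map_smul, ← Module.End.mul_apply X U, hX.eq, Module.End.mul_apply,
      hXp, map_zero, smul_zero, smul_zero, add_zero]
  obtain ⟨α, β, hαβ⟩ := Submodule.mem_span_pair.mp (hspan (hpre C hC p hpP))
  set CP : Module.End (ZMod q) P := C.restrict (hpre C hC) with hCP
  set UP : Module.End (ZMod q) P := U.restrict (hpre U (Commute.refl U)) with hUP
  have hUP2 : UP * UP = -1 := LinearMap.ext fun x => Subtype.ext (by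
    simpa [hUP] using sq_apply_range U hU x.2)
  have hform : CP = α • (1 : Module.End (ZMod q) P) + β • UP := by
    refine LinearMap.ext fun x => Subtype.ext ?_
    have h := hext (C - (α • 1 + β • U)) (hC.sub_left
      (((Commute.one_left U).smul_left α).add_left ((Commute.refl U).smul_left β)))
      (by simp [hαβ]) x x.2
    simpa [hCP, hUP, sub_eq_zero] using h
  have hCPN : ∀ n x, (((CP ^ n) x : P) : M) = (C ^ n) (x : M) := by
    intro n
    induction n with
    | zero => intro x; rfl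
    | succ n ih =>
      intro x
      rw [pow_succ', pow_succ', Module.End.mul_apply, Module.End.mul_apply, ← ih]
      rfl
  have hCP1 : CP ^ N = 1 := LinearMap.ext fun x => Subtype.ext (by
    rw [hCPN, hCN]; rfl)
  haveI : Nontrivial P := nontrivial_of_ne ⟨p, hpP⟩ 0 fun h => hp0 (congrArg Subtype.val h)
  haveI : CharP (Module.End (ZMod q) P) q :=
    charP_of_injective_algebraMap (algebraMap (ZMod q) _).injective q
  have hUPq : UP ^ q = -UP := by
    have h4 : q = 2 * (q / 2) + 1 := by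
      rcases hq.out.eq_two_or_odd with h | h <;> omega
    have hodd : Odd (q / 2) := ⟨q / 4, by omega⟩
    calc UP ^ q = UP ^ (2 * (q / 2) + 1) := congrArg (UP ^ ·) h4
      _ = -UP := by rw [pow_succ, pow_mul, pow_two, hUP2, hodd.neg_one_pow, neg_one_mul]
  have hq1 : CP ^ q = α • (1 : Module.End (ZMod q) P) - β • UP := by
    rw [hform, add_pow_char_of_commute q ((Commute.one_left (β • UP)).smul_left α),
      smul_pow, smul_pow, one_pow, hUPq, ZMod.pow_card, ZMod.pow_card, smul_neg, ← sub_eq_add_neg]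
  have hnorm : CP ^ (q + 1) = (α * α + β * β) • (1 : Module.End (ZMod q) P) := by
    rw [pow_succ, hq1, hform]
    simp only [sub_mul, mul_add, smul_mul_assoc, mul_smul_comm, one_mul, mul_one, hUP2, smul_smul,
      smul_neg, add_smul]
    module
  set δ := α * α + β * β
  have hδ : δ ≠ 0 := by
    intro h0
    rw [h0, zero_smul] at hnorm
    have h : (CP ^ N) ^ (q + 1) = 0 := by
      rw [← pow_mul, mul_comm, pow_mul, hnorm, zero_pow (by rcases hN with ⟨m, rfl⟩; omega)]
    rw [hCP1, one_pow] at h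
    exact one_ne_zero h
  have hbig : CP ^ ((q + 1) * (q - 1)) = 1 := by
    rw [pow_mul, hnorm, smul_pow, one_pow, ZMod.pow_card_sub_one_eq_one hδ, one_smul]
  have hq1' : CP ^ (q - 1) = 1 := by
    have hg : orderOf CP ∣ (q + 1) * (q - 1) := orderOf_dvd_of_pow_eq_one hbig
    have hNd : orderOf CP ∣ N := orderOf_dvd_of_pow_eq_one hCP1
    refine orderOf_dvd_iff_pow_eq_one.mp (Nat.Coprime.dvd_of_dvd_mul_left ?_ hg)
    rw [hf]
    exact ((Nat.coprime_two_right.mpr hN).pow_right f).coprime_dvd_left hNd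
  have hCPq : CP ^ q = CP := by
    calc CP ^ q = CP ^ (q - 1 + 1) := congrArg (CP ^ ·) (by have := hq.out.two_le; omega)
      _ = CP := by rw [pow_succ, hq1', one_mul]
  have hβ : β = 0 := by
    rw [hq1, hform] at hCPq
    have h := congrArg (fun X : Module.End (ZMod q) P => ((X ⟨p, hpP⟩ : P) : M)) hCPq
    simp [hUP] at h
    have h2 : (2 * β) • U p = 0 := by
      rw [two_mul, add_smul]
      linear_combination (norm := module) -h
    have hUp : U p ≠ 0 := fun h0 => hp0 (by
      have := sq_apply_range U hU hpP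
      rwa [h0, map_zero, eq_comm, neg_eq_zero] at this)
    have h5 := (smul_eq_zero.mp h2).resolve_right hUp
    refine (mul_eq_zero.mp h5).resolve_left ?_
    intro h6
    have : ((2 : ℕ) : ZMod q) = 0 := by exact_mod_cast h6
    rw [CharP.cast_eq_zero_iff (ZMod q) q] at this
    have := Nat.le_of_dvd two_pos this
    have := hq.out.two_le
    omega
  subst hβ
  rw [zero_smul, add_zero] at hform
  refine ⟨α, LinearMap.ext fun v => ?_, ?_⟩
  · have h := congrArg (fun X : Module.End (ZMod q) P =>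
      ((X ⟨(U * U - 1) v, LinearMap.mem_range_self _ v⟩ : P) : M)) hform
    simpa [hCP] using h
  · rw [hform, smul_pow, one_pow] at hCP1
    exact smul_left_injective (ZMod q) (one_ne_zero (α := Module.End (ZMod q) P))
      (hCP1.trans (one_smul _ _).symm)

/-- The commutator of an inverted element with its conjugate is quadratic. -/
theorem quadratic_of_plane (h3 : q % 4 = 3) {f : ℕ} (hf : q + 1 = 2 ^ f)
    {G : Type*} [Group G] (φ : G →* Module.End (ZMod q) M) (u a : G)
    (hu : u * u * (u * u) = 1)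
    (hrank : finrank (ZMod q) (LinearMap.range (φ (u * u) - 1)) ≤ 2)
    (ha : u * u * a * (u * u)⁻¹ = a⁻¹) (hao : Odd (orderOf a))
    (hco : Odd (orderOf ⁅a, u * a * u⁻¹⁆))
    (hcu : Commute (φ ⁅a, u * a * u⁻¹⁆) (φ u)) (hca : Commute (φ ⁅a, u * a * u⁻¹⁆) (φ a))
    (hscal : φ (u * u) - 1 ≠ 0 → ∀ γ : ZMod q,
      φ ⁅a, u * a * u⁻¹⁆ * (φ (u * u) - 1) = γ • (φ (u * u) - 1) → γ ^ 2 = 1) :
    (φ ⁅a, u * a * u⁻¹⁆ - 1) * (φ ⁅a, u * a * u⁻¹⁆ - 1) = 0 := by
  set b := u * a * u⁻¹
  set c := ⁅a, b⁆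
  set C := φ c
  have hUU : φ u * φ u * (φ u * φ u) = 1 := by simp only [← map_mul, hu, map_one]
  have hrank' : finrank (ZMod q) (LinearMap.range (φ u * φ u - 1)) ≤ 2 := by rwa [← map_mul]
  have hCN : C ^ orderOf c = 1 := by rw [← map_pow, pow_orderOf_eq_one, map_one]
  obtain ⟨γ, hγ, hγN⟩ := scalar_on_plane h3 hf (φ u) C hUU hrank' hcu hco hCN
  rw [← map_mul] at hγ
  set T := φ (u * u) - 1 with hT
  have hCT : (C - 1) * T = 0 := by
    by_cases hT0 : T = 0
    · rw [hT0, mul_zero]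
    have h2 := hscal hT0 γ hγ
    have hγ1 : γ = 1 := by
      obtain ⟨m, hm⟩ := hco
      rwa [hm, pow_succ, pow_mul, h2, one_pow, one_mul] at hγN
    rw [sub_mul, hγ, hγ1, one_smul, one_mul, sub_self]
  have hzz : (u * u)⁻¹ = u * u := inv_eq_of_mul_eq_one_right hu
  have hinvA : ∀ x y : G, x * y = 1 → φ x * φ y = 1 := fun x y h => by rw [← map_mul, h, map_one]
  have hkill : (C - 1) * (φ a - 1) = 0 := by
    have e1 : a * a = a * (u * u) * a⁻¹ * (u * u) := by
      rw [show a⁻¹ = (u * u) * a * (u * u) by rw [← ha, hzz]]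
      calc a * a = a * ((u * u) * (u * u)) * a * ((u * u) * (u * u)) := by
            rw [hu, mul_one, mul_one]
        _ = _ := by group
    have hCA : Commute (C - 1) (φ a) := hca.sub_left (Commute.one_left _)
    have e2 : (C - 1) * (φ (a * a) - 1) = 0 := by
      have e3 : φ (a * a) - 1 = φ a * T * φ a⁻¹ * φ (u * u) + T := by
        rw [e1, hT, map_mul, map_mul, map_mul, mul_sub, sub_mul, sub_mul, mul_one,
          hinvA a a⁻¹ (mul_inv_cancel a), one_mul]
        abel
      rw [e3, mul_add, hCT, add_zero, ← mul_assoc, ← mul_assoc, ← mul_assoc, hCA.eq,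
        mul_assoc (φ a) (C - 1) T, hCT, mul_zero, zero_mul, zero_mul]
    obtain ⟨m, hm⟩ := hao
    have hpow : ∀ n : ℕ, (C - 1) * (φ (a * a) ^ n - 1) = 0 := by
      intro n
      induction n with
      | zero => simp
      | succ n ih =>
        rw [pow_succ, show φ (a * a) ^ n * φ (a * a) - 1 =
          (φ (a * a) ^ n - 1) * φ (a * a) + (φ (a * a) - 1) by rw [sub_mul, one_mul]; abel,
          mul_add, e2, ← mul_assoc, ih, zero_mul, add_zero]
    have h := hpow (m + 1)
    rwa [← map_pow, ← pow_two, ← pow_mul, show 2 * (m + 1) = (2 * m + 1) + 1 by ring, pow_succ,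
      ← hm, pow_orderOf_eq_one, one_mul] at h
  have hkillb : (C - 1) * (φ b - 1) = 0 := by
    have hCU : Commute (C - 1) (φ u) := hcu.sub_left (Commute.one_left _)
    have e : φ b - 1 = φ u * (φ a - 1) * φ u⁻¹ := by
      rw [mul_sub, sub_mul, mul_one, hinvA u u⁻¹ (mul_inv_cancel u)]
      simp only [b, map_mul]
    rw [e, ← mul_assoc, ← mul_assoc, hCU.eq, mul_assoc (φ u), hkill, mul_zero, zero_mul]
  have hcd : C - 1 = ((φ a - 1) * (φ b - 1) - (φ b - 1) * (φ a - 1)) * (φ a⁻¹ * φ b⁻¹) := by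
    rw [show (φ a - 1) * (φ b - 1) - (φ b - 1) * (φ a - 1) = φ (a * b) - φ (b * a) by
      simp only [map_mul, sub_mul, mul_sub, one_mul, mul_one]; abel,
      sub_mul, ← map_mul, ← map_mul, ← map_mul,
      show a * b * (a⁻¹ * b⁻¹) = c by simp only [c, commutatorElement_def]; group,
      show b * a * (a⁻¹ * b⁻¹) = 1 by group, map_one]
  conv_lhs => arg 2; rw [hcd]
  rw [← mul_assoc, mul_sub, ← mul_assoc (C - 1) (φ a - 1), hkill, ← mul_assoc (C - 1) (φ b - 1),
    hkillb, zero_mul, zero_mul, sub_zero, zero_mul]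

end Plane

end Cfsg.Agent.HallHigman
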