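import Cfsg.Agent.Lib.HallHigman.Abelian

/-!
# Groups inducing scalars by commutators span a full matrix algebra
-/

set_option autoImplicit false
set_option linter.unusedSectionVars false

namespace Cfsg.Agent.HallHigman

open Module

variable {k : Type*} [Field k] [IsAlgClosed k] {p : ℕ} [hp : Fact p.Prime] [hk : CharP k p]
variable {G : Type*} [Group G] [Finite G]
variable {V : Type*} [AddCommGroup V] [Module k V] [FiniteDimensional k V]
variable (ρ : G →* Module.End k V) (S R : Subgroup G)

/-- The coset representatives acting on `V`. -/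
noncomputable def beta (u : ↥S ⧸ R.subgroupOf S) : Module.End k V := ρ (u.out : G)

/-- The subalgebra spanned by the image of `S`. -/
noncomputable def spanAlg : Subalgebra k (Module.End k V) :=
  Submodule.toSubalgebra (Submodule.span k (Set.range fun s : S => ρ (s : G)))
    (Submodule.subset_span ⟨1, map_one ρ⟩)
    (by
      intro x y hx hy
      induction hx using Submodule.span_induction with
      | mem x hx =>
        induction hy using Submodule.span_induction with
        | mem y hy =>
          obtain ⟨s, rfl⟩ := hx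
          obtain ⟨t, rfl⟩ := hy
          exact Submodule.subset_span ⟨s * t, map_mul ρ _ _⟩
        | zero => rw [mul_zero]; exact zero_mem _
        | add a b _ _ ha hb => rw [mul_add]; exact add_mem ha hb
        | smul c a _ ha => rw [mul_smul_comm]; exact Submodule.smul_mem _ c ha
      | zero => rw [zero_mul]; exact zero_mem _
      | add a b _ _ ha hb => rw [add_mul]; exact add_mem ha hb
      | smul c a _ ha => rw [smul_mul_assoc]; exact Submodule.smul_mem _ c ha)

theorem rho_mem_spanAlg {s : G} (hs : s ∈ S) : ρ s ∈ spanAlg ρ S :=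
  Submodule.subset_span ⟨⟨s, hs⟩, rfl⟩

theorem rho_eq_smul_beta (hR : ∀ r ∈ R, ∃ c : k, ρ r = c • 1) (s : S) :
    ∃ c : k, ρ (s : G) = c • beta ρ S R (QuotientGroup.mk s) := by
  set t : S := (QuotientGroup.mk s : ↥S ⧸ R.subgroupOf S).out
  have ht : t⁻¹ * s ∈ R.subgroupOf S := QuotientGroup.eq.mp (QuotientGroup.out_eq' _)
  obtain ⟨c, hc⟩ := hR _ (Subgroup.mem_subgroupOf.mp ht)
  refine ⟨c, ?_⟩
  show _ = c • ρ (t : G)
  rw [show (s : G) = (t : G) * ((t⁻¹ * s : S) : G) by simp, map_mul, hc, mul_smul_comm, mul_one]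

theorem spanAlg_le_span_beta (hR : ∀ r ∈ R, ∃ c : k, ρ r = c • 1) {x : Module.End k V}
    (hx : x ∈ spanAlg ρ S) : x ∈ Submodule.span k (Set.range (beta ρ S R)) := by
  change x ∈ Submodule.span k _ at hx
  refine Submodule.span_le.mpr ?_ hx
  rintro _ ⟨s, rfl⟩
  obtain ⟨c, hc⟩ := rho_eq_smul_beta ρ S R hR s
  show ρ (s : G) ∈ _
  rw [hc]
  exact Submodule.smul_mem _ c (Submodule.subset_span ⟨_, rfl⟩)

/-- The representatives stay independent on every nonzero invariant subspace. -/
theorem beta_indep (hscal : ∀ s ∈ S, ∀ t ∈ S, ∃ c : k, ρ (s * t * s⁻¹ * t⁻¹) = c • 1)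
    (hrad : ∀ a ∈ S, (∀ s ∈ S, Commute (ρ s) (ρ a)) → a ∈ R)
    (U : Submodule k V) (hU : U ≠ ⊥) (hinv : ∀ s ∈ S, ∀ v ∈ U, ρ s v ∈ U)
    (g : ↥S ⧸ R.subgroupOf S → k) [Fintype (↥S ⧸ R.subgroupOf S)]
    (h0 : ∀ v ∈ U, (∑ u, g u • beta ρ S R u) v = 0) : g = 0 := by
  classical
  obtain ⟨v0, hv0, hv0ne⟩ := Submodule.exists_mem_ne_zero_of_ne_bot hU
  choose ω hω using fun (s : S) (a : S) => hscal s s.2 a a.2
  have hω' : ∀ s a : S, ρ ((s : G) * a * (s : G)⁻¹) = ω s a • ρ (a : G) := fun s a => by
    have h := congrArg (· * ρ (a : G)) (hω s a)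
    simp only [← map_mul, smul_mul_assoc, one_mul, inv_mul_cancel_right] at h
    exact h
  have hω0 : ∀ s a : S, ω s a ≠ 0 := fun s a h => by
    have h1 := hω' s a
    rw [h, zero_smul] at h1
    exact rho_ne_zero ρ _ hv0ne (LinearMap.congr_fun h1 v0)
  have hinj : Function.Injective fun (u : ↥S ⧸ R.subgroupOf S) (s : S) => ω s u.out := by
    intro u v huv
    rw [← QuotientGroup.out_eq' u, ← QuotientGroup.out_eq' v]
    refine (QuotientGroup.eq.mpr (Subgroup.mem_subgroupOf.mpr (hrad _ ?_ ?_))).symm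
    · exact ((v.out : S)⁻¹ * u.out).2
    · intro s hs
      set s' : S := ⟨s, hs⟩
      set a : S := u.out
      set b : S := v.out
      have hab : ω s' a = ω s' b := congrFun huv s'
      have e1 : ρ ((s : G) * ((b⁻¹ * a : S) : G) * s⁻¹) = ρ ((b⁻¹ * a : S) : G) := by
        have e2 : ρ ((s : G) * b * s⁻¹) * ρ ((s : G) * ((b⁻¹ * a : S) : G) * s⁻¹) =
            ρ ((s : G) * b * s⁻¹) * ρ ((b⁻¹ * a : S) : G) := by
          rw [← map_mul, show (s : G) * b * s⁻¹ * ((s : G) * ((b⁻¹ * a : S) : G) * s⁻¹) =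
            s * a * s⁻¹ by simp [mul_assoc], hω' s' b, smul_mul_assoc, ← map_mul,
            show (b : G) * ((b⁻¹ * a : S) : G) = a by simp, ← hab]
          exact hω' s' a
        have e3 := congrArg (fun z => ρ ((s : G) * b * s⁻¹)⁻¹ * z) e2
        simpa only [← map_mul, inv_mul_cancel_left] using e3
      show ρ s * ρ _ = ρ _ * ρ s
      have e4 := congrArg (· * ρ s) e1
      simp only [← map_mul, inv_mul_cancel_right] at e4
      rw [map_mul, map_mul] at e4
      exact e4
  let rU : S → (U →ₗ[k] U) := fun s => (ρ (s : G)).restrict (hinv _ s.2)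
  let Tl : S → (U →ₗ[k] V) →ₗ[k] (U →ₗ[k] V) := fun s =>
    (LinearMap.lcomp k V (rU s⁻¹)).comp (LinearMap.compRight k (ρ (s : G)))
  let vec : (↥S ⧸ R.subgroupOf S) → (U →ₗ[k] V) :=
    fun u => (g u • beta ρ S R u).comp U.subtype
  have hvec : ∀ u s, Tl s (vec u) = ω s u.out • vec u := by
    intro u s
    refine LinearMap.ext fun w => ?_
    show ρ (s : G) (g u • ρ (u.out : G) (ρ ((s⁻¹ : S) : G) (w : V))) =
      ω s u.out • g u • ρ (u.out : G) (w : V)
    rw [map_smul, ← Module.End.mul_apply, ← Module.End.mul_apply, ← map_mul, ← map_mul,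
      Subgroup.coe_inv, hω' s u.out, LinearMap.smul_apply, smul_comm]
  have h1 := eq_zero_of_sum_eigen Tl (fun u s => ω s u.out) hinj vec hvec Finset.univ (by
    refine LinearMap.ext fun w => ?_
    rw [LinearMap.sum_apply]
    simpa [vec, LinearMap.sum_apply] using h0 w w.2)
  funext u
  have h2 := LinearMap.congr_fun (h1 u (Finset.mem_univ _)) ⟨v0, hv0⟩
  change g u • ρ (u.out : G) v0 = 0 at h2
  exact (smul_eq_zero.mp h2).resolve_right (rho_ne_zero ρ _ hv0ne)

/-- On a minimal invariant subspace the image of `S` spans all endomorphisms. -/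
theorem exists_irreducible_span (hR : ∀ r ∈ R, ∃ c : k, ρ r = c • 1)
    (U : Submodule k V) (hU : U ≠ ⊥) (hinv : ∀ s ∈ S, ∀ v ∈ U, ρ s v ∈ U)
    (hcard : (Nat.card (↥S ⧸ R.subgroupOf S) : k) ≠ 0) (hRn : (R.subgroupOf S).Normal) :
    ∃ M : Submodule k V, M ≤ U ∧ M ≠ ⊥ ∧ ∃ hM : ∀ s ∈ S, ∀ v ∈ M, ρ s v ∈ M,
      (∀ f : Module.End k M, (∀ (s : G) (hs : s ∈ S), Commute f ((ρ s).restrict (hM s hs))) →
        ∃ c : k, f = c • 1) ∧
      Submodule.span k (Set.range fun s : S => (ρ (s : G)).restrict (hM s s.2)) = ⊤ := by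
  classical
  haveI := hRn
  haveI : Fintype (↥S ⧸ R.subgroupOf S) := Fintype.ofFinite _
  have hex : ∃ d, ∃ M : Submodule k V, M ≤ U ∧ M ≠ ⊥ ∧ (∀ s ∈ S, ∀ v ∈ M, ρ s v ∈ M) ∧
      finrank k M = d := ⟨_, U, le_rfl, hU, hinv, rfl⟩
  obtain ⟨M, hle, hne, hM, hd⟩ := Nat.find_spec hex
  haveI : Nontrivial M := (Submodule.nontrivial_iff_ne_bot).mpr hne
  refine ⟨M, hle, hne, hM, ?_⟩
  have schur : ∀ f : Module.End k M,
      (∀ (s : G) (hs : s ∈ S), Commute f ((ρ s).restrict (hM s hs))) → ∃ c : k, f = c • 1 := by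
    intro f hf
    obtain ⟨c, hc⟩ := Module.End.exists_eigenvalue f
    refine ⟨c, LinearMap.ext fun v => ?_⟩
    let E : Submodule k V := (f.eigenspace c).map M.subtype
    have hEle : E ≤ M := Submodule.map_subtype_le _ _
    have hE : E ≠ ⊥ := fun h => hc (Submodule.map_injective_of_injective M.subtype_injective
      (h.trans (Submodule.map_bot _).symm))
    have hEinv : ∀ s ∈ S, ∀ w ∈ E, ρ s w ∈ E := by
      rintro s hs _ ⟨w, hw, rfl⟩
      refine ⟨(ρ s).restrict (hM s hs) w, ?_, rfl⟩
      rw [SetLike.mem_coe, Module.End.mem_eigenspace_iff] at hw ⊢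
      rw [← Module.End.mul_apply, (hf s hs).eq, Module.End.mul_apply, hw, map_smul]
    have hmin := Nat.find_min' hex (m := finrank k E) ⟨E, hEle.trans hle, hE, hEinv, rfl⟩
    have heq : E = M := Submodule.eq_of_le_of_finrank_le hEle (by omega)
    have hv : (v : V) ∈ E := heq.ge v.2
    obtain ⟨w, hw, hwv⟩ := hv
    rw [show v = w from Subtype.ext hwv.symm]
    rw [SetLike.mem_coe, Module.End.mem_eigenspace_iff] at hw
    simp [hw]
  refine ⟨schur, ?_⟩
  set B := Submodule.span k (Set.range fun s : S => (ρ (s : G)).restrict (hM s s.2))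
  let bb : ↥S ⧸ R.subgroupOf S → Module.End k M := fun u =>
    (ρ (u.out : G)).restrict (hM _ (u.out : S).2)
  let bi : ↥S ⧸ R.subgroupOf S → Module.End k M := fun u =>
    (ρ ((u.out⁻¹ : S) : G)).restrict (hM _ (u.out⁻¹ : S).2)
  have hib : ∀ u, bi u * bb u = 1 := fun u => LinearMap.ext fun v => Subtype.ext (by
    show ρ ((u.out⁻¹ : S) : G) (ρ (u.out : G) (v : V)) = (v : V)
    rw [← Module.End.mul_apply, ← map_mul, Subgroup.coe_inv, inv_mul_cancel, map_one]
    rfl)
  have hav : ∀ f : Module.End k M, ∃ c : k, ∑ u, bb u * f * bi u = c • 1 := by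
    intro f
    refine schur _ fun s hs => ?_
    set s' : S := ⟨s, hs⟩
    have hterm : ∀ u, (ρ s).restrict (hM s hs) * (bb u * f * bi u) =
        (bb (QuotientGroup.mk s' * u) * f * bi (QuotientGroup.mk s' * u)) *
          (ρ s).restrict (hM s hs) := by
      intro u
      set u' : ↥S ⧸ R.subgroupOf S := QuotientGroup.mk s' * u
      have hmem : (u'.out : S)⁻¹ * (s' * u.out) ∈ R.subgroupOf S := QuotientGroup.eq.mp (by
        rw [QuotientGroup.out_eq', QuotientGroup.mk_mul, QuotientGroup.out_eq'])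
      obtain ⟨c, hc⟩ := hR _ (Subgroup.mem_subgroupOf.mp hmem)
      refine LinearMap.ext fun v => Subtype.ext ?_
      show ρ s (ρ (u.out : G) (f (bi u v) : V)) =
        ρ (u'.out : G) (f (bi u' ((ρ s).restrict (hM s hs) v)) : V)
      have h1 : bi u' ((ρ s).restrict (hM s hs) v) = c • bi u v := by
        refine Subtype.ext ?_
        show ρ ((u'.out⁻¹ : S) : G) (ρ s (v : V)) = c • ρ ((u.out⁻¹ : S) : G) (v : V)
        rw [← Module.End.mul_apply, ← map_mul,
          show ((u'.out⁻¹ : S) : G) * s =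
            ((u'.out⁻¹ * (s' * u.out) : S) : G) * ((u.out⁻¹ : S) : G) by simp [s', mul_assoc],
          map_mul, hc, smul_mul_assoc, one_mul, LinearMap.smul_apply]
      rw [h1, map_smul, Submodule.coe_smul, map_smul, ← Module.End.mul_apply, ← map_mul,
        show s * (u.out : G) = (u'.out : G) * ((u'.out⁻¹ * (s' * u.out) : S) : G) by
          simp [s', mul_assoc],
        map_mul, hc, mul_smul_comm, mul_one, LinearMap.smul_apply]
    show _ * _ = _ * _
    rw [Finset.mul_sum, Finset.sum_congr rfl fun u _ => hterm u, ← Finset.sum_mul]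
    exact congrArg (· * _) (Equiv.sum_comp (Equiv.mulLeft (QuotientGroup.mk s'))
      (fun w => bb w * f * bi w)).symm
  choose avc havc using hav
  -- all rank one maps
  have hrank : ∀ (φ : Module.Dual k M) (v : M), φ.smulRight v ∈ B := by
    intro φ v
    by_cases hv : v = 0
    · rw [hv, LinearMap.smulRight_zero]; exact zero_mem _
    have htr : ∀ a : M, avc (φ.smulRight a) * (finrank k M : k) =
        (Fintype.card (↥S ⧸ R.subgroupOf S) : k) * φ a := by
      intro a
      have h := congrArg (LinearMap.trace k M) (havc (φ.smulRight a))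
      rw [map_sum, map_smul, LinearMap.trace_one, smul_eq_mul] at h
      rw [← h, Finset.sum_congr rfl fun u _ => (by
          rw [LinearMap.trace_mul_comm, ← mul_assoc, hib, one_mul, LinearMap.trace_smulRight] :
          LinearMap.trace k M (bb u * φ.smulRight a * bi u) = φ a),
        Finset.sum_const, Finset.card_univ, nsmul_eq_mul]
    rw [Nat.card_eq_fintype_card] at hcard
    obtain ⟨φ0, hφ0⟩ := Module.Projective.exists_dual_eq_one k hv
    have hd0 : (finrank k M : k) ≠ 0 := by
      intro h0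
      have h1 : avc (φ0.smulRight v) * (finrank k M : k) =
          (Fintype.card (↥S ⧸ R.subgroupOf S) : k) * φ0 v := by
        have h := congrArg (LinearMap.trace k M) (havc (φ0.smulRight v))
        rw [map_sum, map_smul, LinearMap.trace_one, smul_eq_mul] at h
        rw [← h, Finset.sum_congr rfl fun u _ => (by
            rw [LinearMap.trace_mul_comm, ← mul_assoc, hib, one_mul, LinearMap.trace_smulRight] :
            LinearMap.trace k M (bb u * φ0.smulRight v * bi u) = φ0 v),
          Finset.sum_const, Finset.card_univ, nsmul_eq_mul]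
      rw [h0, mul_zero, hφ0, mul_one] at h1
      exact hcard h1.symm
    have key : (φ.smulRight v) = ((finrank k M : k) * (Fintype.card (↥S ⧸ R.subgroupOf S) : k)⁻¹) •
        ∑ u, φ (bi u v) • bb u := by
      refine LinearMap.ext fun a => ?_
      have h := LinearMap.congr_fun (havc (φ.smulRight a)) v
      simp only [LinearMap.sum_apply, Module.End.mul_apply, LinearMap.smulRight_apply, map_smul,
        LinearMap.smul_apply, Module.End.one_apply] at h
      simp only [LinearMap.smulRight_apply, LinearMap.smul_apply, LinearMap.sum_apply]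
      rw [h, smul_smul]
      congr 1
      have := htr a
      field_simp
      linear_combination -this
    rw [key]
    exact Submodule.smul_mem _ _ (Submodule.sum_mem _ fun u _ =>
      Submodule.smul_mem _ _ (Submodule.subset_span ⟨u.out, rfl⟩))
  refine eq_top_iff.mpr fun f _ => ?_
  let bM := Module.finBasis k M
  have : f = ∑ i, (bM.coord i).smulRight (f (bM i)) := LinearMap.ext fun a => by
    rw [LinearMap.sum_apply]
    conv_lhs => rw [← bM.sum_repr a, map_sum]
    simp
  rw [this]
  exact Submodule.sum_mem _ fun i _ => hrank _ _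

end Cfsg.Agent.HallHigman
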