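import Cfsg.Agent.Lib.HallHigman.FrattiniModule

/-!
# A wreath product section from an element of full degree
-/

set_option autoImplicit false
set_option linter.unusedSectionVars false
set_option linter.style.haveILetI false

namespace Cfsg.Agent.HallHigman

open Module Subgroup
open scoped commutatorElement IsMulCommutative

universe u

variable {p : ℕ} [hp : Fact p.Prime] {G : Type u} [Group G] [Finite G]

/-- An element of order `p` modulo `O_p(G)` of full degree gives a `C_p ≀ C_p` quotient of a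
subgroup of `G/Φ(O_p(G))`. -/
theorem exists_wreath_section {x : G} (hxp : x ^ p ∈ pCore p G) (hx : x ∉ pCore p G)
    (hdeg : (coreRep p G x - 1) ^ (p - 1) ≠ 0) :
    ∃ (U : Subgroup ↥(coreModule p G ⊔ zpowers (QuotientGroup.mk' (phiCore p G) x))) (_ : U.Normal)
      (B : Subgroup (↥(coreModule p G ⊔ zpowers (QuotientGroup.mk' (phiCore p G) x)) ⧸ U))
      (t : ↥(coreModule p G ⊔ zpowers (QuotientGroup.mk' (phiCore p G) x)) ⧸ U),
      B.Normal ∧ IsMulCommutative B ∧ (∀ b ∈ B, b ^ p = 1) ∧ Nat.card B = p ^ p ∧ orderOf t = p ∧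
        t ∉ B ∧
        Nat.card (↥(coreModule p G ⊔ zpowers (QuotientGroup.mk' (phiCore p G) x)) ⧸ U) =
          p ^ (p + 1) ∧
        Nat.card ↥(B ⊓ centralizer ({t} : Set _)) = p := by
  classical
  set π := QuotientGroup.mk' (phiCore p G)
  set V := coreModule p G with hV
  set xb := π x with hxb
  set K := V ⊔ zpowers xb with hK
  set R := coreRep p G x with hR
  set T := R - 1 with hT
  haveI : FiniteDimensional (ZMod p) (Additive ↥V) := Module.Finite.of_finite
  have hp1 : 1 < p := hp.out.one_lt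
  -- `x ^ p` lies in the module and is fixed
  have hcV : xb ^ p ∈ V := by rw [hxb, ← map_pow]; exact mem_map_of_mem π hxp
  have hRp : R ^ p = 1 := by
    rw [hR, ← map_pow]
    refine LinearMap.ext fun v => Additive.toMul.injective (Subtype.ext ?_)
    rw [coreRep_apply, Module.End.one_apply, map_pow]
    exact mul_inv_eq_iff_eq_mul.mpr
      (congrArg Subtype.val (mul_comm (⟨_, hcV⟩ : ↥V) v.toMul))
  have hTp : T ^ p = 0 := by
    have := sub_one_pow_eq_pow_sub_one (k := ZMod p) (p := p) R 1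
    rw [pow_one] at this
    rw [hT, this, hRp, sub_self]
  obtain ⟨v, hv⟩ : ∃ v, (T ^ (p - 1)) v ≠ 0 := by
    by_contra hall
    push Not at hall
    exact hdeg (LinearMap.ext hall)
  obtain ⟨ψ, hψ⟩ := Module.Projective.exists_dual_eq_one (ZMod p) hv
  let F : Additive ↥V →ₗ[ZMod p] (Fin p → ZMod p) :=
    LinearMap.pi fun i : Fin p => ψ.comp (T ^ (i : ℕ))
  have hF : ∀ w (i : Fin p), F w i = ψ ((T ^ (i : ℕ)) w) := fun w i => rfl
  have hFT : ∀ w (i : Fin p), F (T w) i = ψ ((T ^ ((i : ℕ) + 1)) w) := fun w i => by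
    rw [hF, pow_succ]; rfl
  have hFsurj : Function.Surjective F := by
    let Gm : (Fin p → ZMod p) →ₗ[ZMod p] (Fin p → ZMod p) :=
      F.comp (∑ j : Fin p, (LinearMap.proj j).smulRight ((T ^ (j : ℕ)) v))
    have hinj : Function.Injective Gm := by
      refine (injective_iff_map_eq_zero Gm).mpr fun c hc => ?_
      by_contra hne
      obtain ⟨j0, hj0⟩ := Function.ne_iff.mp hne
      obtain ⟨j, hj, hmin⟩ := Finset.exists_min_image (Finset.univ.filter fun j => c j ≠ 0)
        (fun j : Fin p => (j : ℕ)) ⟨j0, by simpa using hj0⟩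
      rw [Finset.mem_filter] at hj
      have hlt := j.isLt
      have h1 := congrFun hc ⟨p - 1 - j, by omega⟩
      simp only [Gm, LinearMap.comp_apply, LinearMap.sum_apply, LinearMap.smulRight_apply,
        LinearMap.proj_apply, map_sum, map_smul, Finset.sum_apply, Pi.smul_apply, smul_eq_mul,
        hF, ← Module.End.mul_apply, ← pow_add, Pi.zero_apply] at h1
      rw [Finset.sum_eq_single j] at h1
      · rw [show p - 1 - (j : ℕ) + j = p - 1 by omega, hψ, mul_one] at h1
        exact hj.2 h1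
      · intro i _ hij
        by_cases hci : c i = 0
        · rw [hci, zero_mul]
        · have hle := hmin i (Finset.mem_filter.mpr ⟨Finset.mem_univ _, hci⟩)
          have hne' : (i : ℕ) ≠ j := fun h => hij (Fin.ext h)
          rw [pow_eq_zero_of_le (show p ≤ p - 1 - (j : ℕ) + i by omega) hTp, LinearMap.zero_apply,
            map_zero, mul_zero]
      · exact fun h => absurd (Finset.mem_univ _) h
    intro y
    obtain ⟨c, hc⟩ := LinearMap.injective_iff_surjective.mp hinj y
    exact ⟨_, hc⟩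
  -- the kernel
  let Fm : ↥V →* Multiplicative (Fin p → ZMod p) :=
    { toFun := fun w => Multiplicative.ofAdd (F (Additive.ofMul w))
      map_one' := by simp
      map_mul' := fun a b => by simp [← ofAdd_add, map_add] }
  set U0 : Subgroup (G ⧸ phiCore p G) := Fm.ker.map V.subtype with hU0
  have hU0V : U0 ≤ V := map_subtype_le _
  have hmemU : ∀ w : ↥V, (w : G ⧸ phiCore p G) ∈ U0 ↔ F (Additive.ofMul w) = 0 := fun w => by
    rw [hU0, mem_map]
    constructor
    · rintro ⟨w', hw', e⟩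
      obtain rfl : w' = w := Subtype.ext e
      exact Multiplicative.ofAdd.injective (by simpa [Fm] using hw')
    · exact fun h => ⟨w, by simp [Fm, h], rfl⟩
  have hconjV : ∀ w : ↥V, xb * (w : G ⧸ phiCore p G) * xb⁻¹ =
      ((R (Additive.ofMul w)).toMul : G ⧸ phiCore p G) := fun w => (coreRep_apply x _).symm
  have hxN : xb ∈ normalizer (U0 : Set (G ⧸ phiCore p G)) := by
    refine mem_normalizer_iff_map_conj_eq.mpr
      (eq_of_le_of_card_ge ?_ (card_map_of_injective (MulAut.conj xb).injective).ge)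
    rintro _ ⟨w, hw, rfl⟩
    obtain ⟨w', hw', rfl⟩ := hw
    show xb * (w' : G ⧸ phiCore p G) * xb⁻¹ ∈ U0
    rw [hconjV, hmemU]
    have h0 : F (Additive.ofMul w') = 0 := (hmemU w').mp ⟨w', hw', rfl⟩
    funext i
    have hR' : R = T + 1 := by rw [hT, sub_add_cancel]
    rw [ofMul_toMul, hR', LinearMap.add_apply, Module.End.one_apply, map_add, Pi.add_apply, hFT,
      h0, Pi.zero_apply, add_zero]
    rcases Nat.lt_or_ge ((i : ℕ) + 1) p with hlt | hge
    · exact congrFun h0 ⟨_, hlt⟩
    · rw [pow_eq_zero_of_le hge hTp, LinearMap.zero_apply, map_zero]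
  have hVN : V ≤ normalizer (U0 : Set (G ⧸ phiCore p G)) := fun a ha => by
    refine mem_normalizer_iff_map_conj_eq.mpr
      (eq_of_le_of_card_ge ?_ (card_map_of_injective (MulAut.conj a).injective).ge)
    rintro _ ⟨w, hw, rfl⟩
    show a * w * a⁻¹ ∈ U0
    rw [show a * w = w * a from congrArg Subtype.val (mul_comm (⟨a, ha⟩ : ↥V) ⟨w, hU0V hw⟩),
      mul_inv_cancel_right]
    exact hw
  have hKN : K ≤ normalizer (U0 : Set (G ⧸ phiCore p G)) :=
    sup_le hVN (Subgroup.zpowers_le.mpr hxN)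
  have hVK : V ≤ K := le_sup_left
  set U : Subgroup ↥K := U0.subgroupOf K
  haveI hUn : U.Normal := normal_subgroupOf_of_le_normalizer hKN
  let q := QuotientGroup.mk' U
  let g : ↥V →* (↥K ⧸ U) := q.comp (Subgroup.inclusion hVK)
  set B := g.range with hB
  have hkerg : g.ker = Fm.ker := by
    ext w
    rw [MonoidHom.mem_ker, MonoidHom.comp_apply, QuotientGroup.mk'_apply,
      QuotientGroup.eq_one_iff, mem_subgroupOf]
    show (w : G ⧸ phiCore p G) ∈ U0 ↔ _
    rw [hmemU, MonoidHom.mem_ker]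
    exact ⟨fun h => by simp [Fm, h], fun h => Multiplicative.ofAdd.injective (by simpa [Fm] using h)⟩
  have hFmsurj : Function.Surjective Fm := fun y => by
    obtain ⟨w, hw⟩ := hFsurj (Multiplicative.toAdd y)
    exact ⟨Additive.toMul w, by simp [Fm, hw]⟩
  let eB : ↥B ≃* Multiplicative (Fin p → ZMod p) :=
    ((QuotientGroup.quotientKerEquivRange g).symm.trans
      (QuotientGroup.quotientMulEquivOfEq hkerg)).trans
        (QuotientGroup.quotientKerEquivOfSurjective Fm hFmsurj)
  have hcardF : Nat.card (Multiplicative (Fin p → ZMod p)) = p ^ p := by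
    rw [Nat.card_congr Multiplicative.toAdd, Nat.card_pi, Finset.prod_const, Finset.card_univ,
      Fintype.card_fin, Nat.card_zmod]
  have hBn : B.Normal := by
    have : B = (V.subgroupOf K).map q := by
      rw [hB, MonoidHom.range_eq_map, ← map_map]
      congr 1
      ext w
      constructor
      · rintro ⟨w', -, rfl⟩; exact mem_subgroupOf.mpr w'.2
      · intro hw; exact ⟨⟨w, mem_subgroupOf.mp hw⟩, mem_top _, Subtype.ext rfl⟩
    rw [this]
    exact Normal.map inferInstance q (QuotientGroup.mk'_surjective U)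
  -- the complement
  set c : Additive ↥V := Additive.ofMul ⟨xb ^ p, hcV⟩ with hc
  have hTc : T c = 0 := by
    refine Additive.toMul.injective (Subtype.ext ?_)
    rw [hT, LinearMap.sub_apply, Module.End.one_apply, sub_eq_add_neg, toMul_add, toMul_neg,
      Subgroup.coe_mul, Subgroup.coe_inv, hR, coreRep_apply, toMul_zero, OneMemClass.coe_one]
    show xb * xb ^ p * xb⁻¹ * (xb ^ p)⁻¹ = 1
    rw [(Commute.self_pow xb p).eq, mul_inv_cancel_right, mul_inv_cancel]
  set w0 : Additive ↥V := -(ψ c) • v with hw0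
  obtain ⟨a0, ha0, hav0⟩ := w0.toMul.2
  set y : G := a0 * x with hy
  have hπy : π y = (w0.toMul : G ⧸ phiCore p G) * xb := by
    rw [hy, map_mul, hav0]
  have hyK : π y ∈ K := by
    rw [hπy]; exact K.mul_mem (hVK w0.toMul.2) (mem_sup_right (mem_zpowers xb))
  set t : ↥K ⧸ U := q ⟨π y, hyK⟩ with ht
  have hy_pow : π (y ^ p) = (((T ^ (p - 1)) w0 + c).toMul : G ⧸ phiCore p G) := by
    rw [hy, mk_mul_pow x a0 ha0 p, toMul_add, Subgroup.coe_mul, map_pow]
    congr 1
    have hsum := sub_one_pow_pred (k := ZMod p) (p := p) R 1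
    rw [pow_one] at hsum
    rw [hT, hsum, LinearMap.sum_apply, show w0 = Additive.ofMul (⟨π a0, mem_map_of_mem π ha0⟩ : ↥V)
      from Additive.toMul.injective (Subtype.ext hav0.symm)]
  have htp : t ^ p = 1 := by
    rw [ht, ← map_pow]
    refine (QuotientGroup.eq_one_iff _).mpr (mem_subgroupOf.mpr ?_)
    rw [SubgroupClass.coe_pow, ← map_pow, hy_pow, hmemU, ofMul_toMul]
    funext i
    rw [map_add, Pi.add_apply, hF, hF, ← Module.End.mul_apply, ← pow_add]
    rcases Nat.eq_zero_or_pos (i : ℕ) with hi | hi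
    · rw [hi, Nat.zero_add, pow_zero, Module.End.one_apply, hw0, map_smul, map_smul, hψ,
        smul_eq_mul, mul_one, neg_add_cancel, Pi.zero_apply]
    · obtain ⟨m, hm⟩ : ∃ m, (i : ℕ) = m + 1 := ⟨i - 1, by omega⟩
      rw [pow_eq_zero_of_le (show p ≤ (i : ℕ) + (p - 1) by omega) hTp, LinearMap.zero_apply,
        map_zero, zero_add, hm, pow_succ, Module.End.mul_apply, hTc, map_zero, map_zero,
        Pi.zero_apply]
  have hπmem : ∀ g' : G, π g' ∈ V → g' ∈ pCore p G := by
    rintro g' ⟨a, ha, e⟩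
    have h1 : a⁻¹ * g' ∈ phiCore p G := QuotientGroup.eq.mp e
    have h2 : a⁻¹ * g' ∈ pCore p G := map_subtype_le _ h1
    simpa using (pCore p G).mul_mem ha h2
  have htB : t ∉ B := by
    rintro ⟨w, hw⟩
    have h1 : ((⟨π y, hyK⟩ : ↥K)⁻¹ * Subgroup.inclusion hVK w) ∈ U := QuotientGroup.eq.mp hw.symm
    have h2 : (π y)⁻¹ * (w : G ⧸ phiCore p G) ∈ V := hU0V (mem_subgroupOf.mp h1)
    have h3 : π y ∈ V := by
      simpa using V.mul_mem w.2 (V.inv_mem h2)
    have h4 := hπmem y h3
    rw [hy] at h4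
    exact hx ((Subgroup.mul_mem_cancel_left _ ha0).mp h4)
  have ht1 : t ≠ 1 := fun h => htB (h ▸ one_mem B)
  have hto : orderOf t = p := orderOf_eq_prime htp ht1
  have hcardB : Nat.card B = p ^ p := (Nat.card_congr eB.toEquiv).trans hcardF
  have hcardW : Nat.card (↥K ⧸ U) = p ^ (p + 1) := by
    have hsup : B ⊔ zpowers t = ⊤ := by
      refine eq_top_iff.mpr fun z _ => ?_
      obtain ⟨⟨k, hk⟩, rfl⟩ := QuotientGroup.mk'_surjective U z
      have hle : K ≤ ((B ⊔ zpowers t).comap q).map K.subtype := by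
        refine sup_le (fun w hw => ⟨⟨w, hVK hw⟩, mem_sup_left ⟨⟨w, hw⟩, rfl⟩, rfl⟩) ?_
        refine Subgroup.zpowers_le.mpr ⟨(⟨(w0.toMul : G ⧸ phiCore p G), hVK w0.toMul.2⟩ : ↥K)⁻¹ *
          ⟨π y, hyK⟩, ?_, ?_⟩
        · show q _ ∈ B ⊔ zpowers t
          rw [map_mul, map_inv]
          exact (B ⊔ zpowers t).mul_mem ((B ⊔ zpowers t).inv_mem
            (mem_sup_left ⟨w0.toMul, rfl⟩)) (mem_sup_right (mem_zpowers t))
        · show (w0.toMul : G ⧸ phiCore p G)⁻¹ * π y = xb
          rw [hπy, inv_mul_cancel_left]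
      obtain ⟨k', hk', e⟩ := hle hk
      obtain rfl : k' = ⟨k, hk⟩ := Subtype.ext e
      exact hk'
    have hinf : B ⊓ zpowers t = ⊥ := by
      refine (eq_bot_iff_forall _).mpr fun z hz => ?_
      obtain ⟨hzB, hzt⟩ := mem_inf.mp hz
      by_contra hz1
      have hd : Nat.card (zpowers z) ∣ p := (card_dvd_of_le (Subgroup.zpowers_le.mpr hzt)).trans
        (dvd_of_eq ((Nat.card_zpowers t).trans hto))
      rcases (Nat.dvd_prime hp.out).mp hd with h | h
      · exact hz1 (zpowers_eq_bot.mp (eq_bot_of_card_eq _ h))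
      · have := eq_of_le_of_card_ge (Subgroup.zpowers_le.mpr hzt)
          (by rw [h, Nat.card_zpowers, hto])
        exact htB ((Subgroup.zpowers_le.mpr hzB) (this.ge (mem_zpowers t)))
    have h1 := Basics.card_mul_card_eq_card_sup_mul_card_inf (N := B) (H := zpowers t)
      (fun _ _ => by rw [normalizer_eq_top]; trivial)
    rw [hsup, hinf, card_bot, card_top, mul_one, hcardB, Nat.card_zpowers, hto] at h1
    rw [← h1, pow_succ]
  refine ⟨U, hUn, B, t, hBn, ?_, ?_, hcardB, hto, htB, hcardW, ?_⟩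
  · exact ⟨⟨fun a b => eB.injective (by rw [map_mul, map_mul, mul_comm])⟩⟩
  · rintro _ ⟨w, rfl⟩
    rw [← map_pow, coreModule_pow_eq_one w, map_one]
  -- the centralizer of `t`
  let e0 : ↥B → ZMod p := fun b => Multiplicative.toAdd (eB b) ⟨0, hp.out.pos⟩
  have heB : ∀ w : ↥V, eB ⟨g w, w, rfl⟩ = Fm w := by
    intro w
    show (QuotientGroup.quotientKerEquivOfSurjective Fm hFmsurj)
      ((QuotientGroup.quotientMulEquivOfEq hkerg)
        ((QuotientGroup.quotientKerEquivRange g).symm ⟨g w, w, rfl⟩)) = _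
    have : (QuotientGroup.quotientKerEquivRange g).symm ⟨g w, w, rfl⟩ = QuotientGroup.mk w :=
      (MulEquiv.symm_apply_eq _).mpr rfl
    rw [this]
    rfl
  have hcomm : ∀ w : ↥V, g w * t = t * g w ↔
      ∀ i : Fin p, (i : ℕ) ≠ 0 → F (Additive.ofMul w) i = 0 := by
    intro w
    have hk : g w * t = t * g w ↔
        (π y * (w : G ⧸ phiCore p G) * (π y)⁻¹ * (w : G ⧸ phiCore p G)⁻¹) ∈ U0 := by
      rw [eq_comm, ← mul_inv_eq_iff_eq_mul, ← mul_inv_eq_one]
      show q _ * q _ * (q _)⁻¹ * (q _)⁻¹ = 1 ↔ _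
      rw [← map_inv, ← map_inv, ← map_mul, ← map_mul, ← map_mul, QuotientGroup.mk'_apply,
        QuotientGroup.eq_one_iff, mem_subgroupOf]
      rfl
    have hTw : π y * (w : G ⧸ phiCore p G) * (π y)⁻¹ * (w : G ⧸ phiCore p G)⁻¹ =
        ((T (Additive.ofMul w)).toMul : G ⧸ phiCore p G) := by
      rw [hT, LinearMap.sub_apply, Module.End.one_apply, sub_eq_add_neg, toMul_add, toMul_neg,
        Subgroup.coe_mul, Subgroup.coe_inv, ← hconjV, toMul_ofMul, hπy, mul_inv_rev]
      congr 1
      have h1 : xb * (w : G ⧸ phiCore p G) * xb⁻¹ ∈ V := by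
        rw [hconjV]; exact (R (Additive.ofMul w)).toMul.2
      calc (w0.toMul : G ⧸ phiCore p G) * xb * w * (xb⁻¹ * (w0.toMul : G ⧸ phiCore p G)⁻¹)
          = (w0.toMul : G ⧸ phiCore p G) * (xb * w * xb⁻¹) *
            (w0.toMul : G ⧸ phiCore p G)⁻¹ := by group
        _ = xb * w * xb⁻¹ := by
            rw [show (w0.toMul : G ⧸ phiCore p G) * (xb * w * xb⁻¹) =
              xb * w * xb⁻¹ * (w0.toMul : G ⧸ phiCore p G) from
                congrArg Subtype.val (mul_comm w0.toMul (⟨_, h1⟩ : ↥V)), mul_inv_cancel_right]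
    rw [hk, hTw, hmemU, ofMul_toMul]
    constructor
    · intro h i hi
      have h2 := congrFun h ⟨i - 1, by omega⟩
      rw [hFT, show (i : ℕ) - 1 + 1 = i by omega] at h2
      exact h2
    · intro h
      funext i
      rw [hFT]
      rcases Nat.lt_or_ge ((i : ℕ) + 1) p with hlt | hge
      · exact h ⟨_, hlt⟩ (Nat.succ_ne_zero _)
      · rw [pow_eq_zero_of_le hge hTp, LinearMap.zero_apply, map_zero]; rfl
  have hval : ∀ w : ↥V, ∀ hw : g w ∈ B, e0 ⟨g w, hw⟩ = F (Additive.ofMul w) ⟨0, hp.out.pos⟩ := by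
    intro w hw
    show Multiplicative.toAdd (eB ⟨g w, w, rfl⟩) _ = _
    rw [heB]
    rfl
  have hbij : Function.Bijective
      (fun b : ↥(B ⊓ centralizer ({t} : Set (↥K ⧸ U))) => e0 ⟨b.1, b.2.1⟩) := by
    constructor
    · rintro ⟨_, ⟨w, rfl⟩, hw⟩ ⟨_, ⟨w', rfl⟩, hw'⟩ h
      have h' := ((hval w ⟨w, rfl⟩).symm.trans h).trans (hval w' ⟨w', rfl⟩)
      have h1 := (hcomm w).mp (mem_centralizer_singleton_iff.mp hw)
      have h2 := (hcomm w').mp (mem_centralizer_singleton_iff.mp hw')
      refine Subtype.ext ?_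
      have hFe : Fm w = Fm w' := by
        show Multiplicative.ofAdd _ = Multiplicative.ofAdd _
        congr 1
        funext i
        rcases eq_or_ne (i : ℕ) 0 with hi | hi
        · rw [show i = ⟨0, hp.out.pos⟩ from Fin.ext hi]; exact h'
        · rw [h1 i hi, h2 i hi]
      refine inv_mul_eq_one.mp ?_
      show (g w)⁻¹ * g w' = 1
      rw [← map_inv, ← map_mul, ← MonoidHom.mem_ker, hkerg, MonoidHom.mem_ker, map_mul, map_inv,
        hFe, inv_mul_cancel]
    · intro a
      obtain ⟨w, hw⟩ := hFsurj (fun i : Fin p => if (i : ℕ) = 0 then a else 0)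
      refine ⟨⟨g w.toMul, ⟨⟨w.toMul, rfl⟩, mem_centralizer_singleton_iff.mpr ((hcomm _).mpr ?_)⟩⟩,
        ?_⟩
      · intro i hi
        rw [ofMul_toMul, hw]
        simp [hi]
      · show e0 _ = a
        rw [hval, ofMul_toMul, hw]
        simp
  rw [Nat.card_congr (Equiv.ofBijective _ hbij), Nat.card_zmod]

end Cfsg.Agent.HallHigman
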